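import Mathlib
import Groth.Agent.Adic.FiniteModule

set_option autoImplicit false
universe u v

namespace Groth.Agent.WQ8

open IsLocalRing

variable {k : Type v} [Field k] {A : Type u} [CommRing A] [IsLocalRing A] [Algebra k A]

theorem exists_aeval [IsAdicComplete (maximalIdeal A) A] {n : ℕ} (x : Fin n → A)
    (hx : ∀ i, x i ∈ maximalIdeal A) : ∃ φ : MvPowerSeries (Fin n) k →ₐ[k] A, (∀ i, φ (MvPowerSeries.X i) = x i) ∧
      ∀ f N, ∃ P : MvPolynomial (Fin n) k, φ f - MvPolynomial.aeval x P ∈ maximalIdeal A ^ N := by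
  let J := MvPolynomial.idealOfVars (Fin n) k
  let g : MvPolynomial (Fin n) k →ₐ[k] A := MvPolynomial.aeval x
  have hJ : J ≤ (maximalIdeal A).comap g := by
    rw [show J = Ideal.span (Set.range MvPolynomial.X) from rfl, Ideal.span_le]
    rintro _ ⟨i, rfl⟩
    simpa [g] using hx i
  have hJm : ∀ m, J ^ m ≤ (maximalIdeal A ^ m).comap g.toRingHom := fun m => by
    rw [← Ideal.map_le_iff_le_comap, Ideal.map_pow]
    exact Ideal.pow_right_mono (Ideal.map_le_iff_le_comap.mpr hJ) m
  let e := MvPowerSeries.toAdicCompletionAlgEquiv (Fin n) k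
  let F : ∀ m, MvPowerSeries (Fin n) k →+* A ⧸ maximalIdeal A ^ m := fun m =>
    (Ideal.quotientMap _ g.toRingHom (hJm m)).comp ((AdicCompletion.evalₐ J m).toRingHom.comp e.toAlgHom.toRingHom)
  have hF : ∀ {a b : ℕ} (hle : a ≤ b), (Ideal.Quotient.factorPow (maximalIdeal A) hle).comp (F b) = F a := by
    intro a b hle
    ext f
    obtain ⟨c, hc⟩ := AdicCompletion.mk_surjective J (MvPolynomial (Fin n) k) (e f)
    simp only [F, RingHom.comp_apply, AlgHom.toRingHom_eq_coe, RingHom.coe_coe, AlgEquiv.coe_toAlgHom]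
    rw [← hc, AdicCompletion.evalₐ_mk, AdicCompletion.evalₐ_mk, Ideal.quotientMap_mk, Ideal.quotientMap_mk, Ideal.Quotient.factorPow,
      Ideal.Quotient.factor_mk, Ideal.Quotient.eq, ← map_sub]
    refine hJm a ?_
    have := c.property hle
    rw [SModEq.sub_mem, smul_eq_mul, Ideal.mul_top] at this
    simpa using neg_mem this
  let φ₀ := IsAdicComplete.liftRingHom (maximalIdeal A) F hF
  have hpoly : ∀ (P : MvPolynomial (Fin n) k), φ₀ (P : MvPowerSeries (Fin n) k) = g P := fun P => by
    rw [← sub_eq_zero]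
    refine IsHausdorff.haus' (I := maximalIdeal A) _ fun m => ?_
    rw [SModEq.zero, smul_eq_mul, Ideal.mul_top, ← Ideal.Quotient.eq, IsAdicComplete.mk_liftRingHom]
    simp only [F, RingHom.comp_apply, AlgHom.toRingHom_eq_coe, RingHom.coe_coe, AlgEquiv.coe_toAlgHom]
    rw [show e (P : MvPowerSeries (Fin n) k) = AdicCompletion.of J (MvPolynomial (Fin n) k) P from MvPowerSeries.toAdicCompletion_coe P,
      AdicCompletion.evalₐ_of, Ideal.quotientMap_mk]
    rfl
  refine ⟨{ φ₀ with commutes' := fun c => ?_ }, fun i => ?_, fun f N => ?_⟩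
  · show φ₀ (algebraMap k (MvPowerSeries (Fin n) k) c) = algebraMap k A c
    rw [show algebraMap k (MvPowerSeries (Fin n) k) c = ((MvPolynomial.C c : MvPolynomial (Fin n) k) : MvPowerSeries (Fin n) k) by rw [MvPolynomial.coe_C, MvPowerSeries.c_eq_algebraMap], hpoly]
    simp [g]
  · show φ₀ (MvPowerSeries.X i) = x i
    rw [← MvPolynomial.coe_X, hpoly]; simp [g]
  · obtain ⟨c, hc⟩ := AdicCompletion.mk_surjective J (MvPolynomial (Fin n) k) (e f)
    refine ⟨c.val N, ?_⟩
    show φ₀ f - g (c.val N) ∈ maximalIdeal A ^ N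
    rw [← Ideal.Quotient.eq, IsAdicComplete.mk_liftRingHom]
    simp only [F, RingHom.comp_apply, AlgHom.toRingHom_eq_coe, RingHom.coe_coe, AlgEquiv.coe_toAlgHom]
    rw [← hc, AdicCompletion.evalₐ_mk, Ideal.quotientMap_mk]
    rfl

theorem finite_of_primary [IsNoetherianRing A] [IsAdicComplete (maximalIdeal A) A]
    (hk : Function.Surjective (residue A ∘ algebraMap k A)) {n : ℕ} (φ : MvPowerSeries (Fin n) k →ₐ[k] A)
    (x : Fin n → A) (hφ : ∀ i, φ (MvPowerSeries.X i) = x i) (hxm : ∀ i, x i ∈ maximalIdeal A)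
    (hx : maximalIdeal A ≤ (Ideal.span (Set.range x)).radical) :
    φ.toRingHom.Finite := by
  letI := φ.toRingHom.toAlgebra
  show Module.Finite (MvPowerSeries (Fin n) k) A
  let R := MvPowerSeries (Fin n) k
  let I : Ideal R := Ideal.span (Set.range MvPowerSeries.X)
  haveI : IsScalarTower k R A := IsScalarTower.of_algebraMap_eq fun c => (φ.commutes c).symm
  have hmap : I.map (algebraMap R A) = Ideal.span (Set.range x) := by
    rw [Ideal.map_span, ← Set.range_comp]; congr 2; exact funext hφ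
  haveI : IsHausdorff I A := ⟨fun z hz => IsHausdorff.haus' (I := maximalIdeal A) z fun m => by
    have := hz m
    rw [SModEq.zero, Ideal.smul_top_eq_map, Submodule.restrictScalars_mem, Ideal.map_pow, hmap] at this
    rw [SModEq.zero, smul_eq_mul, Ideal.mul_top]
    exact Ideal.pow_right_mono (Ideal.span_le.mpr (Set.range_subset_iff.mpr hxm)) m this⟩
  obtain ⟨N, hN⟩ := Ideal.exists_pow_le_of_le_radical_of_fg hx (IsNoetherian.noetherian _)
  have fin : ∀ m, ∃ S : Finset A, ∀ a : A, ∃ z ∈ Submodule.span k (S : Set A), a - z ∈ maximalIdeal A ^ m := by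
    classical
    intro m
    induction m with
    | zero => exact ⟨∅, fun a => ⟨0, zero_mem _, by simp⟩⟩
    | succ m ih =>
      obtain ⟨S, hS⟩ := ih
      obtain ⟨T, hT⟩ := (IsNoetherian.noetherian (maximalIdeal A ^ m) : (maximalIdeal A ^ m).FG)
      refine ⟨S ∪ T, fun a => ?_⟩
      obtain ⟨z, hz, hzm⟩ := hS a
      rw [← hT] at hzm
      obtain ⟨c, hc⟩ := (Submodule.mem_span_finset'.mp hzm)
      choose l hl using fun t : {t // t ∈ T} => hk (residue A (c t))
      refine ⟨z + ∑ t : {t // t ∈ T}, l t • (t : A), add_mem (Submodule.span_mono (by simp) hz)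
        (sum_mem fun t _ => Submodule.smul_mem _ _ (Submodule.subset_span (by simp [t.2]))), ?_⟩
      rw [← sub_sub, ← hc, ← Finset.sum_sub_distrib, pow_succ']
      refine sum_mem fun t _ => ?_
      rw [smul_eq_mul, Algebra.smul_def, ← sub_mul]
      exact Ideal.mul_mem_mul (Ideal.Quotient.eq.mp (hl t).symm) (hT ▸ Ideal.subset_span t.2)
  obtain ⟨S, hS⟩ := fin N
  haveI hq : Module.Finite R (A ⧸ (I • ⊤ : Submodule R A)) := by
    let f : (S → R) →ₗ[R] A := Fintype.linearCombination R (fun s : S => (s : A))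
    refine Module.Finite.of_surjective ((Submodule.mkQ _).comp f) fun y => ?_
    obtain ⟨a, rfl⟩ := Submodule.mkQ_surjective _ y
    obtain ⟨z, hz, hza⟩ := hS a
    obtain ⟨c, hc⟩ := Submodule.mem_span_finset'.mp hz
    refine ⟨fun s => algebraMap k R (c s), ?_⟩
    rw [LinearMap.comp_apply, Submodule.mkQ_apply, Submodule.mkQ_apply, Submodule.Quotient.eq, Ideal.smul_top_eq_map, Submodule.restrictScalars_mem, hmap]
    have : f (fun s => algebraMap k R (c s)) = z := by
      rw [← hc]; simp only [f, Fintype.linearCombination_apply, algebraMap_smul]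
    rw [this, ← neg_sub]
    exact neg_mem (hN hza)
  obtain ⟨m, g, hg⟩ := Module.Finite.exists_fin' R (A ⧸ (I • ⊤ : Submodule R A))
  obtain ⟨f, hf⟩ := Module.projective_lifting_property (Submodule.mkQ _) g (Submodule.mkQ_surjective _)
  have := Adic.FiniteModule.isPrecomplete_pi (I := I) m
  exact Module.Finite.of_surjective f (surjective_of_mkQ_comp_surjective (I := I) (by rw [hf]; exact hg))

end Groth.Agent.WQ8
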