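import Groth.Agent.WQ8.Invariants
import Groth.Agent.WQ8.PowerSeries

set_option autoImplicit false
universe u v w

namespace Groth.Agent.WQ8

open IsLocalRing Polynomial

theorem ringKrullDim_eq_of_integral {R T : Type u} [CommRing R] [CommRing T] [Algebra R T]
    [Algebra.IsIntegral R T] (hinj : Function.Injective (algebraMap R T)) : ringKrullDim T = ringKrullDim R := by
  refine le_antisymm ?_ (dim_le_of_integral hinj)
  rw [← PrimeSpectrum.topologicalKrullDim_eq_ringKrullDim T, ← PrimeSpectrum.topologicalKrullDim_eq_ringKrullDim R]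
  refine Topo.IntegralDim.dim_le _ (PrimeSpectrum.continuous_comap _)
    (PrimeSpectrum.isClosedMap_comap_of_isIntegral _ (algebraMap_isIntegral_iff.mpr inferInstance)) fun x y hxy he => ?_
  rcases ((PrimeSpectrum.le_iff_specializes x y).mpr hxy).lt_or_eq with hlt | heq
  · exact absurd (congrArg PrimeSpectrum.asIdeal he) (Ideal.IsIntegral.comap_lt_comap (R := R)
      (show x.asIdeal < y.asIdeal from hlt)).ne
  · rw [heq]

/-- the inclusion of the invariants, as an algebra -/
theorem finite_invariants (A : Type u) [CommRing A] [IsLocalRing A] [IsNoetherianRing A]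
    [IsAdicComplete (maximalIdeal A) A] (k : Type v) [Field k] [Algebra k A]
    (hk : Function.Surjective (residue A ∘ algebraMap k A))
    (G : Type w) [Group G] [Finite G] [MulSemiringAction G A]
    (hGk : ∀ (σ : G) (c : k), σ • algebraMap k A c = algebraMap k A c) :
    IsNoetherianRing (FixedPoints.subring A G) ∧ Module.Finite (FixedPoints.subring A G) A ∧
      IsLocalRing (FixedPoints.subring A G) ∧
      IsAdicComplete (Ideal.comap (FixedPoints.subring A G).subtype (maximalIdeal A)) (FixedPoints.subring A G) := by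
  classical
  haveI : Fintype G := Fintype.ofFinite G
  let B := FixedPoints.subring A G
  obtain ⟨n, u, hu⟩ := Submodule.fg_iff_exists_fin_generating_family.mp (IsNoetherian.noetherian (maximalIdeal A))
  let g := Fintype.card G
  let P : Fin n → A[X] := fun i => ∏ σ : G, (X - C (σ • u i))
  have hsm : ∀ (σ : G) {z : A}, z ∈ maximalIdeal A → σ • z ∈ maximalIdeal A := fun σ z hz h =>
    hz (by simpa using (MulSemiringAction.toRingHom G A σ⁻¹).isUnit_map h)
  have hum : ∀ i, u i ∈ maximalIdeal A := fun i => hu ▸ Submodule.subset_span ⟨i, rfl⟩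
  have hPfix : ∀ (σ : G) i, (P i).map (MulSemiringAction.toRingHom G A σ) = P i := fun σ i => by
    simp only [P, Polynomial.map_prod, Polynomial.map_sub, map_X, map_C, MulSemiringAction.toRingHom_apply, smul_smul]
    exact Fintype.prod_equiv (Equiv.mulLeft σ) _ _ fun h => rfl
  have hPmon : ∀ i, (P i).Monic := fun i => monic_prod_of_monic _ _ fun σ _ => monic_X_sub_C _
  have hPdeg : ∀ i, (P i).natDegree = g := fun i => by
    simp only [P]; rw [natDegree_prod_of_monic _ _ (fun σ _ => monic_X_sub_C (σ • u i))]; simp [g]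
  let x : Fin (n * g) → A := fun z => (P (finProdFinEquiv.symm z).1).coeff (finProdFinEquiv.symm z).2
  have hxm : ∀ z, x z ∈ maximalIdeal A := by
    intro z
    have hmap : (P (finProdFinEquiv.symm z).1).map (Ideal.Quotient.mk (maximalIdeal A)) = X ^ g := by
      simp only [P, Polynomial.map_prod, Polynomial.map_sub, map_X, map_C]
      rw [Finset.prod_congr rfl (fun σ _ => by rw [Ideal.Quotient.eq_zero_iff_mem.mpr (hsm σ (hum _)), map_zero, sub_zero] :
        ∀ σ ∈ (Finset.univ : Finset G), _ = (X : (A ⧸ maximalIdeal A)[X])), Finset.prod_const, Finset.card_univ]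
    have := congrArg (fun q => Polynomial.coeff q ((finProdFinEquiv.symm z).2 : ℕ)) hmap
    simp only [Polynomial.coeff_map, coeff_X_pow, if_neg (finProdFinEquiv.symm z).2.isLt.ne] at this
    exact Ideal.Quotient.eq_zero_iff_mem.mp this
  have hxrad : maximalIdeal A ≤ (Ideal.span (Set.range x)).radical := by
    rw [← hu]
    refine Submodule.span_le.mpr ?_
    rintro _ ⟨i, rfl⟩
    refine ⟨g, ?_⟩
    have hev : (P i).eval (u i) = 0 := by
      simp only [P, eval_prod, eval_sub, eval_X, eval_C]
      exact Finset.prod_eq_zero (Finset.mem_univ 1) (by simp)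
    rw [eval_eq_sum_range, hPdeg, Finset.sum_range_succ, ← hPdeg, (hPmon i).coeff_natDegree, one_mul, hPdeg] at hev
    rw [eq_neg_of_add_eq_zero_right hev]
    refine neg_mem (sum_mem fun j hj => Ideal.mul_mem_right _ _ (Ideal.subset_span ⟨finProdFinEquiv (i, ⟨j, Finset.mem_range.mp hj⟩), ?_⟩))
    simp only [x]
    rw [Equiv.symm_apply_apply]
  obtain ⟨φ, hφX, hφa⟩ := exists_aeval (k := k) x hxm
  have hφfin := finite_of_primary hk φ x hφX hxm hxrad
  let R := MvPowerSeries (Fin (n * g)) k
  letI : Algebra R A := φ.toRingHom.toAlgebra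
  haveI : Module.Finite R A := hφfin
  have hfix : ∀ (σ : G) (f : R), σ • φ f = φ f := by
    intro σ f
    rw [← sub_eq_zero]
    refine IsHausdorff.haus' (I := maximalIdeal A) _ fun N => ?_
    rw [SModEq.zero, smul_eq_mul, Ideal.mul_top]
    obtain ⟨Q, hQ⟩ := hφa f N
    have hQfix : σ • MvPolynomial.aeval x Q = MvPolynomial.aeval x Q := by
      clear hQ
      induction Q using MvPolynomial.induction_on with
      | C a => rw [MvPolynomial.aeval_C]; exact hGk σ a
      | add p q hp hq => rw [map_add, smul_add, hp, hq]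
      | mul_X p i hp =>
        rw [map_mul, smul_mul', hp, MvPolynomial.aeval_X]
        congr 1
        have := congrArg (fun q => Polynomial.coeff q ((finProdFinEquiv.symm i).2 : ℕ)) (hPfix σ (finProdFinEquiv.symm i).1)
        simpa [x, Polynomial.coeff_map] using this
    have hle : Ideal.map (MulSemiringAction.toRingHom G A σ) (maximalIdeal A) ≤ maximalIdeal A :=
      Ideal.map_le_iff_le_comap.mpr fun z hz => hsm σ hz
    have hm : σ • (φ f - MvPolynomial.aeval x Q) ∈ maximalIdeal A ^ N := by
      have := Ideal.mem_map_of_mem (MulSemiringAction.toRingHom G A σ) hQ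
      rw [Ideal.map_pow] at this
      exact Ideal.pow_right_mono hle N this
    rw [smul_sub, hQfix] at hm
    convert sub_mem hm hQ using 1; ring
  let ι : R →+* B := φ.toRingHom.codRestrict B fun f σ => hfix σ f
  letI : Algebra R B := ι.toAlgebra
  haveI : IsScalarTower R B A := IsScalarTower.of_algebraMap_eq fun _ => rfl
  haveI : IsNoetherian R A := isNoetherian_of_isNoetherianRing_of_finite R A
  let inc : B →ₗ[R] A := (IsScalarTower.toAlgHom R B A).toLinearMap
  have hinc : Function.Injective inc := Subtype.val_injective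
  haveI : Module.Finite R B := Module.Finite.of_injective inc hinc
  haveI hBA : Module.Finite B A := Module.Finite.of_restrictScalars_finite R B A
  haveI hBN : IsNoetherianRing B := IsNoetherianRing.of_finite R B
  haveI : FaithfulSMul B A := (faithfulSMul_iff_algebraMap_injective B A).mpr Subtype.val_injective
  haveI hBL : IsLocalRing B := RingHom.domain_isLocalRing (algebraMap B A)
  refine ⟨hBN, hBA, hBL, ?_⟩
  let I : Ideal R := Ideal.span (Set.range MvPowerSeries.X)
  haveI : IsAdicComplete I B := Adic.FiniteModule.isAdicComplete_of_finite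
  let mB := Ideal.comap B.subtype (maximalIdeal A)
  have hIle : I.map (algebraMap R B) ≤ mB := by
    rw [Ideal.map_span, Ideal.span_le]
    rintro _ ⟨_, ⟨i, rfl⟩, rfl⟩
    show φ (MvPowerSeries.X i) ∈ maximalIdeal A
    rw [hφX]; exact hxm i
  obtain ⟨e, he⟩ := Ideal.exists_pow_le_of_le_radical_of_fg hxrad (IsNoetherian.noetherian _)
  obtain ⟨c, hc⟩ := Ideal.exists_pow_inf_eq_pow_smul I (LinearMap.range inc)
  have hImapA : I.map (algebraMap R A) = Ideal.span (Set.range x) := by
    rw [Ideal.map_span, ← Set.range_comp]; congr 2; exact funext hφX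
  -- the topologies agree
  have hcmp : ∀ j, mB ^ (e * (j + c)) ≤ (I.map (algebraMap R B)) ^ j := by
    intro j b hb
    have hbA : (b : A) ∈ maximalIdeal A ^ (e * (j + c)) := Ideal.le_comap_pow (f := B.subtype) (K := maximalIdeal A) _ hb
    have h1 : (b : A) ∈ I ^ (j + c) • (⊤ : Submodule R A) ⊓ LinearMap.range inc := by
      refine ⟨?_, b, rfl⟩
      rw [SetLike.mem_coe, Ideal.smul_top_eq_map, Submodule.restrictScalars_mem, Ideal.map_pow, hImapA]
      rw [pow_mul] at hbA
      exact Ideal.pow_right_mono he _ hbA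
    rw [hc (j + c) (Nat.le_add_left c j), Nat.add_sub_cancel] at h1
    have h2 : I ^ j • (I ^ c • (⊤ : Submodule R A) ⊓ LinearMap.range inc) ≤ (I ^ j • (⊤ : Submodule R B)).map inc := by
      rw [Submodule.map_smul'', Submodule.map_top]
      exact smul_mono_right _ inf_le_right
    obtain ⟨b', hb', hbb⟩ := h2 h1
    rw [← hinc hbb, ← Ideal.map_pow]
    rw [SetLike.mem_coe, Ideal.smul_top_eq_map, Submodule.restrictScalars_mem] at hb'
    exact hb'
  have hcmp' : ∀ j, I ^ j • (⊤ : Submodule R B) ≤ (mB ^ j).restrictScalars R := fun j => by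
    rw [Ideal.smul_top_eq_map, Ideal.map_pow]
    exact fun z hz => Ideal.pow_right_mono hIle j hz
  have hsmul : ∀ j (z : B), z ∈ mB ^ j • (⊤ : Submodule B B) ↔ z ∈ mB ^ j := fun j z => by rw [smul_eq_mul, Ideal.mul_top]
  refine { haus' := fun z hz => IsHausdorff.haus' (I := I) z fun j => ?_, prec' := fun f hf => ?_ }
  · have := hz (e * (j + c))
    rw [SModEq.zero, hsmul] at this
    rw [SModEq.zero, Ideal.smul_top_eq_map, Submodule.restrictScalars_mem, Ideal.map_pow]
    exact hcmp j this
  · obtain ⟨L, hL⟩ := IsPrecomplete.prec' (I := I) (fun j => f (e * (j + c) + j)) fun {a b} hab => by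
      have := hf (show e * (a + c) + a ≤ e * (b + c) + b from Nat.add_le_add (Nat.mul_le_mul_left e (by omega)) hab)
      rw [SModEq.sub_mem, hsmul] at this
      rw [SModEq.sub_mem, Ideal.smul_top_eq_map, Submodule.restrictScalars_mem, Ideal.map_pow]
      exact hcmp a (Ideal.pow_le_pow_right (Nat.le_add_right _ _) this)
    refine ⟨L, fun j => ?_⟩
    have h1 := hL j
    rw [SModEq.sub_mem] at h1
    have h1' : f (e * (j + c) + j) - L ∈ mB ^ j := hcmp' j h1
    have h2 := hf (Nat.le_add_left j (e * (j + c)))
    rw [SModEq.sub_mem, hsmul] at h2 ⊢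
    simpa using add_mem h2 h1'

end Groth.Agent.WQ8
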