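import Groth.Agent.CMFlat.Algebra
import Groth.Agent.RegularLocal.Normal
import Mathlib.RingTheory.IntegralClosure.GoingDown
import Mathlib.RingTheory.Ideal.KrullsHeightTheorem
import Mathlib.RingTheory.Flat.Localization

set_option autoImplicit false
set_option linter.style.haveILetI false
universe u

namespace Groth.Agent.WQ8

open IsLocalRing RingTheory.Sequence Groth.Agent.CMFlat.Algebra

/-- Miracle flatness with a fibre of any dimension. -/
theorem flat_of_cm_dim {R S : Type u} [CommRing R] [CommRing S] [IsRegularLocalRing R]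
    [LocCoh.IsCohenMacaulayLocalRing S] [Algebra R S] [IsLocalHom (algebraMap R S)]
    (hdim : ringKrullDim S = ringKrullDim R + ringKrullDim (S ⧸ (maximalIdeal R).map (algebraMap R S))) :
    Module.Flat R S := by
  classical
  obtain ⟨l, hgen, -, hd⟩ := isRegular_generators R
  let J := (maximalIdeal R).map (algebraMap R S)
  have hJ : J ≤ maximalIdeal S := Ideal.map_le_iff_le_comap.mpr fun a ha => map_nonunit _ a ha
  haveI : Nontrivial (S ⧸ J) := Ideal.Quotient.nontrivial_iff.mpr (ne_top_of_le_ne_top (maximalIdeal.isMaximal S).ne_top hJ)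
  haveI : IsLocalRing (S ⧸ J) := IsLocalRing.of_surjective' (Ideal.Quotient.mk J) Ideal.Quotient.mk_surjective
  obtain ⟨t, ht, htc⟩ := (maximalIdeal (S ⧸ J)).exists_finset_card_eq_height_of_isNoetherianRing
  have hFdim : ringKrullDim (S ⧸ J) = (t.card : ℕ) := by
    rw [← IsLocalRing.maximalIdeal_height_eq_ringKrullDim, ← htc]; rfl
  have htm : ∀ x ∈ t, x ∈ maximalIdeal (S ⧸ J) := fun x hx => ht.le (Ideal.subset_span hx)
  choose z hz using fun x : S ⧸ J => Ideal.Quotient.mk_surjective (I := J) x
  let L := l.map (algebraMap R S) ++ t.toList.map z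
  have hdS : ringKrullDim S = (L.length : ℕ) := by
    rw [hdim, hFdim, hd]
    simp [L]
  have hmem : ∀ x ∈ L, x ∈ maximalIdeal S := fun x hx => by
    rcases List.mem_append.mp hx with hx | hx
    · obtain ⟨a, ha, rfl⟩ := List.mem_map.mp hx
      exact map_nonunit _ a (hgen ▸ Ideal.subset_span ha)
    · obtain ⟨a, ha, rfl⟩ := List.mem_map.mp hx
      intro hu
      exact htm a (Finset.mem_toList.mp ha) (hz a ▸ hu.map (Ideal.Quotient.mk J))
  have hrad : maximalIdeal S ≤ (Ideal.ofList L).radical := by
    rw [Ideal.radical_eq_sInf]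
    refine le_sInf fun P hP => ?_
    obtain ⟨hle, hprime⟩ := hP
    haveI := hprime
    have hJP : J ≤ P := by
      show (maximalIdeal R).map (algebraMap R S) ≤ P
      rw [← hgen, Ideal.map_ofList]
      exact (Ideal.span_mono fun x hx => List.mem_append_left _ hx).trans hle
    haveI : (P.map (Ideal.Quotient.mk J)).IsPrime := Ideal.map_isPrime_of_surjective Ideal.Quotient.mk_surjective (by rwa [Ideal.mk_ker])
    have hsp : Ideal.span (t : Set (S ⧸ J)) ≤ P.map (Ideal.Quotient.mk J) := Ideal.span_le.mpr fun x hx => by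
      rw [← hz x]
      exact Ideal.mem_map_of_mem _ (hle (Ideal.subset_span (List.mem_append_right _ (List.mem_map.mpr ⟨x, Finset.mem_toList.mpr hx, rfl⟩))))
    have h1 : maximalIdeal (S ⧸ J) ≤ P.map (Ideal.Quotient.mk J) := ht.2 ⟨inferInstance, hsp⟩ (le_maximalIdeal (Ideal.IsPrime.ne_top inferInstance))
    intro y hy
    haveI : IsLocalHom (Ideal.Quotient.mk J) := IsLocalHom.of_surjective _ Ideal.Quotient.mk_surjective
    have : Ideal.Quotient.mk J y ∈ P.map (Ideal.Quotient.mk J) := h1 (map_nonunit _ y hy)
    rw [← Ideal.mem_comap, Ideal.comap_map_of_surjective _ Ideal.Quotient.mk_surjective, ← RingHom.ker_eq_comap_bot, Ideal.mk_ker,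
      sup_eq_left.mpr hJP] at this
    exact this
  have hreg0 := CMLocal.SOP.sop_isWeaklyRegular L.length hdS L rfl hmem hrad
  obtain ⟨hreg, -⟩ := (isWeaklyRegular_append_iff S _ _).1 hreg0
  rw [isWeaklyRegular_map_algebraMap_iff] at hreg
  have hmu : Function.Injective (Flat.Criteria.mu (maximalIdeal R) S) := by
    have h0 : Function.Injective (Flat.Criteria.mu (⊥ : Ideal R) S) := fun p q _ => Subsingleton.elim _ _
    have h := mu_injective l ⊥ h0 ((LinearEquiv.isWeaklyRegular_congr
      ((Submodule.quotEquivOfEqBot _ (Submodule.bot_smul _)).symm) l).mp hreg)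
    rw [bot_sup_eq, hgen] at h
    exact h
  refine Flat.Criteria.local_criterion (S := S) (maximalIdeal R) ?_ (Function.Injective.of_comp hmu) ?_
  · rw [IsLocalRing.jacobson_eq_maximalIdeal ⊥ bot_ne_top]
    exact hJ
  · letI := Ideal.Quotient.field (maximalIdeal R)
    exact Module.Flat.of_free

theorem flat_of_finite_cm (R S : Type u) [CommRing R] [CommRing S]
    [IsRegularLocalRing R] [IsDomain S] [Algebra R S] [Module.Finite R S]
    (hinj : Function.Injective (algebraMap R S))
    (hCM : ∀ (q : Ideal S) [q.IsMaximal], LocCoh.IsCohenMacaulayLocalRing (Localization.AtPrime q)) :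
    Module.Flat R S := by
  haveI : IsDomain R := RegularLocal.Basic.isDomain
  haveI : IsIntegrallyClosed R := RegularLocal.Normal.isIntegrallyClosed
  haveI : FaithfulSMul R S := (faithfulSMul_iff_algebraMap_injective R S).mpr hinj
  haveI : IsNoetherianRing S := IsNoetherianRing.of_finite R S
  refine Module.flat_of_isLocalized_maximal (S := S) (R := R) S (fun P _ => Localization.AtPrime P)
    (fun P _ => Algebra.linearMap S (Localization.AtPrime P)) fun q hq => ?_
  haveI := hCM q
  haveI hc : (q.comap (algebraMap R S)).IsMaximal := Ideal.isMaximal_comap_of_isIntegral_of_isMaximal q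
  have hcm : q.comap (algebraMap R S) = maximalIdeal R := IsLocalRing.eq_maximalIdeal hc
  haveI : IsLocalHom (algebraMap R (Localization.AtPrime q)) := ⟨fun r hr => by
    by_contra h
    have hrq : algebraMap R S r ∈ q := by
      have : r ∈ q.comap (algebraMap R S) := hcm ▸ h
      exact this
    rw [IsScalarTower.algebraMap_apply R S (Localization.AtPrime q), IsLocalization.AtPrime.isUnit_to_map_iff _ q] at hr
    exact hr hrq⟩
  refine flat_of_cm ?_ ?_
  · rw [Ideal.radical_eq_sInf]
    refine le_sInf fun P hP => ?_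
    obtain ⟨hle, hprime⟩ := hP
    haveI := hprime
    let P' := P.comap (algebraMap S (Localization.AtPrime q))
    have hP'q : P' ≤ q := fun x hx => by
      by_contra hxq
      exact hprime.ne_top (Ideal.eq_top_of_isUnit_mem _ hx ((IsLocalization.AtPrime.isUnit_to_map_iff _ q x).mpr hxq))
    have hP'c : P'.comap (algebraMap R S) = maximalIdeal R := le_antisymm (le_maximalIdeal (Ideal.IsPrime.ne_top inferInstance)) fun r hr => by
      show algebraMap S (Localization.AtPrime q) (algebraMap R S r) ∈ P
      rw [← IsScalarTower.algebraMap_apply]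
      exact hle (Ideal.mem_map_of_mem _ hr)
    haveI : (P'.comap (algebraMap R S)).IsMaximal := hP'c ▸ inferInstance
    haveI : P'.IsMaximal := Ideal.isMaximal_of_isIntegral_of_isMaximal_comap (R := R) P' inferInstance
    have hP' : P' = q := Ideal.IsMaximal.eq_of_le inferInstance hq.ne_top hP'q
    rw [← IsLocalization.map_under q.primeCompl (Localization.AtPrime q) P, show P.under S = q from hP',
      Localization.AtPrime.map_eq_maximalIdeal]
  · rw [IsLocalization.AtPrime.ringKrullDim_eq_height q (Localization.AtPrime q), ← IsLocalRing.maximalIdeal_height_eq_ringKrullDim]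
    haveI : q.LiesOver (maximalIdeal R) := ⟨hcm.symm⟩
    rw [Ideal.height_eq_height_add_of_liesOver_of_hasGoingDown (maximalIdeal R) q]
    exact WithBot.coe_le_coe.mpr le_self_add

end Groth.Agent.WQ8
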