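import Groth.Agent.WQ8.CompleteRegular
import Groth.Agent.Alg.PBasis.Smooth
import Mathlib.RingTheory.AdicCompletion.RingHom

set_option autoImplicit false
set_option linter.style.haveILetI false
universe u

namespace Groth.Agent.WQ8

open IsLocalRing

/-- Every extension of a perfect field is formally smooth. -/
theorem formallySmooth_of_perfect (F K : Type u) [Field F] [PerfectField F] [Field K] [Algebra F K] :
    Algebra.FormallySmooth F K := by
  obtain _ | ⟨p, hp, hpk⟩ := CharP.exists' F
  · obtain ⟨s, hs⟩ := exists_isTranscendenceBasis F K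
    have := hs.isAlgebraic_field
    have : Algebra.IsSeparable (IntermediateField.adjoin F (Set.range (Subtype.val : s → K))) K := by
      have : CharZero (IntermediateField.adjoin F (Set.range (Subtype.val : s → K))) :=
        charZero_of_injective_algebraMap (algebraMap F _).injective
      exact Algebra.IsAlgebraic.isSeparable_of_perfectField
    exact Algebra.FormallySmooth.of_algebraicIndependent_of_isSeparable hs.1
  · haveI : CharP K p := .of_ringHom_of_ne_zero (algebraMap F K) p hp.out.ne_zero
    haveI : ExpChar F p := .prime hp.out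
    haveI : Algebra.IsGeometricallyReduced F K := by
      refine Groth.Agent.Alg.PBasis.geometricallyReduced_of_macLane p fun ι b hb => ?_
      apply hb.map_of_injective_injective (frobeniusEquiv F p).symm (frobenius K p).toAddMonoidHom <;>
        simp [frobenius, Algebra.smul_def, mul_pow, ← map_pow, frobeniusEquiv_symm_pow]
    exact Groth.Agent.Alg.PBasis.formallySmooth_of_geometricallyReduced

theorem perfectField_bot (k₀ : Type u) [Field k₀] : PerfectField (⊥ : Subfield k₀) := by
  obtain _ | ⟨p, hp, hpk⟩ := CharP.exists' k₀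
  · infer_instance
  · haveI : CharP (⊥ : Subfield k₀) p := (Subfield.subtype _).charP Subtype.val_injective p
    haveI : ExpChar (⊥ : Subfield k₀) p := .prime hp.out
    haveI : PerfectRing (⊥ : Subfield k₀) p := PerfectRing.ofSurjective _ p fun x => ⟨x, Subtype.ext <| by
      have h : (x : k₀) ∈ (frobenius k₀ p).eqLocusField (RingHom.id k₀) :=
        (bot_le : (⊥ : Subfield k₀) ≤ _) x.2
      simpa [frobenius_def] using RingHom.mem_eqLocusField.mp h⟩
    exact PerfectRing.toPerfectField _ p

theorem factor_factor {F R : Type u} [CommRing F] [CommRing R] [Algebra F R] {I J K : Ideal R} (h₁ : I ≤ J) (h₂ : J ≤ K)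
    {A : Type u} [CommRing A] [Algebra F A] (g : A →ₐ[F] R ⧸ I) :
    (Ideal.Quotient.factorₐ F h₂).comp ((Ideal.Quotient.factorₐ F h₁).comp g) =
      (Ideal.Quotient.factorₐ F (h₁.trans h₂)).comp g := by
  ext x
  obtain ⟨y, hy⟩ := Ideal.Quotient.mk_surjective (g x)
  simp [← hy]

/-- Existence of a coefficient field over a perfect base field. -/
theorem exists_section (F : Type u) [Field F] [PerfectField F] (R : Type u) [CommRing R] [IsLocalRing R]
    [IsAdicComplete (maximalIdeal R) R] [Algebra F R] :
    ∃ σ : ResidueField R →ₐ[F] R, ∀ x, residue R (σ x) = x := by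
  haveI := formallySmooth_of_perfect F (ResidueField R)
  have hstep : ∀ (n : ℕ) (g : ResidueField R →ₐ[F] R ⧸ maximalIdeal R ^ (n + 1)),
      ∃ g' : ResidueField R →ₐ[F] R ⧸ maximalIdeal R ^ (n + 2),
        (Ideal.Quotient.factorₐ F (Ideal.pow_le_pow_right (Nat.le_succ (n + 1)))).comp g' = g := by
    intro n g
    have hs : Function.Surjective (Ideal.Quotient.factorₐ F
        (Ideal.pow_le_pow_right (I := maximalIdeal R) (Nat.le_succ (n + 1)))) :=
      Ideal.Quotient.factor_surjective (Ideal.pow_le_pow_right (I := maximalIdeal R) (Nat.le_succ (n + 1)))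
    have hk : IsNilpotent (RingHom.ker (Ideal.Quotient.factorₐ F
        (Ideal.pow_le_pow_right (I := maximalIdeal R) (Nat.le_succ (n + 1)))).toRingHom) := by
      refine ⟨2, ?_⟩
      change RingHom.ker (Ideal.Quotient.factor (Ideal.pow_le_pow_right (I := maximalIdeal R) (Nat.le_succ (n + 1)))) ^ 2 = 0
      rw [Ideal.Quotient.factor_ker (Ideal.pow_le_pow_right (I := maximalIdeal R) (Nat.le_succ (n + 1))), ← Ideal.map_pow, ← pow_mul, Ideal.zero_eq_bot, Ideal.map_eq_bot_iff_le_ker, Ideal.mk_ker]
      exact Ideal.pow_le_pow_right (by omega)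
    exact ⟨Algebra.FormallySmooth.liftOfSurjective g _ hs hk, Algebra.FormallySmooth.comp_liftOfSurjective _ _ _ _⟩
  choose step hstep using hstep
  let g0 : ResidueField R →ₐ[F] R ⧸ maximalIdeal R ^ (0 + 1) :=
    Ideal.Quotient.factorₐ F (show maximalIdeal R ≤ maximalIdeal R ^ (0 + 1) by simp)
  let g : ∀ n, ResidueField R →ₐ[F] R ⧸ maximalIdeal R ^ (n + 1) := fun n => Nat.rec g0 step n
  have hg : ∀ {m n : ℕ} (hle : m ≤ n), (Ideal.Quotient.factorₐ F
      (Ideal.pow_le_pow_right (I := maximalIdeal R) (Nat.succ_le_succ hle))).comp (g n) = g m := by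
    intro m n hle
    induction n, hle using Nat.le_induction with
    | base => ext x; obtain ⟨y, hy⟩ := Ideal.Quotient.mk_surjective (g m x); simp [← hy]
    | succ n hmn ih =>
      rw [← ih, ← hstep n (g n), factor_factor]
  let f : ∀ n, ResidueField R →ₐ[F] R ⧸ maximalIdeal R ^ n := fun n =>
    (Ideal.Quotient.factorₐ F (Ideal.pow_le_pow_right (I := maximalIdeal R) (Nat.le_succ n))).comp (g n)
  have hf : ∀ {m n : ℕ} (hle : m ≤ n),
      (Ideal.Quotient.factorₐ F (Ideal.pow_le_pow_right (I := maximalIdeal R) hle)).comp (f n) = f m := by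
    intro m n hle
    change (Ideal.Quotient.factorₐ F _).comp ((Ideal.Quotient.factorₐ F _).comp (g n)) = (Ideal.Quotient.factorₐ F _).comp (g m)
    rw [← hg hle, factor_factor, factor_factor]
  refine ⟨IsAdicComplete.liftAlgHom (maximalIdeal R) f hf, fun x => ?_⟩
  obtain ⟨y, hy⟩ := Ideal.Quotient.mk_surjective x
  have h1 := IsAdicComplete.mk_liftAlgHom (maximalIdeal R) f hf 1 x
  have h2 : f 1 x = Ideal.Quotient.mk (maximalIdeal R ^ 1) y := by
    refine (DFunLike.congr_fun (hg (Nat.zero_le 1)) x).trans ?_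
    rw [← hy]
    rfl
  rw [h2] at h1
  conv_rhs => rw [← hy]
  change Ideal.Quotient.mk (maximalIdeal R) _ = Ideal.Quotient.mk (maximalIdeal R) y
  rw [Ideal.Quotient.mk_eq_mk_iff_sub_mem] at *
  simpa using h1

theorem exists_powerSeriesEquiv (R : Type u) [CommRing R] [IsRegularLocalRing R]
    [IsAdicComplete (maximalIdeal R) R] (k₀ : Type u) [Field k₀] [Algebra k₀ R] :
    ∃ d : ℕ, Nonempty (R ≃+* MvPowerSeries (Fin d) (ResidueField R)) := by
  haveI := perfectField_bot k₀
  letI : Algebra (⊥ : Subfield k₀) R := ((algebraMap k₀ R).comp (Subfield.subtype _)).toAlgebra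
  obtain ⟨σ, hσ⟩ := exists_section (⊥ : Subfield k₀) R
  letI : Algebra (ResidueField R) R := σ.toRingHom.toAlgebra
  obtain ⟨s, hs, hs'⟩ := Submodule.FG.exists_span_set_encard_eq_spanFinrank
    ((isNoetherianRing_iff_ideal_fg R).mp inferInstance (maximalIdeal R))
  have hfin : s.Finite := Set.finite_of_encard_eq_coe hs
  let e := hfin.toFinset.equivFin.symm
  let x : Fin hfin.toFinset.card → R := fun i => (e i : R)
  have hx : Ideal.span (Set.range x) = maximalIdeal R := by
    refine Eq.trans ?_ hs'
    congr 1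
    ext z
    constructor
    · rintro ⟨i, rfl⟩; exact hfin.mem_toFinset.mp (e i).2
    · intro hz; exact ⟨e.symm ⟨z, hfin.mem_toFinset.mpr hz⟩, by simp [x]⟩
  have hcard : hfin.toFinset.card = (maximalIdeal R).spanFinrank := by
    have := hs
    rw [hfin.encard_eq_coe_toFinset_card] at this
    exact_mod_cast this
  have hdim : ringKrullDim R = (hfin.toFinset.card : ℕ) := by
    rw [hcard]; exact IsRegularLocalRing.spanFinrank_maximalIdeal.symm
  obtain ⟨φ, hφ, -⟩ := exists_aeval (k := ResidueField R) x (fun i => hx ▸ Ideal.subset_span ⟨i, rfl⟩)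
  refine ⟨hfin.toFinset.card, ⟨(RingEquiv.ofBijective φ (bijective_of_regular hdim ?_ x hx φ hφ)).symm⟩⟩
  exact fun y => ⟨y, hσ y⟩

end Groth.Agent.WQ8
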