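import Groth.Agent.CMLocal.TightClosure
import Groth.Agent.CMFlat.Algebra
import Groth.Agent.RegularLocal.Basic

set_option autoImplicit false
set_option linter.style.haveILetI false
universe u v

namespace Groth.Agent.WQ8

open IsLocalRing

section Length
variable {A : Type u} [CommRing A]

noncomputable def mulTo (J : Ideal A) (a b : A) : A ⧸ (J ⊔ Ideal.span {b}) →ₗ[A] A ⧸ (J ⊔ Ideal.span {a * b}) :=
  Submodule.mapQ _ _ (LinearMap.mulLeft A a) (by
    intro x hx
    obtain ⟨j, hj, c, hc, rfl⟩ := Submodule.mem_sup.mp hx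
    obtain ⟨d, rfl⟩ := Ideal.mem_span_singleton.mp hc
    rw [Submodule.mem_comap, LinearMap.mulLeft_apply, mul_add, ← mul_assoc]
    exact Submodule.add_mem_sup (J.mul_mem_left _ hj) (Ideal.mul_mem_right _ _ (Ideal.mem_span_singleton_self _)))

noncomputable def toFactor (J : Ideal A) (a b : A) : A ⧸ (J ⊔ Ideal.span {a * b}) →ₗ[A] A ⧸ (J ⊔ Ideal.span {a}) :=
  Submodule.mapQ _ _ LinearMap.id (by
    show J ⊔ Ideal.span {a * b} ≤ J ⊔ Ideal.span {a}
    exact sup_le_sup_left (Ideal.span_singleton_le_span_singleton.mpr (dvd_mul_right a b)) J)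

theorem toFactor_surjective (J : Ideal A) (a b : A) : Function.Surjective (toFactor J a b) := fun z => by
  obtain ⟨x, rfl⟩ := Submodule.Quotient.mk_surjective _ z
  exact ⟨Submodule.Quotient.mk x, rfl⟩

theorem exact_mulTo_toFactor (J : Ideal A) (a b : A) : Function.Exact (mulTo J a b) (toFactor J a b) := by
  intro z
  obtain ⟨x, rfl⟩ := Submodule.Quotient.mk_surjective _ z
  constructor
  · intro h
    have hx : x ∈ J ⊔ Ideal.span {a} := (Submodule.Quotient.mk_eq_zero _).mp h
    obtain ⟨j, hj, c, hc, rfl⟩ := Submodule.mem_sup.mp hx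
    obtain ⟨d, rfl⟩ := Ideal.mem_span_singleton.mp hc
    refine ⟨Submodule.Quotient.mk d, (Submodule.Quotient.eq _).mpr (Submodule.mem_sup_left ?_)⟩
    show a * d - (j + a * d) ∈ J
    simpa using J.neg_mem hj
  · rintro ⟨w, hw⟩
    obtain ⟨y, rfl⟩ := Submodule.Quotient.mk_surjective _ w
    rw [← hw]
    exact (Submodule.Quotient.mk_eq_zero _).mpr (Submodule.mem_sup_right (Ideal.mul_mem_right _ _ (Ideal.mem_span_singleton_self _)))

theorem length_mul_le (J : Ideal A) (a b : A) :
    Module.length A (A ⧸ (J ⊔ Ideal.span {a * b})) ≤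
      Module.length A (A ⧸ (J ⊔ Ideal.span {b})) + Module.length A (A ⧸ (J ⊔ Ideal.span {a})) := by
  rw [Module.length_eq_add_of_exact (LinearMap.range (mulTo J a b)).subtype (toFactor J a b) (Submodule.subtype_injective _)
    (toFactor_surjective J a b) (fun z => by rw [exact_mulTo_toFactor J a b z]; simp)]
  gcongr
  exact Module.length_le_of_surjective _ (LinearMap.surjective_rangeRestrict (mulTo J a b))

theorem length_mul_eq (J : Ideal A) (a b : A) (ha : ∀ y, a * y ∈ J → y ∈ J) :
    Module.length A (A ⧸ (J ⊔ Ideal.span {a * b})) =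
      Module.length A (A ⧸ (J ⊔ Ideal.span {b})) + Module.length A (A ⧸ (J ⊔ Ideal.span {a})) := by
  refine Module.length_eq_add_of_exact (mulTo J a b) (toFactor J a b) ?_ (toFactor_surjective J a b) (exact_mulTo_toFactor J a b)
  rw [injective_iff_map_eq_zero]
  intro z hz
  obtain ⟨y, rfl⟩ := Submodule.Quotient.mk_surjective _ z
  have hy : a * y ∈ J ⊔ Ideal.span {a * b} := (Submodule.Quotient.mk_eq_zero _).mp hz
  obtain ⟨j, hj, c, hc, hjc⟩ := Submodule.mem_sup.mp hy
  obtain ⟨d, rfl⟩ := Ideal.mem_span_singleton.mp hc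
  refine (Submodule.Quotient.mk_eq_zero _).mpr (Submodule.mem_sup.mpr ⟨y - b * d, ha _ ?_, b * d, Ideal.mul_mem_right _ _ (Ideal.mem_span_singleton_self _), sub_add_cancel _ _⟩)
  rwa [show a * (y - b * d) = j by linear_combination -hjc]

theorem length_one_eq_zero (J : Ideal A) : Module.length A (A ⧸ (J ⊔ Ideal.span {(1 : A)})) = 0 := by
  haveI : Subsingleton (A ⧸ (J ⊔ Ideal.span {(1 : A)})) := by
    rw [Ideal.Quotient.subsingleton_iff, Ideal.span_singleton_one, sup_top_eq]
  exact Module.length_eq_zero

theorem length_prod_le {ι : Type*} (J : Ideal A) (f : ι → A) (T : Finset ι) :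
    Module.length A (A ⧸ (J ⊔ Ideal.span {∏ i ∈ T, f i})) ≤ ∑ i ∈ T, Module.length A (A ⧸ (J ⊔ Ideal.span {f i})) := by
  classical
  induction T using Finset.induction_on with
  | empty => rw [Finset.prod_empty, length_one_eq_zero]; exact zero_le
  | insert a s ha ih =>
    rw [Finset.prod_insert ha, Finset.sum_insert ha, add_comm]
    exact (length_mul_le J _ _).trans (add_le_add ih le_rfl)

theorem length_prod_eq {ι : Type*} (J : Ideal A) (f : ι → A) (hf : ∀ i y, f i * y ∈ J → y ∈ J) (T : Finset ι) :
    Module.length A (A ⧸ (J ⊔ Ideal.span {∏ i ∈ T, f i})) = ∑ i ∈ T, Module.length A (A ⧸ (J ⊔ Ideal.span {f i})) := by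
  classical
  induction T using Finset.induction_on with
  | empty => rw [Finset.prod_empty, length_one_eq_zero, Finset.sum_empty]
  | insert a s ha ih =>
    rw [Finset.prod_insert ha, Finset.sum_insert ha, length_mul_eq J _ _ (hf a), ih, add_comm]

end Length

section Mixed
variable {A : Type u} [CommRing A] {G : Type v} [Group G] [Fintype G] [MulSemiringAction G A] {n : ℕ}

/-- norms on `s`, conjugates off `s` -/
def mixed (u : Fin n → A) (s : Finset (Fin n)) (τ : Fin n → G) (i : Fin n) : A :=
  if i ∈ s then ∏ σ : G, σ • u i else τ i • u i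

theorem mixed_others (u : Fin n → A) {s : Finset (Fin n)} {a : Fin n} (τ : Fin n → G) (σ : G) :
    mixed u (insert a s) τ '' {j | j ≠ a} = mixed u s (Function.update τ a σ) '' {j | j ≠ a} := by
  refine Set.image_congr fun j hj => ?_
  simp only [mixed, Finset.mem_insert, Function.update_of_ne (show j ≠ a from hj), show ¬ j = a from hj, false_or]

theorem span_range_split (b : Fin n → A) (a : Fin n) :
    Ideal.span (Set.range b) = Ideal.span (b '' {j | j ≠ a}) ⊔ Ideal.span {b a} := by
  rw [← Ideal.span_union]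
  congr 1
  ext x
  refine ⟨?_, ?_⟩
  · rintro ⟨j, rfl⟩
    by_cases h : j = a
    · exact Or.inr (by rw [h]; rfl)
    · exact Or.inl ⟨j, h, rfl⟩
  · rintro (⟨j, -, rfl⟩ | h)
    · exact ⟨j, rfl⟩
    · exact ⟨a, (Set.mem_singleton_iff.1 h).symm⟩

variable [IsLocalRing A] {u : Fin n → A}

theorem smul_mem_max (σ : G) {a : A} (ha : a ∈ maximalIdeal A) : σ • a ∈ maximalIdeal A := by
  intro h
  refine ha ?_
  simpa using h.map (MulSemiringAction.toRingHom G A σ⁻¹)

theorem mixed_mem (hu : ∀ i, u i ∈ maximalIdeal A) (s : Finset (Fin n)) (τ : Fin n → G) (i : Fin n) :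
    mixed u s τ i ∈ maximalIdeal A := by
  classical
  by_cases h : i ∈ s
  · rw [mixed, if_pos h, ← Finset.mul_prod_erase Finset.univ _ (Finset.mem_univ (1 : G))]
    exact Ideal.mul_mem_right _ _ (smul_mem_max _ (hu i))
  · rw [mixed, if_neg h]; exact smul_mem_max _ (hu i)

theorem le_radical_mixed (hwa : ∀ τ : Fin n → G, maximalIdeal A ≤ (Ideal.span (Set.range fun i => τ i • u i)).radical)
    (s : Finset (Fin n)) (τ : Fin n → G) : maximalIdeal A ≤ (Ideal.span (Set.range (mixed u s τ))).radical := by
  rw [Ideal.radical_eq_sInf]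
  refine le_sInf fun P hP => ?_
  obtain ⟨hle, hprime⟩ := hP
  haveI := hprime
  have h1 : ∀ i, ∃ σ : G, σ • u i ∈ P := fun i => by
    have hi := hle (Ideal.subset_span ⟨i, rfl⟩)
    by_cases h : i ∈ s
    · rw [mixed, if_pos h] at hi
      obtain ⟨σ, -, hσ⟩ := hprime.prod_mem_iff.mp hi
      exact ⟨σ, hσ⟩
    · rw [mixed, if_neg h] at hi
      exact ⟨_, hi⟩
  choose τ' hτ using h1
  exact (hwa τ').trans ((Ideal.radical_mono (Ideal.span_le.mpr (Set.range_subset_iff.mpr hτ))).trans_eq hprime.radical)

theorem length_norms_le (hu : ∀ τ : Fin n → G, Ideal.span (Set.range fun i => τ i • u i) = maximalIdeal A) :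
    Module.length A (A ⧸ Ideal.span (Set.range fun i => ∏ σ : G, σ • u i)) ≤ (Fintype.card G ^ n : ℕ) := by
  classical
  suffices h : ∀ (s : Finset (Fin n)) (τ : Fin n → G),
      Module.length A (A ⧸ Ideal.span (Set.range (mixed u s τ))) ≤ (Fintype.card G ^ s.card : ℕ) by
    have := h Finset.univ (fun _ => 1)
    rw [Finset.card_univ, Fintype.card_fin, show mixed u Finset.univ (fun _ => (1 : G)) = fun i => ∏ σ : G, σ • u i from
      funext fun i => if_pos (Finset.mem_univ i)] at this
    exact this
  intro s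
  induction s using Finset.induction_on with
  | empty =>
    intro τ
    rw [show mixed u ∅ τ = fun i => τ i • u i from funext fun i => if_neg (Finset.notMem_empty i), hu τ,
      Finset.card_empty, pow_zero, Nat.cast_one]
    haveI : IsSimpleModule A (A ⧸ maximalIdeal A) := isSimpleModule_iff_isCoatom.mpr (maximalIdeal.isMaximal A).out
    exact (Module.length_eq_one A _).le
  | insert a s ha ih =>
    intro τ
    have key : ∀ σ : G, Module.length A (A ⧸ (Ideal.span (mixed u (insert a s) τ '' {j | j ≠ a}) ⊔ Ideal.span {σ • u a})) ≤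
        (Fintype.card G ^ s.card : ℕ) := fun σ => by
      have h := ih (Function.update τ a σ)
      rw [span_range_split _ a, ← mixed_others] at h
      rwa [mixed, if_neg ha, Function.update_self] at h
    rw [span_range_split _ a, show mixed u (insert a s) τ a = ∏ σ : G, σ • u a from if_pos (Finset.mem_insert_self a s),
      Finset.card_insert_of_notMem ha]
    refine (length_prod_le _ (fun σ : G => σ • u a) Finset.univ).trans ((Finset.sum_le_card_nsmul _ _ _ fun σ _ => key σ).trans_eq ?_)
    rw [Finset.card_univ, nsmul_eq_mul, pow_succ']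
    push_cast
    rfl

end Mixed

theorem le_length_norms {A : Type u} [CommRing A] [IsRegularLocalRing A] {G : Type v} [Group G] [Fintype G]
    [MulSemiringAction G A] {n : ℕ} (hn : ringKrullDim A = n) {u : Fin n → A} (hu : ∀ i, u i ∈ maximalIdeal A)
    (hwa : ∀ τ : Fin n → G, maximalIdeal A ≤ (Ideal.span (Set.range fun i => τ i • u i)).radical) :
    ((Fintype.card G ^ n : ℕ) : ℕ∞) ≤ Module.length A (A ⧸ Ideal.span (Set.range fun i => ∏ σ : G, σ • u i)) := by
  classical
  haveI : LocCoh.IsCohenMacaulayLocalRing A := CMFlat.Algebra.cm_of_flat (R := A) (S := A) (by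
    rw [Algebra.algebraMap_self, Ideal.map_id]; exact Ideal.le_radical)
  suffices h : ∀ (s : Finset (Fin n)) (τ : Fin n → G),
      ((Fintype.card G ^ s.card : ℕ) : ℕ∞) ≤ Module.length A (A ⧸ Ideal.span (Set.range (mixed u s τ))) by
    have := h Finset.univ (fun _ => 1)
    rw [Finset.card_univ, Fintype.card_fin, show mixed u Finset.univ (fun _ => (1 : G)) = fun i => ∏ σ : G, σ • u i from
      funext fun i => if_pos (Finset.mem_univ i)] at this
    exact this
  intro s
  induction s using Finset.induction_on with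
  | empty =>
    intro τ
    rw [Finset.card_empty, pow_zero, Nat.cast_one]
    rw [Order.one_le_iff_ne_zero, Ne, Module.length_eq_zero_iff, Ideal.Quotient.subsingleton_iff]
    exact fun h => (maximalIdeal.isMaximal A).ne_top (top_le_iff.mp (h ▸ Ideal.span_le.mpr (Set.range_subset_iff.mpr (mixed_mem hu _ _))))
  | insert a s ha ih =>
    intro τ
    let J := Ideal.span (mixed u (insert a s) τ '' {j | j ≠ a})
    have hsplit : ∀ σ : G, Ideal.span (Set.range (mixed u s (Function.update τ a σ))) = J ⊔ Ideal.span {σ • u a} := fun σ => by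
      rw [span_range_split _ a, ← mixed_others]
      congr 2
      simp [mixed, ha]
    have hreg : ∀ (σ : G) (y : A), σ • u a * y ∈ J → y ∈ J := fun σ y hy => by
      have h := CMLocal.TightClosure.regular_others hn
        (b := mixed u s (Function.update τ a σ)) ⟨mixed_mem hu _ _, le_radical_mixed hwa _ _⟩ a (y := y)
      have hJ : CMLocal.TightClosure.others (mixed u s (Function.update τ a σ)) a = J := by
        rw [CMLocal.TightClosure.others, ← mixed_others]
      rw [hJ, show mixed u s (Function.update τ a σ) a = σ • u a by simp [mixed, ha]] at h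
      exact h hy
    rw [span_range_split _ a, show mixed u (insert a s) τ a = ∏ σ : G, σ • u a from if_pos (Finset.mem_insert_self a s),
      Finset.card_insert_of_notMem ha, length_prod_eq _ (fun σ : G => σ • u a) hreg Finset.univ]
    refine le_trans (le_of_eq ?_) (Finset.card_nsmul_le_sum _ _ _ fun σ _ => (ih (Function.update τ a σ)).trans_eq (by rw [hsplit]))
    rw [Finset.card_univ, nsmul_eq_mul, pow_succ']
    push_cast
    rfl

end Groth.Agent.WQ8
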