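import Groth.Agent.WQ8.Ramified

set_option autoImplicit false
universe u v w

namespace Groth.Agent.WQ8

open IsLocalRing RingTheory.Sequence

theorem free_of_normal_dim_two_same {R A : Type u} [CommRing R] [IsRegularLocalRing R] [CommRing A] [IsDomain A]
    [IsIntegrallyClosed A] [IsLocalRing A] [Algebra R A] [Module.Finite R A] (hinj : Function.Injective (algebraMap R A))
    (hdim : ringKrullDim A = 2) : Module.Free R A := by
  haveI : FaithfulSMul R A := (faithfulSMul_iff_algebraMap_injective R A).mpr hinj
  haveI : IsNoetherianRing A := IsNoetherianRing.of_finite R A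
  haveI : IsDomain R := hinj.isDomain _
  obtain ⟨l, hgen, hreg, hd⟩ := CMFlat.Algebra.isRegular_generators R
  have hdR : ringKrullDim R = 2 := (ringKrullDim_eq_of_integral (R := R) (T := A) hinj).symm.trans hdim
  rw [hdR] at hd
  have hlen : l.length = 2 := by exact_mod_cast hd.symm
  match l, hlen with
  | [x, y], _ =>
    have hprim : maximalIdeal A ≤ ((maximalIdeal R).map (algebraMap R A)).radical := by
      rw [Ideal.radical_eq_sInf]
      refine le_sInf fun P hP => ?_
      haveI := hP.2
      have hc : P.comap (algebraMap R A) = maximalIdeal R := le_antisymm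
        (le_maximalIdeal (Ideal.comap_ne_top _ hP.2.ne_top)) (Ideal.map_le_iff_le_comap.mp hP.1)
      haveI : (P.comap (algebraMap R A)).IsMaximal := hc ▸ inferInstance
      rw [IsLocalRing.eq_maximalIdeal (Ideal.isMaximal_of_isIntegral_of_isMaximal_comap (R := R) P inferInstance)]
    have hx0 : algebraMap R A x ≠ 0 := fun h => by
      have h1 := (isWeaklyRegular_cons_iff R x [y]).mp hreg.toIsWeaklyRegular |>.1
      have := hinj (h.trans (map_zero _).symm)
      exact (one_ne_zero : (1 : R) ≠ 0) (h1 (by show x • (1 : R) = x • 0; rw [this]; simp))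
    have hweak : IsWeaklyRegular A [algebraMap R A x, algebraMap R A y] := by
      simp only [isWeaklyRegular_cons_iff, IsWeaklyRegular.nil, and_true]
      refine ⟨fun a b h => mul_left_cancel₀ hx0 h, ?_⟩
      intro a b h
      obtain ⟨a, rfl⟩ := Submodule.Quotient.mk_surjective _ a
      obtain ⟨b, rfl⟩ := Submodule.Quotient.mk_surjective _ b
      dsimp only at h
      rw [← Submodule.Quotient.mk_smul, ← Submodule.Quotient.mk_smul, Submodule.Quotient.eq, ← smul_sub,
        Submodule.mem_smul_pointwise_iff_exists] at h
      obtain ⟨c, -, hc⟩ := h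
      rw [Submodule.Quotient.eq, Submodule.mem_smul_pointwise_iff_exists]
      obtain ⟨d, hd'⟩ : algebraMap R A x ∣ (a - b) := dvd_of_locally hx0 fun Q hQ hQh => by
        haveI := hQ
        by_cases hxQ : algebraMap R A x ∈ Q
        · refine ⟨algebraMap R A y, fun hyQ => ?_, c, hc.symm⟩
          have hmQ : maximalIdeal A ≤ Q := by
            refine hprim.trans ((hQ.radical_le_iff).mpr ?_)
            rw [← hgen, Ideal.map_ofList, Ideal.span_le]
            intro z hz
            simp only [List.map_cons, List.map_nil, List.mem_cons, List.not_mem_nil, or_false, Set.mem_setOf_eq] at hz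
            rcases hz with rfl | rfl
            · exact hxQ
            · exact hyQ
          rw [le_antisymm (le_maximalIdeal hQ.ne_top) hmQ] at hQh
          have h2 := IsLocalRing.maximalIdeal_height_eq_ringKrullDim (R := A)
          rw [hdim] at h2
          have : (maximalIdeal A).height = 2 := WithBot.coe_inj.mp h2
          rw [this] at hQh
          exact absurd hQh (by norm_num)
        · exact ⟨algebraMap R A x, hxQ, dvd_mul_right _ _⟩
      exact ⟨d, trivial, hd'.symm⟩
    haveI : IsLocalHom (algebraMap R A) := Algebra.IsIntegral.isLocalHom R A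
    haveI : LocCoh.IsCohenMacaulayLocalRing A := by
      refine ⟨le_antisymm ?_ (IdealDepth.depth_le_supportDim (R := A) (M := A))⟩
      rw [Module.supportDim_self_eq_ringKrullDim, hdim]
      refine WithBot.coe_le_coe.mpr ?_
      have := IdealDepth.len_le (I := maximalIdeal A) (rs := [algebraMap R A x, algebraMap R A y]) (M := A) ⟨hweak, fun r hr => ?_⟩
      · exact this
      · simp only [List.mem_cons, List.not_mem_nil, or_false] at hr
        rcases hr with rfl | rfl <;>
          exact map_nonunit _ _ (hgen ▸ Ideal.subset_span (by simp))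
    haveI : Module.Flat R A := CMFlat.Algebra.flat_of_cm hprim (by rw [hdR, hdim])
    exact Module.free_of_flat_of_isLocalRing

theorem free_of_normal_dim_two {R : Type u} {A : Type v} [CommRing R] [IsRegularLocalRing R] [CommRing A] [IsDomain A]
    [IsIntegrallyClosed A] [IsLocalRing A] [Algebra R A] [Module.Finite R A] (hinj : Function.Injective (algebraMap R A))
    (hdim : ringKrullDim A = 2) : Module.Free R A := by
  let R' := ULift.{v} R
  let A' := ULift.{u} A
  haveI : IsRegularLocalRing R' := IsRegularLocalRing.of_ringEquiv ULift.ringEquiv.symm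
  haveI : IsDomain A' := (ULift.ringEquiv : A' ≃+* A).isDomain
  haveI : IsIntegrallyClosed A' := IsIntegrallyClosed.of_equiv (ULift.ringEquiv : A' ≃+* A).symm
  haveI : IsLocalRing A' := (ULift.ringEquiv : A' ≃+* A).symm.isLocalRing
  letI : Algebra R' A' := ((ULift.ringEquiv.symm.toRingHom.comp (algebraMap R A)).comp ULift.ringEquiv.toRingHom).toAlgebra
  haveI hfin : @Module.Finite R' A' _ _ Algebra.toModule :=
    Module.Finite.of_equiv_equiv (A₁ := R) (B₁ := A) (A₂ := R') (B₂ := A') ULift.ringEquiv.symm ULift.ringEquiv.symm rfl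
  have hfree : @Module.Free R' A' _ _ Algebra.toModule :=
    @free_of_normal_dim_two_same R' A' _ _ _ _ _ _ _ hfin (fun a b h => ULift.ext _ _ (hinj (congrArg ULift.down h)))
      ((ringKrullDim_eq_of_ringEquiv (ULift.ringEquiv : A' ≃+* A)).trans hdim)
  let b := @Module.Free.chooseBasis R' A' _ _ Algebra.toModule hfree
  letI : Module R' A' := Algebra.toModule
  refine Module.Free.of_basis ((b.mapCoeffs (ULift.ringEquiv : R' ≃+* R) fun c x => ?_).map (ULift.moduleEquiv : A' ≃ₗ[R] A))
  apply ULift.ext
  show c.down • x.down = algebraMap R A c.down * x.down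
  rw [Algebra.smul_def]

theorem eq_of_card_eq_of_cyclic {H : Type w} [Group H] [Finite H] [IsCyclic H] (S T : Subgroup H)
    (h : Nat.card S = Nat.card T) : S = T := by
  classical
  haveI : Fintype H := Fintype.ofFinite H
  let F : Finset H := Finset.univ.filter fun a => a ^ Nat.card T = 1
  have key : ∀ U : Subgroup H, Nat.card U = Nat.card T → (U : Set H) = (F : Set H) := by
    intro U hU
    refine Set.eq_of_subset_of_ncard_le (fun a ha => ?_) ?_ (Finset.finite_toSet _)
    · have := pow_card_eq_one' (x := (⟨a, ha⟩ : U))
      rw [hU] at this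
      simpa [F] using congrArg Subtype.val this
    · rw [Set.ncard_coe_finset, show (U : Set H).ncard = Nat.card U from rfl, hU]
      exact IsCyclic.card_pow_eq_one_le Nat.card_pos
  exact SetLike.coe_injective ((key S h).trans (key T rfl).symm)

theorem ringKrullDim_eq_of_integral' {R : Type u} {A : Type v} [CommRing R] [CommRing A] [Algebra R A]
    [Algebra.IsIntegral R A] (hinj : Function.Injective (algebraMap R A)) : ringKrullDim A = ringKrullDim R := by
  rw [← PrimeSpectrum.topologicalKrullDim_eq_ringKrullDim A, ← PrimeSpectrum.topologicalKrullDim_eq_ringKrullDim R]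
  have hcl := PrimeSpectrum.isClosedMap_comap_of_isIntegral _ (algebraMap_isIntegral_iff.mpr (inferInstance : Algebra.IsIntegral R A))
  refine le_antisymm (Topo.IntegralDim.dim_le _ (PrimeSpectrum.continuous_comap _) hcl fun x y hxy he => ?_)
    (Topo.IntegralDim.dim_ge _ hcl (PrimeSpectrum.continuous_comap _) fun p => ?_)
  · rcases ((PrimeSpectrum.le_iff_specializes x y).mpr hxy).lt_or_eq with hlt | heq
    · exact absurd (congrArg PrimeSpectrum.asIdeal he) (Ideal.IsIntegral.comap_lt_comap (R := R)
        (show x.asIdeal < y.asIdeal from hlt)).ne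
    · rw [heq]
  · obtain ⟨Q, -, hQ, hc⟩ := Ideal.exists_ideal_over_prime_of_isIntegral p.asIdeal (⊥ : Ideal A) (by
      rw [← RingHom.ker_eq_comap_bot, (RingHom.injective_iff_ker_eq_bot _).mp hinj]; exact bot_le)
    exact ⟨⟨Q, hQ⟩, PrimeSpectrum.ext hc⟩

end Groth.Agent.WQ8
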