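import Groth.Agent.WQ8.FreeOverPS
import Groth.Agent.WQ8.Dim2
import Groth.Agent.WQ8.Admissible
import Groth.Agent.Adic.FiniteModule

set_option autoImplicit false
set_option linter.style.haveILetI false
universe u

namespace Groth.Agent.WQ8

open IsLocalRing MvPolynomial

theorem dim_ps_eq (k : Type u) [Field k] (n : ℕ) : ringKrullDim (MvPowerSeries (Fin n) k) = n := by
  refine le_antisymm (dim_ps_le k n) ?_
  have hprime : ∀ j, (Misc9.SF.killPrime (k := k) n j).IsPrime := fun j =>
    haveI : IsDomain (MvPowerSeries {i : Fin n // j ≤ (i : ℕ)} k) := NoZeroDivisors.to_isDomain _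
    RingHom.ker_isPrime _
  let c : LTSeries (PrimeSpectrum (MvPowerSeries (Fin n) k)) :=
    { length := n
      toFun := fun i => ⟨Misc9.SF.killPrime n i, hprime i⟩
      step := fun i => Misc9.SF.killPrime_lt i.2 }
  exact Order.LTSeries.length_le_krullDim c

/-- A regular sequence of powers: the length of `A/(u_i^p)` for a regular system of parameters. -/
theorem length_pows {A : Type u} [CommRing A] [IsRegularLocalRing A] {n : ℕ} (hn : ringKrullDim A = n) (u : Fin n → A)
    (hu : Ideal.span (Set.range u) = maximalIdeal A) {p : ℕ} (hp : 0 < p) :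
    Module.length A (A ⧸ Ideal.span (Set.range fun i => u i ^ p)) = (p ^ n : ℕ) := by
  classical
  haveI : LocCoh.IsCohenMacaulayLocalRing A := CMFlat.Algebra.cm_of_flat (R := A) (S := A) (by
    rw [Algebra.algebraMap_self, Ideal.map_id]; exact Ideal.le_radical)
  have hum : ∀ i, u i ∈ maximalIdeal A := fun i => hu ▸ Ideal.subset_span ⟨i, rfl⟩
  let mix : Finset (Fin n) → Fin n → A := fun s i => if i ∈ s then u i ^ p else u i
  have hsop : ∀ s, CMLocal.TightClosure.IsSOP (mix s) := fun s => by
    refine ⟨fun i => ?_, ?_⟩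
    · by_cases h : i ∈ s
      · simp only [mix, if_pos h]; exact Ideal.pow_mem_of_mem _ (hum i) _ hp
      · simp only [mix, if_neg h]; exact hum i
    · conv_lhs => rw [← hu]
      refine Ideal.span_le.mpr (Set.range_subset_iff.mpr fun i => ?_)
      have hi : mix s i ∈ Ideal.span (Set.range (mix s)) := Ideal.subset_span ⟨i, rfl⟩
      by_cases h : i ∈ s
      · exact ⟨p, by simpa only [mix, if_pos h] using hi⟩
      · exact Ideal.le_radical (by simpa only [mix, if_neg h] using hi)
  suffices h : ∀ s, Module.length A (A ⧸ Ideal.span (Set.range (mix s))) = (p ^ s.card : ℕ) by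
    have := h Finset.univ
    rwa [Finset.card_univ, Fintype.card_fin, show mix Finset.univ = fun i => u i ^ p from funext fun i => if_pos (Finset.mem_univ i)] at this
  intro s
  induction s using Finset.induction_on with
  | empty =>
    rw [show mix ∅ = u from funext fun i => if_neg (Finset.notMem_empty i), hu, Finset.card_empty, pow_zero, Nat.cast_one]
    haveI : IsSimpleModule A (A ⧸ maximalIdeal A) := isSimpleModule_iff_isCoatom.mpr (maximalIdeal.isMaximal A).out
    exact Module.length_eq_one A _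
  | insert a s ha ih =>
    let J := Ideal.span (mix s '' {j | j ≠ a})
    have hJ : Ideal.span (mix (insert a s) '' {j | j ≠ a}) = J := by
      refine congrArg Ideal.span (Set.image_congr fun j hj => ?_)
      simp only [mix, Finset.mem_insert, show ¬ j = a from hj, false_or]
    have hsa : mix s a = u a := if_neg ha
    rw [span_range_split _ a, hJ, show mix (insert a s) a = ∏ _i ∈ Finset.range p, u a by
        rw [Finset.prod_const, Finset.card_range]; exact if_pos (Finset.mem_insert_self a s),
      length_prod_eq J (fun _ : ℕ => u a) (fun _ y hy => by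
        have h := CMLocal.TightClosure.regular_others hn (hsop s) a (y := y)
        rw [hsa, show CMLocal.TightClosure.others (mix s) a = J from rfl] at h
        exact h hy)]
    rw [span_range_split _ a, hsa] at ih
    rw [Finset.sum_const, ih, Finset.card_range, Finset.card_insert_of_notMem ha, nsmul_eq_mul, pow_succ']
    push_cast
    rfl

theorem adicComplete_of_le_of_pow_le {A : Type*} [CommRing A] (J M : Ideal A) (hle : J ≤ M) (N : ℕ) (hN0 : 0 < N)
    (hN : M ^ N ≤ J) [IsAdicComplete J A] : IsAdicComplete M A := by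
  have hm : ∀ (I : Ideal A) (j : ℕ) (x y : A), x ≡ y [SMOD (I ^ j • ⊤ : Submodule A A)] ↔ x - y ∈ I ^ j := fun I j x y => by
    rw [SModEq.sub_mem, smul_eq_mul, Ideal.mul_top]
  have hMJ : ∀ j, M ^ (N * j) ≤ J ^ j := fun j => by rw [pow_mul]; exact Ideal.pow_right_mono hN j
  refine { haus' := fun x hx => IsHausdorff.haus' (I := J) x fun j => ?_, prec' := fun f hf => ?_ }
  · rw [hm]; exact hMJ j ((hm M (N * j) x 0).mp (hx (N * j)))
  · obtain ⟨L, hL⟩ := IsPrecomplete.prec' (I := J) (fun j => f (N * j)) fun {i j} hij => by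
      rw [hm]; exact hMJ i ((hm M _ _ _).mp (hf (Nat.mul_le_mul_left N hij)))
    refine ⟨L, fun j => ?_⟩
    rw [hm, show f j - L = (f j - f (N * j)) + (f (N * j) - L) by ring]
    exact add_mem ((hm M _ _ _).mp (hf (Nat.le_mul_of_pos_left j hN0))) (Ideal.pow_right_mono hle j ((hm J _ _ _).mp (hL j)))

theorem sub_C_mem_span_X {R : Type*} [CommRing R] {σ : Type*} (q : MvPolynomial σ R) :
    q - C (MvPolynomial.constantCoeff q) ∈ Ideal.span (Set.range (X : σ → MvPolynomial σ R)) := by
  induction q using MvPolynomial.induction_on with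
  | C r => simp
  | add f g hf hg => rw [map_add, map_add, add_sub_add_comm]; exact add_mem hf hg
  | mul_X f i hf => simp only [map_mul, constantCoeff_X, mul_zero, map_zero, sub_zero]; exact Ideal.mul_mem_left _ _ (Ideal.subset_span ⟨i, rfl⟩)

section Concrete
variable (p : ℕ) {k : Type u} [Field k] {n : ℕ} (a : Fin n → MvPowerSeries (Fin n) k)

noncomputable abbrev asIdeal : Ideal (MvPolynomial (Fin n) (MvPowerSeries (Fin n) k)) :=
  Ideal.span (Set.range fun i : Fin n => X i ^ p - C (a i ^ (p - 1)) * X i - C (MvPowerSeries.X i))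

noncomputable abbrev asGen (i : Fin n) : MvPolynomial (Fin n) (MvPowerSeries (Fin n) k) ⧸ asIdeal p a :=
  Ideal.Quotient.mk _ (X i)

theorem asGen_pow (i : Fin n) :
    asGen p a i ^ p = algebraMap (MvPowerSeries (Fin n) k) (MvPolynomial (Fin n) (MvPowerSeries (Fin n) k) ⧸ asIdeal p a) (a i ^ (p - 1)) * asGen p a i +
      algebraMap (MvPowerSeries (Fin n) k) (MvPolynomial (Fin n) (MvPowerSeries (Fin n) k) ⧸ asIdeal p a) (MvPowerSeries.X i) := by
  rw [IsScalarTower.algebraMap_apply (MvPowerSeries (Fin n) k) (MvPolynomial (Fin n) (MvPowerSeries (Fin n) k)) _ (a i ^ (p - 1)),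
    IsScalarTower.algebraMap_apply (MvPowerSeries (Fin n) k) (MvPolynomial (Fin n) (MvPowerSeries (Fin n) k)) _ (MvPowerSeries.X i)]
  simp only [MvPolynomial.algebraMap_eq, Ideal.Quotient.algebraMap_eq, asGen, ← map_pow, ← map_mul, ← map_add]
  rw [Ideal.Quotient.eq, show X i ^ p - (C (a i ^ (p - 1)) * X i + C (MvPowerSeries.X i)) =
    X i ^ p - C (a i ^ (p - 1)) * X i - C (MvPowerSeries.X i) by ring]
  exact Ideal.subset_span ⟨i, rfl⟩

theorem asGen_surjective : Function.Surjective (aeval (R := MvPowerSeries (Fin n) k) (asGen p a)) := fun z => by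
  obtain ⟨q, rfl⟩ := Ideal.Quotient.mk_surjective z
  exact ⟨q, DFunLike.congr_fun (MvPolynomial.algHom_ext (f := aeval (R := MvPowerSeries (Fin n) k) (asGen p a))
    (g := Ideal.Quotient.mkₐ (MvPowerSeries (Fin n) k) (asIdeal p a)) fun i => by simp [asGen]) q⟩

theorem as_lift {B : Type*} [CommRing B] [Algebra (MvPowerSeries (Fin n) k) B] (v : Fin n → B)
    (hv : ∀ i, v i ^ p = algebraMap (MvPowerSeries (Fin n) k) B (a i ^ (p - 1)) * v i + algebraMap (MvPowerSeries (Fin n) k) B (MvPowerSeries.X i)) :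
    ∃ f : (MvPolynomial (Fin n) (MvPowerSeries (Fin n) k) ⧸ asIdeal p a) →ₐ[MvPowerSeries (Fin n) k] B, ∀ i, f (asGen p a i) = v i := by
  have hker : asIdeal p a ≤ RingHom.ker (aeval (R := MvPowerSeries (Fin n) k) v).toRingHom := by
    rw [Ideal.span_le]
    rintro _ ⟨i, rfl⟩
    simp only [SetLike.mem_coe, RingHom.mem_ker, AlgHom.toRingHom_eq_coe, RingHom.coe_coe, map_sub, map_mul, map_pow, aeval_C, aeval_X]
    simp only [map_pow] at hv
    linear_combination hv i
  exact ⟨Ideal.Quotient.liftₐ _ (aeval v) (fun x hx => hker hx), fun i => by simp [asGen]⟩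

theorem as_injective [Fact p.Prime] :
    Function.Injective (algebraMap (MvPowerSeries (Fin n) k) (MvPolynomial (Fin n) (MvPowerSeries (Fin n) k) ⧸ asIdeal p a)) := by
  haveI : IsDomain (MvPowerSeries (Fin n) k) := NoZeroDivisors.to_isDomain _
  let K := AlgebraicClosure (FractionRing (MvPowerSeries (Fin n) k))
  have hp := (Fact.out : p.Prime)
  have hroot : ∀ i, ∃ r : K, r ^ p = algebraMap (MvPowerSeries (Fin n) k) K (a i ^ (p - 1)) * r + algebraMap (MvPowerSeries (Fin n) k) K (MvPowerSeries.X i) := fun i => by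
    obtain ⟨r, hr⟩ := IsAlgClosed.exists_root (Polynomial.X ^ p - (Polynomial.C (algebraMap (MvPowerSeries (Fin n) k) K (a i ^ (p - 1))) * Polynomial.X +
      Polynomial.C (algebraMap (MvPowerSeries (Fin n) k) K (MvPowerSeries.X i)))) (by
        rw [Polynomial.degree_sub_eq_left_of_degree_lt] <;> rw [Polynomial.degree_X_pow]
        · exact_mod_cast hp.ne_zero
        · exact lt_of_le_of_lt Polynomial.degree_linear_le (by exact_mod_cast hp.one_lt))
    refine ⟨r, ?_⟩
    rw [Polynomial.IsRoot] at hr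
    simp only [Polynomial.eval_sub, Polynomial.eval_add, Polynomial.eval_mul, Polynomial.eval_pow, Polynomial.eval_X, Polynomial.eval_C] at hr
    linear_combination hr
  choose r hr using hroot
  obtain ⟨f, -⟩ := as_lift p a r hr
  intro x y h
  have h' := congrArg f h
  rw [AlgHom.commutes, AlgHom.commutes, IsScalarTower.algebraMap_apply _ (FractionRing (MvPowerSeries (Fin n) k)) K x,
    IsScalarTower.algebraMap_apply _ (FractionRing (MvPowerSeries (Fin n) k)) K y] at h'
  exact IsFractionRing.injective (MvPowerSeries (Fin n) k) (FractionRing (MvPowerSeries (Fin n) k))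
    ((algebraMap (FractionRing (MvPowerSeries (Fin n) k)) K).injective h')

end Concrete

section Abstract
variable {p : ℕ} [Fact p.Prime] {k : Type u} [Field k] {n : ℕ} {a : Fin n → MvPowerSeries (Fin n) k}
  {A : Type u} [CommRing A] [Algebra (MvPowerSeries (Fin n) k) A] {u : Fin n → A}

/-- The hypotheses on an Artin–Schreier family. -/
structure IsAS (p : ℕ) (a : Fin n → MvPowerSeries (Fin n) k) (u : Fin n → A) : Prop where
  pow_eq : ∀ i, u i ^ p = algebraMap (MvPowerSeries (Fin n) k) A (a i ^ (p - 1)) * u i + algebraMap (MvPowerSeries (Fin n) k) A (MvPowerSeries.X i)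
  surj : Function.Surjective (aeval (R := MvPowerSeries (Fin n) k) u)
  inj : Function.Injective (algebraMap (MvPowerSeries (Fin n) k) A)
  cc : ∀ i, MvPowerSeries.constantCoeff (a i) = 0

namespace IsAS

theorem finite (h : IsAS p a u) : Module.Finite (MvPowerSeries (Fin n) k) A := by
  have hp := (Fact.out : p.Prime)
  haveI : Algebra.FiniteType (MvPowerSeries (Fin n) k) A :=
    Algebra.FiniteType.of_surjective (aeval (R := MvPowerSeries (Fin n) k) u) h.surj
  refine Algebra.finite_iff_isIntegral_and_finiteType.mpr ⟨⟨fun x => ?_⟩, inferInstance⟩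
  obtain ⟨q, rfl⟩ := h.surj x
  induction q using MvPolynomial.induction_on with
  | C r => rw [aeval_C]; exact isIntegral_algebraMap
  | add f g hf hg => rw [map_add]; exact hf.add hg
  | mul_X f i hf =>
    rw [map_mul, aeval_X]
    refine hf.mul ⟨Polynomial.X ^ p - (Polynomial.C (a i ^ (p - 1)) * Polynomial.X + Polynomial.C (MvPowerSeries.X i)), ?_, ?_⟩
    · exact Polynomial.monic_X_pow_sub (lt_of_le_of_lt Polynomial.degree_linear_le (by exact_mod_cast hp.one_lt))
    · simp only [Polynomial.eval₂_sub, Polynomial.eval₂_add, Polynomial.eval₂_mul, Polynomial.eval₂_pow, Polynomial.eval₂_X, Polynomial.eval₂_C]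
      exact sub_eq_zero.mpr (h.pow_eq i)

theorem map_max_le (h : IsAS p a u) :
    (maximalIdeal (MvPowerSeries (Fin n) k)).map (algebraMap (MvPowerSeries (Fin n) k) A) ≤ Ideal.span (Set.range u) := by
  have hp := (Fact.out : p.Prime)
  rw [maximalIdeal_ps, Ideal.map_span, Ideal.span_le]
  rintro _ ⟨_, ⟨i, rfl⟩, rfl⟩
  have hg : u i ∈ Ideal.span (Set.range u) := Ideal.subset_span ⟨i, rfl⟩
  rw [SetLike.mem_coe, show algebraMap (MvPowerSeries (Fin n) k) A (MvPowerSeries.X i) =
    u i ^ p - algebraMap (MvPowerSeries (Fin n) k) A (a i ^ (p - 1)) * u i by rw [h.pow_eq i]; ring]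
  exact sub_mem (Ideal.pow_mem_of_mem _ hg _ hp.pos) (Ideal.mul_mem_left _ _ hg)

theorem a_pow_mem (h : IsAS p a u) (i : Fin n) : a i ^ (p - 1) ∈ maximalIdeal (MvPowerSeries (Fin n) k) :=
  Ideal.pow_mem_of_mem _ (by rw [IsLocalRing.mem_maximalIdeal, mem_nonunits_iff, MvPowerSeries.isUnit_iff_constantCoeff, h.cc i]; exact not_isUnit_zero) _
    (by have := (Fact.out : p.Prime).two_le; omega)

theorem exists_const (h : IsAS p a u) (z : A) :
    ∃ c : k, z - algebraMap (MvPowerSeries (Fin n) k) A (MvPowerSeries.C c) ∈ Ideal.span (Set.range u) := by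
  obtain ⟨q, rfl⟩ := h.surj z
  refine ⟨MvPowerSeries.constantCoeff (MvPolynomial.constantCoeff q), ?_⟩
  have h1 := Ideal.mem_map_of_mem (aeval (R := MvPowerSeries (Fin n) k) u).toRingHom (sub_C_mem_span_X q)
  rw [Ideal.map_span, ← Set.range_comp] at h1
  have h2 : (aeval (R := MvPowerSeries (Fin n) k) u).toRingHom ∘ (X : Fin n → MvPolynomial (Fin n) (MvPowerSeries (Fin n) k)) = u := by
    funext i; simp
  rw [h2] at h1
  simp only [AlgHom.toRingHom_eq_coe, RingHom.coe_coe, map_sub, aeval_C] at h1
  have h3 := h.map_max_le (Ideal.mem_map_of_mem _ (show MvPolynomial.constantCoeff q - MvPowerSeries.C (MvPowerSeries.constantCoeff (MvPolynomial.constantCoeff q)) ∈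
    maximalIdeal (MvPowerSeries (Fin n) k) by rw [maximalIdeal_ps]; exact Adic.PowerSeries.sub_C_mem _))
  rw [map_sub] at h3
  have := add_mem h1 h3
  rwa [sub_add_sub_cancel] at this

theorem structure_ (h : IsAS p a u) :
    ∃ (_ : IsRegularLocalRing A), maximalIdeal A = Ideal.span (Set.range u) ∧ ringKrullDim A = n := by
  classical
  have hp := (Fact.out : p.Prime)
  haveI : IsRegularLocalRing (MvPowerSeries (Fin n) k) := Misc9.SF.ps_isRegularLocalRing n
  haveI := h.finite
  haveI : IsNoetherianRing A := IsNoetherianRing.of_finite (MvPowerSeries (Fin n) k) A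
  haveI : Nontrivial A := h.inj.nontrivial
  let M : Ideal A := Ideal.span (Set.range u)
  have hle : ∀ P : Ideal A, P.IsMaximal → M ≤ P := by
    intro P hP
    haveI := hP
    haveI := Ideal.isMaximal_comap_of_isIntegral_of_isMaximal (R := MvPowerSeries (Fin n) k) P
    have hc : P.comap (algebraMap (MvPowerSeries (Fin n) k) A) = maximalIdeal _ := IsLocalRing.eq_maximalIdeal inferInstance
    refine Ideal.span_le.mpr (Set.range_subset_iff.mpr fun i => hP.isPrime.mem_of_pow_mem p ?_)
    rw [h.pow_eq]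
    have hm : ∀ r ∈ maximalIdeal (MvPowerSeries (Fin n) k), algebraMap _ A r ∈ P := fun r hr => by
      rw [← hc] at hr; exact hr
    exact add_mem (Ideal.mul_mem_right _ _ (hm _ (h.a_pow_mem i))) (hm _ (by rw [maximalIdeal_ps]; exact Ideal.subset_span ⟨i, rfl⟩))
  have hdim : ringKrullDim A = n := (ringKrullDim_eq_of_integral' h.inj).trans (dim_ps_eq k n)
  have hmax : ∀ P : Ideal A, P.IsMaximal → P = M := by
    intro P hP
    refine le_antisymm (fun z hz => ?_) (hle P hP)
    obtain ⟨c, hc⟩ := h.exists_const z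
    by_cases hc0 : c = 0
    · subst hc0; simpa using hc
    · exfalso
      have hu : IsUnit (algebraMap (MvPowerSeries (Fin n) k) A (MvPowerSeries.C c)) :=
        ((isUnit_iff_ne_zero.mpr hc0).map MvPowerSeries.C).map _
      exact hP.ne_top (Ideal.eq_top_of_isUnit_mem _ (by simpa using P.sub_mem hz (hle P hP hc)) hu)
  obtain ⟨P0, hP0⟩ := Ideal.exists_maximal A
  haveI : IsLocalRing A := IsLocalRing.of_unique_max_ideal ⟨M, by dsimp only; rw [← hmax P0 hP0]; exact hP0, hmax⟩
  have hMeq : maximalIdeal A = M := hmax _ inferInstance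
  refine ⟨IsRegularLocalRing.of_spanFinrank_maximalIdeal_le A ?_, hMeq, hdim⟩
  rw [hdim, hMeq]
  exact_mod_cast (Submodule.spanFinrank_span_le_ncard_of_finite (Set.finite_range _)).trans
    ((Set.ncard_image_le (f := u) (s := Set.univ)).trans (by simp) |>.trans_eq' (by rw [Set.image_univ]))

theorem isAdicComplete (h : IsAS p a u) : IsAdicComplete (Ideal.span (Set.range u)) A := by
  have hp := (Fact.out : p.Prime)
  haveI : IsRegularLocalRing (MvPowerSeries (Fin n) k) := Misc9.SF.ps_isRegularLocalRing n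
  haveI := h.finite
  let I : Ideal (MvPowerSeries (Fin n) k) := Ideal.span (Set.range MvPowerSeries.X)
  haveI : IsAdicComplete I A := Adic.FiniteModule.isAdicComplete_of_finite
  haveI hJ : IsAdicComplete (I.map (algebraMap _ A)) A := (IsAdicComplete.map_algebraMap_iff _ _).2 inferInstance
  obtain ⟨N, hN⟩ := Ideal.exists_pow_le_of_le_radical_of_fg (I := Ideal.span (Set.range u)) (J := I.map (algebraMap _ A)) (by
    refine Ideal.span_le.mpr (Set.range_subset_iff.mpr fun i => ⟨p, ?_⟩)
    rw [h.pow_eq]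
    refine add_mem (Ideal.mul_mem_right _ _ (Ideal.mem_map_of_mem _ ?_)) (Ideal.mem_map_of_mem _ (Ideal.subset_span ⟨i, rfl⟩))
    have := h.a_pow_mem i
    rwa [maximalIdeal_ps] at this) (Submodule.fg_span (Set.finite_range _))
  refine adicComplete_of_le_of_pow_le (I.map (algebraMap _ A)) _ ?_ (N + 1) (Nat.succ_pos N)
    ((Ideal.pow_le_pow_right (Nat.le_succ N)).trans hN)
  rw [show I = maximalIdeal _ from (maximalIdeal_ps k n).symm]
  exact h.map_max_le

theorem isDomain (h : IsAS p a u) : IsDomain A := by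
  obtain ⟨hreg, -, -⟩ := h.structure_
  exact RegularLocal.Basic.isDomain

theorem map_max_eq (h : IsAS p a u) :
    (maximalIdeal (MvPowerSeries (Fin n) k)).map (algebraMap (MvPowerSeries (Fin n) k) A) = Ideal.span (Set.range fun i => u i ^ p) := by
  obtain ⟨hreg, hM, -⟩ := h.structure_
  let J := (maximalIdeal (MvPowerSeries (Fin n) k)).map (algebraMap (MvPowerSeries (Fin n) k) A)
  have hX : ∀ i, algebraMap (MvPowerSeries (Fin n) k) A (MvPowerSeries.X i) ∈ J := fun i =>
    Ideal.mem_map_of_mem _ (by rw [maximalIdeal_ps]; exact Ideal.subset_span ⟨i, rfl⟩)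
  refine le_antisymm ?_ (Ideal.span_le.mpr (Set.range_subset_iff.mpr fun i => by
    rw [h.pow_eq]; exact add_mem (Ideal.mul_mem_right _ _ (Ideal.mem_map_of_mem _ (h.a_pow_mem i))) (hX i)))
  refine Submodule.le_of_le_smul_of_le_jacobson_bot (IsNoetherian.noetherian _)
    (IsLocalRing.jacobson_eq_maximalIdeal _ bot_ne_top).ge ?_
  conv_lhs => rw [maximalIdeal_ps, Ideal.map_span, ← Set.range_comp]
  refine Ideal.span_le.mpr (Set.range_subset_iff.mpr fun i => ?_)
  rw [Function.comp_apply, show algebraMap (MvPowerSeries (Fin n) k) A (MvPowerSeries.X i) =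
    u i ^ p + -(u i * algebraMap (MvPowerSeries (Fin n) k) A (a i ^ (p - 1))) by rw [h.pow_eq]; ring]
  exact add_mem (Ideal.mem_sup_left (Ideal.subset_span ⟨i, rfl⟩))
    (Ideal.mem_sup_right (neg_mem (Submodule.smul_mem_smul (hM ▸ Ideal.subset_span ⟨i, rfl⟩) (Ideal.mem_map_of_mem _ (h.a_pow_mem i)))))

theorem free_finrank (h : IsAS p a u) :
    Module.Free (MvPowerSeries (Fin n) k) A ∧ Module.finrank (MvPowerSeries (Fin n) k) A = p ^ n := by
  classical
  have hp := (Fact.out : p.Prime)
  haveI : IsRegularLocalRing (MvPowerSeries (Fin n) k) := Misc9.SF.ps_isRegularLocalRing n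
  obtain ⟨hreg, hM, hdim⟩ := h.structure_
  haveI : IsAdicComplete (maximalIdeal A) A := hM ▸ h.isAdicComplete
  letI : Algebra k A := ((algebraMap (MvPowerSeries (Fin n) k) A).comp (algebraMap k (MvPowerSeries (Fin n) k))).toAlgebra
  haveI : IsScalarTower k (MvPowerSeries (Fin n) k) A := IsScalarTower.of_algebraMap_eq fun _ => rfl
  have hk : Function.Surjective (residue A ∘ algebraMap k A) := fun z => by
    obtain ⟨y, rfl⟩ := Ideal.Quotient.mk_surjective z
    obtain ⟨c, hc⟩ := h.exists_const y
    refine ⟨c, Ideal.Quotient.eq.mpr ?_⟩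
    rw [IsScalarTower.algebraMap_apply k (MvPowerSeries (Fin n) k) A, ← MvPowerSeries.c_eq_algebraMap, ← neg_sub, hM]
    exact neg_mem hc
  have hJ : Ideal.span (Set.range fun i => algebraMap (MvPowerSeries (Fin n) k) A (MvPowerSeries.X i)) = Ideal.span (Set.range fun i => u i ^ p) := by
    rw [← h.map_max_eq, maximalIdeal_ps, Ideal.map_span, ← Set.range_comp]; rfl
  have hrad : (Ideal.span (Set.range fun i => algebraMap (MvPowerSeries (Fin n) k) A (MvPowerSeries.X i))).radical = maximalIdeal A := by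
    rw [hJ]
    refine le_antisymm (((maximalIdeal.isMaximal A).isPrime.radical_le_iff).mpr ?_) ?_
    · exact Ideal.span_le.mpr (Set.range_subset_iff.mpr fun i => Ideal.pow_mem_of_mem _ (hM ▸ Ideal.subset_span ⟨i, rfl⟩) _ hp.pos)
    · rw [hM]; exact Ideal.span_le.mpr (Set.range_subset_iff.mpr fun i => ⟨p, Ideal.subset_span ⟨i, rfl⟩⟩)
  obtain ⟨d, b, hd, hb⟩ := exists_basis_over_ps A n hdim k hk _ hrad (IsScalarTower.toAlgHom k (MvPowerSeries (Fin n) k) A) (fun i => rfl)
  rw [hJ, length_pows hdim u hM.symm hp.pos] at hd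
  let e : (Fin d → MvPowerSeries (Fin n) k) ≃ₗ[MvPowerSeries (Fin n) k] A := LinearEquiv.ofBijective (Fintype.linearCombination _ b) (by
    convert hb using 1
    ext r
    simp [Fintype.linearCombination_apply, Algebra.smul_def])
  refine ⟨Module.Free.of_equiv e, ?_⟩
  rw [← e.finrank_eq, Module.finrank_fin_fun]
  exact_mod_cast hd

end IsAS
end Abstract

theorem isAS_asGen (p : ℕ) [Fact p.Prime] {k : Type u} [Field k] {n : ℕ} {a : Fin n → MvPowerSeries (Fin n) k}
    (ham : ∀ i, MvPowerSeries.constantCoeff (a i) = 0) : IsAS p a (asGen p a) :=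
  ⟨asGen_pow p a, asGen_surjective p a, as_injective p a, ham⟩

end Groth.Agent.WQ8
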