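import Groth.Agent.WQ8.ASFamily
import Mathlib.FieldTheory.Galois.Basic
import Mathlib.RingTheory.Invariant.Basic

set_option autoImplicit false
set_option linter.style.haveILetI false
universe u

namespace Groth.Agent.WQ8

open IsLocalRing MvPolynomial

namespace IsAS

variable {p : ℕ} [Fact p.Prime] {k : Type u} [Field k] [CharP k p] {n : ℕ} {a : Fin n → MvPowerSeries (Fin n) k}
  {A : Type u} [CommRing A] [Algebra (MvPowerSeries (Fin n) k) A] {u : Fin n → A}

omit [Fact p.Prime] [CharP k p] in
theorem algHom_ext {B : Type*} [CommRing B] [Algebra (MvPowerSeries (Fin n) k) B] (h : IsAS p a u)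
    {f g : A →ₐ[MvPowerSeries (Fin n) k] B} (hfg : ∀ i, f (u i) = g (u i)) : f = g := by
  refine AlgHom.ext fun x => ?_
  obtain ⟨q, rfl⟩ := h.surj x
  exact DFunLike.congr_fun (MvPolynomial.algHom_ext (f := f.comp (aeval u)) (g := g.comp (aeval u)) fun i => by simpa using hfg i) q

theorem charP (h : IsAS p a u) : CharP A p := by
  haveI : CharP (MvPowerSeries (Fin n) k) p := charP_of_injective_ringHom (f := (MvPowerSeries.C : k →+* MvPowerSeries (Fin n) k)) (fun x y e => by
    simpa using congrArg MvPowerSeries.constantCoeff e) p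
  exact charP_of_injective_algebraMap h.inj p

/-- The automorphisms are the translations by the `F_p`-multiples of the `a i`. -/
theorem exists_autEquiv (h : IsAS p a u) (ha0 : ∀ i, a i ≠ 0)
    (hlift : ∀ v : Fin n → A, (∀ i, v i ^ p = algebraMap (MvPowerSeries (Fin n) k) A (a i ^ (p - 1)) * v i + algebraMap (MvPowerSeries (Fin n) k) A (MvPowerSeries.X i)) →
      ∃ f : A →ₐ[MvPowerSeries (Fin n) k] A, ∀ i, f (u i) = v i) :
    Nonempty (Multiplicative (Fin n → ZMod p) ≃* (A ≃ₐ[MvPowerSeries (Fin n) k] A)) := by
  classical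
  have hp := (Fact.out : p.Prime)
  let R := MvPowerSeries (Fin n) k
  haveI := h.charP
  haveI := h.isDomain
  let z : ZMod p →+* A := ZMod.castHom dvd_rfl A
  have hz : ∀ c, z c ^ p = z c := fun c => by rw [← map_pow, ZMod.pow_card]
  have hzfix : ∀ (f : A →ₐ[R] A) c, f (z c) = z c := fun f c => DFunLike.congr_fun (RingHom.ext_zmod (f.toRingHom.comp z) z) c
  let v : (Fin n → ZMod p) → Fin n → A := fun c i => u i + z (c i) * algebraMap R A (a i)
  have hv : ∀ c i, v c i ^ p = algebraMap R A (a i ^ (p - 1)) * v c i + algebraMap R A (MvPowerSeries.X i) := fun c i => by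
    simp only [v]
    rw [add_pow_char, mul_pow, hz, h.pow_eq i, mul_add, map_pow, mul_left_comm (algebraMap R A (a i) ^ (p - 1)), ← pow_succ,
      Nat.sub_add_cancel hp.one_le]
    ring
  choose f hf using fun c => hlift (v c) (hv c)
  have hcomp : ∀ c d, (f c).comp (f d) = f (c + d) := fun c d => h.algHom_ext fun i => by
    simp only [AlgHom.comp_apply, hf, v, map_add, map_mul, hzfix, Pi.add_apply]
    erw [(f c).commutes (a i)]
    ring
  have hzero : f 0 = AlgHom.id R A := h.algHom_ext fun i => by simp [hf, v]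
  let e : (Fin n → ZMod p) → (A ≃ₐ[R] A) := fun c => AlgEquiv.ofAlgHom (f c) (f (-c))
    (by rw [hcomp, add_neg_cancel, hzero]) (by rw [hcomp, neg_add_cancel, hzero])
  refine ⟨MulEquiv.ofBijective (MonoidHom.mk' (fun c : Multiplicative (Fin n → ZMod p) => e c.toAdd) fun c d => AlgEquiv.ext fun x => ?_) ⟨?_, ?_⟩⟩
  · show f (c.toAdd + d.toAdd) x = f c.toAdd (f d.toAdd x)
    rw [← hcomp]; rfl
  · intro c d hcd
    refine Multiplicative.toAdd.injective (funext fun i => ?_)
    have h1 : f c.toAdd (u i) = f d.toAdd (u i) := congrArg (fun g : A ≃ₐ[R] A => g (u i)) hcd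
    simp only [hf, v, add_right_inj] at h1
    exact z.injective (mul_right_cancel₀ (fun e0 => ha0 i (h.inj (e0.trans (map_zero _).symm))) h1)
  · intro σ
    have hc : ∀ i, ∃ c : ZMod p, z c * algebraMap R A (a i) = σ (u i) - u i := by
      intro i
      by_contra hne
      simp only [not_exists] at hne
      have hd : (σ (u i) - u i) ^ p = algebraMap R A (a i) ^ (p - 1) * (σ (u i) - u i) := by
        rw [sub_pow_char, ← map_pow σ, h.pow_eq i, map_add, map_mul, σ.commutes, σ.commutes, map_pow]
        ring
      let P : Polynomial A := Polynomial.X ^ p - Polynomial.C (algebraMap R A (a i) ^ (p - 1)) * Polynomial.X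
      have hnd : P.natDegree = p := by
        rw [Polynomial.natDegree_sub_eq_left_of_natDegree_lt] <;> rw [Polynomial.natDegree_X_pow]
        exact (Polynomial.natDegree_C_mul_le _ _).trans_lt (by rw [Polynomial.natDegree_X]; exact hp.one_lt)
      have hP0 : P ≠ 0 := fun e0 => hp.ne_zero (by rw [← hnd, e0, Polynomial.natDegree_zero])
      have hsub : insert (σ (u i) - u i) (Finset.univ.image fun c => z c * algebraMap R A (a i)) ⊆ P.roots.toFinset := by
        intro y hy
        rw [Multiset.mem_toFinset, Polynomial.mem_roots hP0]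
        simp only [P, Polynomial.IsRoot, Polynomial.eval_sub, Polynomial.eval_mul, Polynomial.eval_pow, Polynomial.eval_X, Polynomial.eval_C]
        rcases Finset.mem_insert.mp hy with rfl | hy
        · rw [hd, sub_self]
        · obtain ⟨c, -, rfl⟩ := Finset.mem_image.mp hy
          rw [mul_pow, hz, mul_left_comm, ← pow_succ, Nat.sub_add_cancel hp.one_le, sub_self]
      have hcard := (Finset.card_le_card hsub).trans ((Multiset.toFinset_card_le _).trans (Polynomial.card_roots' _))
      rw [Finset.card_insert_of_notMem (by simpa using hne), Finset.card_image_of_injective _ (fun c d e0 =>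
        z.injective (mul_right_cancel₀ (fun e1 => ha0 i (h.inj (e1.trans (map_zero _).symm))) e0)), Finset.card_univ, ZMod.card, hnd] at hcard
      omega
    choose c hc using hc
    refine ⟨Multiplicative.ofAdd c, AlgEquiv.ext fun x => ?_⟩
    show f c x = σ.toAlgHom x
    rw [h.algHom_ext (f := f c) (g := σ.toAlgHom) fun i => by rw [hf]; show u i + _ = σ (u i); rw [hc]; ring]

/-- The invariants of the automorphism group are the base ring. -/
theorem mem_range_of_fixed (h : IsAS p a u) (ha0 : ∀ i, a i ≠ 0)
    (hlift : ∀ v : Fin n → A, (∀ i, v i ^ p = algebraMap (MvPowerSeries (Fin n) k) A (a i ^ (p - 1)) * v i + algebraMap (MvPowerSeries (Fin n) k) A (MvPowerSeries.X i)) →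
      ∃ f : A →ₐ[MvPowerSeries (Fin n) k] A, ∀ i, f (u i) = v i)
    (b : A) (hb : ∀ σ : A ≃ₐ[MvPowerSeries (Fin n) k] A, σ b = b) : b ∈ Set.range (algebraMap (MvPowerSeries (Fin n) k) A) := by
  classical
  let R := MvPowerSeries (Fin n) k
  let G := A ≃ₐ[R] A
  obtain ⟨e⟩ := h.exists_autEquiv ha0 hlift
  haveI : Finite G := Finite.of_equiv _ e.toEquiv
  haveI := Fintype.ofFinite G
  haveI := h.isDomain
  haveI : IsRegularLocalRing R := Misc9.SF.ps_isRegularLocalRing n
  haveI : IsDomain R := RegularLocal.Basic.isDomain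
  haveI : IsIntegrallyClosed R := RegularLocal.Normal.isIntegrallyClosed
  haveI := h.finite
  haveI : FaithfulSMul R A := (faithfulSMul_iff_algebraMap_injective R A).mpr h.inj
  let F := FractionRing R
  let L := FractionRing A
  letI : Algebra F L := FractionRing.liftAlgebra R L
  haveI : IsScalarTower R F L := FractionRing.isScalarTower_liftAlgebra R L
  letI : MulSemiringAction G L := IsFractionRing.mulSemiringAction G A L
  haveI : SMulDistribClass G A L := IsFractionRing.smulDistribClass G A L
  have hal : ∀ (g : G) (x : A), g • algebraMap A L x = algebraMap A L (g x) := fun g x => (algebraMap.coe_smul' g x L).symm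
  have inj := IsFractionRing.injective A L
  haveI : FaithfulSMul G L := ⟨fun {g g'} hgg => AlgEquiv.ext fun x => inj (by rw [← hal, ← hal]; exact hgg _)⟩
  haveI : SMulCommClass G F L := ⟨fun g f x => by
    obtain ⟨r, s, hs, rfl⟩ := IsFractionRing.div_surjective (A := R) f
    have hFA : ∀ r : R, algebraMap F L (algebraMap R F r) = algebraMap A L (algebraMap R A r) := fun r => by
      rw [← IsScalarTower.algebraMap_apply, IsScalarTower.algebraMap_apply R A L]
    rw [Algebra.smul_def, Algebra.smul_def, smul_mul', map_div₀, hFA, hFA, div_eq_mul_inv, smul_mul', smul_inv'', hal, hal, g.commutes, g.commutes]⟩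
  let K : IntermediateField F L := FixedPoints.intermediateField G
  have hKL : Module.finrank K L = p ^ n := by
    have h1 : Module.finrank (FixedPoints.subfield G L) L = Fintype.card G := FixedPoints.finrank_eq_card G L
    rw [← Nat.card_eq_fintype_card, ← Nat.card_congr e.toEquiv] at h1
    rw [Nat.card_congr Multiplicative.toAdd, Nat.card_fun, Nat.card_zmod, Nat.card_fin] at h1
    exact h1
  have hFL : Module.finrank F L = p ^ n := by rw [IsFractionRing.finrank_eq R F A L]; exact h.free_finrank.2
  have hFK : Module.finrank F K = 1 := by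
    have := Module.finrank_mul_finrank F K L
    rw [hFL, hKL] at this
    exact (Nat.mul_eq_right (pow_ne_zero n (Fact.out : p.Prime).ne_zero)).mp this
  have hK : K = ⊥ := IntermediateField.finrank_eq_one_iff.mp hFK
  have hbK : algebraMap A L b ∈ K := fun g => by rw [hal, hb g]
  rw [hK, IntermediateField.mem_bot] at hbK
  obtain ⟨f, hf⟩ := hbK
  have hint : IsIntegral R f := by
    have h1 : IsIntegral R (algebraMap A L b) := (Algebra.IsIntegral.isIntegral b).map (IsScalarTower.toAlgHom R A L)
    rw [← hf] at h1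
    exact (isIntegral_algebraMap_iff (algebraMap F L).injective).mp h1
  obtain ⟨r, hr⟩ := IsIntegrallyClosed.isIntegral_iff.mp hint
  exact ⟨r, inj (by rw [← hf, ← hr, ← IsScalarTower.algebraMap_apply, IsScalarTower.algebraMap_apply R F L])⟩

end IsAS

theorem asLift_self (p : ℕ) {k : Type u} [Field k] {n : ℕ} (a : Fin n → MvPowerSeries (Fin n) k) :
    ∀ v : Fin n → MvPolynomial (Fin n) (MvPowerSeries (Fin n) k) ⧸ asIdeal p a,
      (∀ i, v i ^ p = algebraMap (MvPowerSeries (Fin n) k) _ (a i ^ (p - 1)) * v i + algebraMap (MvPowerSeries (Fin n) k) _ (MvPowerSeries.X i)) →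
      ∃ f : (MvPolynomial (Fin n) (MvPowerSeries (Fin n) k) ⧸ asIdeal p a) →ₐ[MvPowerSeries (Fin n) k]
        (MvPolynomial (Fin n) (MvPowerSeries (Fin n) k) ⧸ asIdeal p a), ∀ i, f (asGen p a i) = v i :=
  fun v hv => as_lift p a v hv

end Groth.Agent.WQ8
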