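import Mathlib

set_option autoImplicit false
universe u w

namespace Groth.Agent.WQ8

open IsLocalRing

variable {A : Type u} [CommRing A] [IsLocalRing A] {G : Type w} [Group G] [Fintype G] [MulSemiringAction G A]
  {n : ℕ} {u : Fin n → A}

theorem norm_fixed (σ : G) (i : Fin n) : σ • (∏ τ : G, τ • u i) = ∏ τ : G, τ • u i := by
  simp only [Finset.smul_prod', smul_smul]
  exact Fintype.prod_equiv (Equiv.mulLeft σ) _ _ fun _ => rfl

theorem smul_mem_of_choices (hu : ∀ τ : Fin n → G, Ideal.span (Set.range fun i => τ i • u i) = maximalIdeal A)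
    (σ : G) (i : Fin n) : σ • u i ∈ maximalIdeal A := by
  rw [← hu fun _ => σ]
  exact Ideal.subset_span ⟨i, rfl⟩

theorem norm_mem (hu : ∀ τ : Fin n → G, Ideal.span (Set.range fun i => τ i • u i) = maximalIdeal A)
    (i : Fin n) : (∏ τ : G, τ • u i) ∈ maximalIdeal A := by
  classical
  rw [← Finset.mul_prod_erase Finset.univ _ (Finset.mem_univ (1 : G))]
  exact Ideal.mul_mem_right _ _ (smul_mem_of_choices hu 1 i)

/-- A prime containing all the norms contains some conjugate of each element. -/
theorem le_radical_norms (hu : ∀ τ : Fin n → G, maximalIdeal A ≤ (Ideal.span (Set.range fun i => τ i • u i)).radical) :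
    maximalIdeal A ≤ (Ideal.span (Set.range fun i => ∏ τ : G, τ • u i)).radical := by
  rw [Ideal.radical_eq_sInf]
  refine le_sInf fun P hP => ?_
  obtain ⟨hle, hprime⟩ := hP
  haveI := hprime
  have h1 : ∀ i, ∃ σ : G, σ • u i ∈ P := fun i => by
    obtain ⟨σ, -, hσ⟩ := hprime.prod_mem_iff.mp (hle (Ideal.subset_span ⟨i, rfl⟩))
    exact ⟨σ, hσ⟩
  choose τ hτ using h1
  exact (hu τ).trans ((Ideal.radical_mono (Ideal.span_le.mpr (Set.range_subset_iff.mpr hτ))).trans_eq hprime.radical)

end Groth.Agent.WQ8
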