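import Groth.Agent.WQ8.Triangular

set_option autoImplicit false
set_option linter.style.haveILetI false
universe u v

namespace Groth.Agent.WQ8

open IsLocalRing

variable {p : ℕ} [Fact p.Prime] {A : Type u} [CommRing A] [IsLocalRing A] [CharP A p]
  {G : Type v} [Group G] [Finite G] [MulSemiringAction G A]

/-- A `p`-group in characteristic `p` fixes an element of `m` modulo a stable ideal `W < m`. -/
theorem exists_fixed_mod (hG : IsPGroup p G) (W : Ideal A) (hW : W ≤ maximalIdeal A) (hne : W ≠ maximalIdeal A)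
    (hst : ∀ σ : G, W.map (MulSemiringAction.toRingHom G A σ) ≤ W) :
    ∃ x ∈ maximalIdeal A, x ∉ W ∧ ∀ σ : G, σ • x - x ∈ W := by
  classical
  have hp := (Fact.out : p.Prime)
  haveI := Fintype.ofFinite G
  obtain ⟨y, hy, hyW⟩ := SetLike.exists_of_lt (lt_of_le_of_ne hW hne)
  haveI : Nontrivial (A ⧸ W) := Ideal.Quotient.nontrivial_iff.mpr fun e => (maximalIdeal.isMaximal A).ne_top (top_le_iff.mp (e ▸ hW))
  haveI : CharP (A ⧸ W) p := (CharP.charP_iff_prime_eq_zero hp).mpr (by
    rw [← map_natCast (Ideal.Quotient.mk W), CharP.cast_eq_zero A p, map_zero])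
  let c : ZMod p →+* A ⧸ W := ZMod.castHom dvd_rfl _
  let Φ : (G → ZMod p) →+ A ⧸ W :=
    { toFun := fun f => ∑ g, c (f g) * Ideal.Quotient.mk W (g • y)
      map_zero' := by simp
      map_add' := fun f f' => by simp [add_mul, Finset.sum_add_distrib] }
  let α : G → (A ⧸ W →+* A ⧸ W) := fun σ =>
    Ideal.quotientMap W (MulSemiringAction.toRingHom G A σ) (Ideal.map_le_iff_le_comap.mp (hst σ))
  have hα : ∀ σ a, α σ (Ideal.Quotient.mk W a) = Ideal.Quotient.mk W (σ • a) := fun σ a => Ideal.quotientMap_mk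
  have hαΦ : ∀ σ f, α σ (Φ f) = Φ fun g => f (σ⁻¹ * g) := fun σ f => by
    show α σ (∑ g, c (f g) * Ideal.Quotient.mk W (g • y)) = ∑ g, c (f (σ⁻¹ * g)) * Ideal.Quotient.mk W (g • y)
    rw [map_sum]
    refine Fintype.sum_equiv (Equiv.mulLeft σ) _ _ fun g => ?_
    have hc : α σ (c (f g)) = c (f g) := DFunLike.congr_fun (RingHom.ext_zmod ((α σ).comp c) c) (f g)
    rw [map_mul, hc, hα, smul_smul, Equiv.coe_mulLeft, inv_mul_cancel_left]
  letI : MulAction G Φ.range :=
    { smul := fun σ z => ⟨α σ z.1, by obtain ⟨f, hf⟩ := z.2; exact ⟨_, (hαΦ σ f).symm.trans (congrArg (α σ) hf)⟩⟩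
      one_smul := fun z => Subtype.ext (by
        obtain ⟨a, ha⟩ := Ideal.Quotient.mk_surjective z.1
        show α 1 z.1 = z.1
        rw [← ha, hα, one_smul])
      mul_smul := fun σ τ z => Subtype.ext (by
        obtain ⟨a, ha⟩ := Ideal.Quotient.mk_surjective z.1
        show α (σ * τ) z.1 = α σ (α τ z.1)
        rw [← ha, hα, hα, hα, mul_smul]) }
  haveI : Finite Φ.range := Finite.of_surjective Φ.rangeRestrict Φ.rangeRestrict_surjective
  have hdvd : p ∣ Nat.card Φ.range := by
    obtain ⟨k, -, hk⟩ := (Nat.dvd_prime_pow hp).mp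
      ((AddSubgroup.card_range_dvd Φ).trans (dvd_of_eq (by rw [Nat.card_fun, Nat.card_zmod])))
    rcases k with _ | k
    · exfalso
      haveI : Subsingleton Φ.range := (Nat.card_eq_one_iff_unique.mp (hk.trans (pow_zero p))).1
      have h1 : (⟨Φ (Pi.single 1 1), _, rfl⟩ : Φ.range) = 0 := Subsingleton.elim _ _
      have h2 : Φ (Pi.single 1 1) = 0 := congrArg Subtype.val h1
      refine hyW (Ideal.Quotient.eq_zero_iff_mem.mp ?_)
      rw [← h2]
      show _ = ∑ g, c ((Pi.single 1 1 : G → ZMod p) g) * Ideal.Quotient.mk W (g • y)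
      rw [Fintype.sum_eq_single (1 : G) fun g hg => by rw [Pi.single_eq_of_ne hg, map_zero, zero_mul], Pi.single_eq_same, map_one,
        one_mul, one_smul]
    · exact hk ▸ dvd_pow_self p (Nat.succ_ne_zero k)
  have h0 : (0 : Φ.range) ∈ MulAction.fixedPoints G Φ.range := fun σ => Subtype.ext (map_zero (α σ))
  obtain ⟨z, hz, hz0⟩ := hG.exists_fixed_point_of_prime_dvd_card_of_fixed_point Φ.range hdvd h0
  obtain ⟨f, hf⟩ := z.2
  obtain ⟨x, hx⟩ := Ideal.Quotient.mk_surjective z.1
  have hxm : x ∈ maximalIdeal A := by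
    have hmem : z.1 ∈ (maximalIdeal A).map (Ideal.Quotient.mk W) := by
      rw [← hf]
      exact Ideal.sum_mem _ fun g _ => Ideal.mul_mem_left _ _ (Ideal.mem_map_of_mem _ (smul_maximalIdeal_le' g hy))
    rw [← hx, ← Ideal.mem_comap, Ideal.comap_map_of_surjective _ Ideal.Quotient.mk_surjective, ← RingHom.ker_eq_comap_bot,
      Ideal.mk_ker, sup_eq_left.mpr hW] at hmem
    exact hmem
  refine ⟨x, hxm, fun h => hz0 (Subtype.ext ?_), fun σ => Ideal.Quotient.eq.mp ?_⟩
  · show (0 : A ⧸ W) = z.1
    rw [← hx, Ideal.Quotient.eq_zero_iff_mem.mpr h]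
  · rw [← hα, hx]
    exact congrArg Subtype.val (hz σ)
where
  smul_maximalIdeal_le' (g : G) {a : A} (ha : a ∈ maximalIdeal A) : g • a ∈ maximalIdeal A := fun h =>
    ha (by simpa using h.map (MulSemiringAction.toRingHom G A g⁻¹))

theorem exists_triangular [IsRegularLocalRing A] (hG : IsPGroup p G) {n : ℕ} (hn : ringKrullDim A = n) :
    ∃ u : Fin n → A, Ideal.span (Set.range u) = maximalIdeal A ∧
      ∀ (σ : G) (i : Fin n), σ • u i ∈ Ideal.span (u '' {j | j ≤ i}) ⊔ maximalIdeal A ^ 2 := by
  classical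
  have hrank : Module.finrank (ResidueField A) (CotangentSpace A) = n := by
    exact_mod_cast ((IsRegularLocalRing.iff_finrank_cotangentSpace A).mp inferInstance).trans hn
  suffices h : ∀ k ≤ n, ∃ u : Fin k → maximalIdeal A,
      LinearIndependent (ResidueField A) (fun i => (maximalIdeal A).toCotangent (u i)) ∧
      ∀ (σ : G) (i : Fin k), σ • (u i : A) ∈ Ideal.span ((fun j => (u j : A)) '' {j | j ≤ i}) ⊔ maximalIdeal A ^ 2 by
    obtain ⟨u, hli, htri⟩ := h n le_rfl
    refine ⟨fun i => u i, ?_, htri⟩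
    have htop : Submodule.span A (Set.range u) = ⊤ := by
      rw [← IsLocalRing.CotangentSpace.span_image_eq_top_iff, ← Set.range_comp]
      exact hli.span_eq_top_of_card_eq_finrank' (by rw [Fintype.card_fin, hrank])
    have := congrArg (Submodule.map (maximalIdeal A).subtype) htop
    rw [Submodule.map_span, Submodule.map_top, Submodule.range_subtype, ← Set.range_comp] at this
    exact this
  intro k
  induction k with
  | zero => exact fun _ => ⟨Fin.elim0, linearIndependent_empty_type, fun _ i => i.elim0⟩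
  | succ k ih =>
    intro hk
    obtain ⟨u, hli, htri⟩ := ih (by omega)
    let W : Ideal A := Ideal.span (Set.range fun j => (u j : A)) ⊔ maximalIdeal A ^ 2
    have hW : W ≤ maximalIdeal A := sup_le (Ideal.span_le.mpr (Set.range_subset_iff.mpr fun j => (u j).2)) (Ideal.pow_le_self two_ne_zero)
    have hspan : ∀ x : maximalIdeal A, (x : A) ∈ W ↔
        (maximalIdeal A).toCotangent x ∈ Submodule.span (ResidueField A) (Set.range fun i => (maximalIdeal A).toCotangent (u i)) := by
      intro x
      have hm : ∀ S : Submodule A (maximalIdeal A), x ∈ S ↔ (x : A) ∈ S.map (maximalIdeal A).subtype := fun S =>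
        ⟨fun h => ⟨x, h, rfl⟩, fun ⟨y, hy, e⟩ => (Subtype.ext e : y = x) ▸ hy⟩
      rw [← Submodule.restrictScalars_mem A (Submodule.span (ResidueField A) _), Submodule.restrictScalars_span A (ResidueField A) Ideal.Quotient.mk_surjective,
        show Set.range (fun i => (maximalIdeal A).toCotangent (u i)) = (maximalIdeal A).toCotangent '' Set.range u from
          Set.range_comp _ _,
        ← Submodule.map_span, ← Submodule.mem_comap, Submodule.comap_map_eq,
        hm, Submodule.map_sup, Submodule.map_span,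
        Ideal.map_toCotangent_ker, ← Set.range_comp]
      rfl
    have hne : W ≠ maximalIdeal A := by
      intro e
      have htop : Submodule.span (ResidueField A) (Set.range fun i => (maximalIdeal A).toCotangent (u i)) = ⊤ :=
        eq_top_iff.mpr fun z _ => by
          obtain ⟨x, rfl⟩ := Ideal.toCotangent_surjective _ z
          exact (hspan x).mp (by rw [e]; exact x.2)
      have := (finrank_range_le_card (R := ResidueField A) fun i => (maximalIdeal A).toCotangent (u i))
      rw [Set.finrank, htop, finrank_top, hrank, Fintype.card_fin] at this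
      omega
    have hst : ∀ σ : G, W.map (MulSemiringAction.toRingHom G A σ) ≤ W := by
      intro σ
      rw [Ideal.map_sup, sup_le_iff, Ideal.map_span, Ideal.span_le, Ideal.map_pow]
      refine ⟨?_, (Ideal.pow_right_mono (smul_maximalIdeal_le σ) 2).trans le_sup_right⟩
      rintro _ ⟨_, ⟨j, rfl⟩, rfl⟩
      have hle : Ideal.span ((fun j => (u j : A)) '' {l | l ≤ j}) ⊔ maximalIdeal A ^ 2 ≤ W :=
        sup_le_sup_right (Ideal.span_mono (Set.image_subset_range _ _)) _
      exact hle (htri σ j)
    obtain ⟨x, hxm, hxW, hfix⟩ := exists_fixed_mod hG W hW hne hst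
    refine ⟨Fin.snoc u ⟨x, hxm⟩, ?_, fun σ i => ?_⟩
    · rw [show (fun i => (maximalIdeal A).toCotangent (Fin.snoc (α := fun _ => maximalIdeal A) u ⟨x, hxm⟩ i)) =
        Fin.snoc (fun i => (maximalIdeal A).toCotangent (u i)) ((maximalIdeal A).toCotangent ⟨x, hxm⟩) from
          Fin.comp_snoc _ _ _, linearIndependent_finSnoc]
      exact ⟨hli, fun h => hxW ((hspan ⟨x, hxm⟩).mpr h)⟩
    · induction i using Fin.lastCases with
      | last =>
        rw [Fin.snoc_last]
        have hle : Ideal.span (Set.range fun j => (u j : A)) ≤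
            Ideal.span ((fun j => ((Fin.snoc (α := fun _ => maximalIdeal A) u ⟨x, hxm⟩ j : maximalIdeal A) : A)) '' {j | j ≤ Fin.last k}) :=
          Ideal.span_mono (by rintro _ ⟨j, rfl⟩; exact ⟨j.castSucc, Fin.le_last _, by simp⟩)
        rw [show σ • x = (σ • x - x) + x by ring]
        exact add_mem (sup_le_sup_right hle _ (hfix σ))
          (Ideal.mem_sup_left (Ideal.subset_span ⟨Fin.last k, le_refl (Fin.last k), by simp⟩))
      | cast j =>
        rw [Fin.snoc_castSucc]
        have hle : Ideal.span ((fun j => (u j : A)) '' {l | l ≤ j}) ⊔ maximalIdeal A ^ 2 ≤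
            Ideal.span ((fun j => ((Fin.snoc (α := fun _ => maximalIdeal A) u ⟨x, hxm⟩ j : maximalIdeal A) : A)) '' {l | l ≤ j.castSucc}) ⊔ maximalIdeal A ^ 2 :=
          sup_le_sup_right (Ideal.span_mono (by rintro _ ⟨l, hl, rfl⟩; exact ⟨l.castSucc, Fin.castSucc_le_castSucc_iff.mpr hl, by simp⟩)) _
        exact hle (htri σ j)

end Groth.Agent.WQ8
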