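import Groth.Agent.WQ8.InvariantRing

set_option autoImplicit false
universe u v w

namespace Groth.Agent.WQ8

open IsLocalRing

theorem isIntegrallyClosed_fixedSubring (A : Type u) [CommRing A] [IsDomain A] [IsIntegrallyClosed A]
    (G : Type w) [Group G] [MulSemiringAction G A] : IsIntegrallyClosed (FixedPoints.subring A G) := by
  let R := FixedPoints.subring A G
  rw [isIntegrallyClosed_iff (FractionRing R)]
  intro x hx
  obtain ⟨a, s, hs, rfl⟩ := IsFractionRing.div_surjective (A := R) x
  have hs0 : s ≠ 0 := nonZeroDivisors.ne_zero hs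
  let L := FractionRing A
  let g : FractionRing R →+* L :=
    IsFractionRing.lift (g := (algebraMap A L).comp R.subtype) ((IsFractionRing.injective A L).comp Subtype.val_injective)
  have hg : ∀ r : R, g (algebraMap R (FractionRing R) r) = algebraMap A L (r : A) := fun r => IsFractionRing.lift_algebraMap _ r
  have hint : IsIntegral A (g (algebraMap R (FractionRing R) a / algebraMap R (FractionRing R) s)) := by
    obtain ⟨f, hf, hfx⟩ := hx
    refine ⟨f.map R.subtype, hf.map _, ?_⟩
    rw [Polynomial.eval₂_map]
    have := congrArg g hfx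
    rw [Polynomial.hom_eval₂, map_zero] at this
    rw [← this]
    congr 1
    exact RingHom.ext fun r => (hg r).symm
  obtain ⟨z, hz⟩ := IsIntegrallyClosed.isIntegral_iff.mp hint
  have hsA : (s : A) ≠ 0 := fun h => hs0 (Subtype.ext h)
  rw [map_div₀, hg, hg, eq_div_iff (fun h => hsA (IsFractionRing.injective A L (h.trans (map_zero _).symm))), ← map_mul] at hz
  have hz' := IsFractionRing.injective A L hz
  have hzfix : ∀ σ : G, σ • z = z := fun σ => mul_right_cancel₀ hsA (by
    conv_lhs => rw [← s.2 σ, ← smul_mul', hz', a.2 σ]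
    rw [hz'])
  refine ⟨⟨z, hzfix⟩, ?_⟩
  rw [eq_div_iff (fun h => hs0 (IsFractionRing.injective R (FractionRing R) (h.trans (map_zero _).symm))), ← map_mul]
  exact congrArg _ (Subtype.ext hz')

theorem basic (A : Type u) [CommRing A] [IsRegularLocalRing A] (hdim : 2 ≤ ringKrullDim A)
    (k : Type v) [Field k] [Algebra k A] (hk : Function.Surjective (residue A ∘ algebraMap k A))
    (G : Type w) [Group G] [Finite G] [MulSemiringAction G A]
    (hGk : ∀ (σ : G) (c : k), σ • algebraMap k A c = algebraMap k A c)
    (hram : ∀ P : Ideal A, P.IsPrime → P ≠ maximalIdeal A → P.inertia G = ⊥) :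
    IsDomain A ∧ FaithfulSMul G A ∧ SMulCommClass G (FixedPoints.subring A G) A ∧
      Algebra.IsIntegral (FixedPoints.subring A G) A ∧
      (∀ a : A, (∀ g : G, g • a = a) → a ∈ Set.range (algebraMap (FixedPoints.subring A G) A)) ∧
      (∀ a : A, ∃ b : FixedPoints.subring A G, a - algebraMap (FixedPoints.subring A G) A b ∈ maximalIdeal A) ∧
      ringKrullDim (FixedPoints.subring A G) = ringKrullDim A := by
  haveI hdom : IsDomain A := RegularLocal.Basic.isDomain
  have hbotm : (⊥ : Ideal A) ≠ maximalIdeal A := fun h => by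
    have h2 := IsLocalRing.maximalIdeal_height_eq_ringKrullDim (R := A)
    rw [← h, Ideal.height_bot] at h2
    rw [← h2] at hdim
    exact absurd hdim (by norm_num)
  have hfA : FaithfulSMul G A := ⟨fun {g g'} h => by
    have : g'⁻¹ * g ∈ (⊥ : Ideal A).inertia G := fun x => by
      show _ ∈ (⊥ : Ideal A)
      rw [Submodule.mem_bot, sub_eq_zero, mul_smul, h x, inv_smul_smul]
    rw [hram ⊥ Ideal.isPrime_bot hbotm, Subgroup.mem_bot, inv_mul_eq_one] at this
    exact this.symm⟩
  haveI hc : SMulCommClass G (FixedPoints.subring A G) A := ⟨fun g b a => by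
    show g • ((b : A) * a) = (b : A) * g • a
    rw [smul_mul', b.2 g]⟩
  haveI : Algebra.IsInvariant (FixedPoints.subring A G) A G := ⟨fun a ha => ⟨⟨a, ha⟩, rfl⟩⟩
  haveI hint : Algebra.IsIntegral (FixedPoints.subring A G) A := Algebra.IsInvariant.isIntegral _ A G
  refine ⟨hdom, hfA, hc, hint, fun a ha => ⟨⟨a, ha⟩, rfl⟩, fun a => ?_, ?_⟩
  · obtain ⟨c, hc⟩ := hk (residue A a)
    exact ⟨⟨algebraMap k A c, fun σ => hGk σ c⟩, Ideal.Quotient.eq.mp hc.symm⟩
  · exact (ringKrullDim_eq_of_integral (R := FixedPoints.subring A G) (T := A) Subtype.val_injective).symm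

theorem not_free (p : ℕ) [Fact p.Prime] (A : Type u) [CommRing A] [IsRegularLocalRing A]
    [IsAdicComplete (maximalIdeal A) A] (hdim : 2 ≤ ringKrullDim A)
    (k : Type v) [Field k] [Algebra k A] (hk : Function.Surjective (residue A ∘ algebraMap k A))
    (G : Type w) [Group G] [Finite G] [MulSemiringAction G A] (hcard : Nat.card G = p)
    (hGk : ∀ (σ : G) (c : k), σ • algebraMap k A c = algebraMap k A c)
    (hram : ∀ P : Ideal A, P.IsPrime → P ≠ maximalIdeal A → P.inertia G = ⊥) :
    ¬ Module.Free (FixedPoints.subring A G) A := by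
  intro hfree
  haveI : Fintype G := Fintype.ofFinite G
  obtain ⟨_, _, _, _, hfix, hres, hd⟩ := basic A hdim k hk G hGk hram
  obtain ⟨_, _, _, -⟩ := finite_invariants A k hk G hGk
  have := subsingleton_of_free (B := FixedPoints.subring A G) (A := A) (G := G) Subtype.val_injective hres hfix (hd ▸ hdim) hram
  have h1 : Nat.card G = 1 := Nat.card_eq_one_iff_unique.mpr ⟨this, ⟨1⟩⟩
  rw [hcard] at h1
  exact (Fact.out : p.Prime).one_lt.ne' h1

theorem isRegular_atPrime (A : Type u) [CommRing A] [IsRegularLocalRing A]
    [IsAdicComplete (maximalIdeal A) A] (hdim : 2 ≤ ringKrullDim A)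
    (k : Type v) [Field k] [Algebra k A] (hk : Function.Surjective (residue A ∘ algebraMap k A))
    (G : Type w) [Group G] [Finite G] [MulSemiringAction G A]
    (hGk : ∀ (σ : G) (c : k), σ • algebraMap k A c = algebraMap k A c)
    (hram : ∀ P : Ideal A, P.IsPrime → P ≠ maximalIdeal A → P.inertia G = ⊥)
    (P : Ideal (FixedPoints.subring A G)) [P.IsPrime] (hP : ¬ P.IsMaximal) :
    IsRegularLocalRing (Localization.AtPrime P) := by
  haveI : Fintype G := Fintype.ofFinite G
  obtain ⟨_, _, _, _, hfix, -, -⟩ := basic A hdim k hk G hGk hram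
  obtain ⟨_, _, _, -⟩ := finite_invariants A k hk G hGk
  let B := FixedPoints.subring A G
  obtain ⟨Q, -, hQ, hQP⟩ := Ideal.exists_ideal_over_prime_of_isIntegral P (⊥ : Ideal A) (by
    intro b hb
    rw [Ideal.mem_comap, Ideal.mem_bot] at hb
    rw [show b = 0 from Subtype.ext hb]; exact zero_mem _)
  haveI := hQ
  haveI : Q.LiesOver P := ⟨hQP.symm⟩
  haveI : Module.Flat B (Localization.AtPrime Q) := flat_localization (G := G) Subtype.val_injective hfix P
    (fun Q' hQ' hc => hram Q' hQ' fun hm => hP (by
      haveI : Q'.IsMaximal := hm ▸ inferInstance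
      rw [← hc]; exact Ideal.isMaximal_comap_of_isIntegral_of_isMaximal Q')) Q hQP
  letI : Algebra (Localization.AtPrime P) (Localization.AtPrime Q) :=
    (Localization.localRingHom P Q (algebraMap B A) hQP.symm).toAlgebra
  haveI : IsScalarTower B (Localization.AtPrime P) (Localization.AtPrime Q) := IsScalarTower.of_algebraMap_eq fun b => by
    show _ = Localization.localRingHom P Q (algebraMap B A) hQP.symm (algebraMap B (Localization.AtPrime P) b)
    rw [Localization.localRingHom_to_map, ← IsScalarTower.algebraMap_apply]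
  haveI : IsLocalHom (algebraMap (Localization.AtPrime P) (Localization.AtPrime Q)) := Localization.isLocalHom_localRingHom P Q _ hQP.symm
  haveI : Module.Flat (Localization.AtPrime P) (Localization.AtPrime Q) :=
    (Module.flat_iff_of_isLocalization (Localization.AtPrime P) P.primeCompl (Localization.AtPrime Q)).mpr inferInstance
  haveI : IsRegularLocalRing (Localization.AtPrime Q) := RegularLocal.GlobalDim.isRegularLocalRing_localization Q
  exact Groth.Agent.S0565.result (Localization.AtPrime P) (Localization.AtPrime Q)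

theorem exists_gens_insert (A : Type u) [CommRing A] [IsRegularLocalRing A] (v : A) (hv : v ∈ maximalIdeal A)
    (hv2 : v ∉ maximalIdeal A ^ 2) :
    ∃ s : Finset A, (s.card : WithBot ℕ∞) < ringKrullDim A ∧ Ideal.span (insert v (s : Set A)) = maximalIdeal A := by
  classical
  let K := ResidueField A
  let V := CotangentSpace A
  have hv0 : (maximalIdeal A).toCotangent ⟨v, hv⟩ ≠ 0 := fun h => hv2 (by
    have := (Ideal.toCotangent_eq_zero _ _).mp h; exact this)
  have hli : LinearIndepOn K id ({(maximalIdeal A).toCotangent ⟨v, hv⟩} : Set V) := LinearIndepOn.singleton hv0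
  let b := Module.Basis.extend hli
  haveI : Fintype (hli.extend (Set.subset_univ _)) := FiniteDimensional.fintypeBasisIndex b
  choose f hf using fun i => Ideal.toCotangent_surjective (maximalIdeal A) (b i)
  let i₀ : hli.extend (Set.subset_univ _) := ⟨(maximalIdeal A).toCotangent ⟨v, hv⟩, hli.subset_extend _ (Set.mem_singleton _)⟩
  refine ⟨(Finset.univ.erase i₀).image fun i => (f i : A), ?_, ?_⟩
  · have h1 := (isRegularLocalRing_iff A).mp inferInstance
    rw [IsLocalRing.spanFinrank_maximalIdeal_eq_finrank_cotangentSpace, Module.finrank_eq_card_basis b] at h1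
    rw [← h1]
    refine Nat.cast_lt.mpr (lt_of_le_of_lt Finset.card_image_le ?_)
    rw [← Finset.card_univ]
    exact Finset.card_erase_lt_of_mem (Finset.mem_univ _)
  · refine le_antisymm ?_ ?_
    · rw [Ideal.span_le]
      intro z hz
      rcases hz with rfl | hz
      · exact hv
      · simp only [Finset.coe_image, Set.mem_image] at hz
        obtain ⟨i, -, rfl⟩ := hz
        exact (f i).2
    · let S : Ideal A := Ideal.span (insert v (((Finset.univ.erase i₀).image fun i => (f i : A)) : Set A))
      have hgen : maximalIdeal A ≤ S ⊔ maximalIdeal A • maximalIdeal A := by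
        intro z hz
        have hcot : ∀ i, ∃ w : maximalIdeal A, (w : A) ∈ S ∧ (maximalIdeal A).toCotangent w = b i := fun i => by
          by_cases hi : i = i₀
          · refine ⟨⟨v, hv⟩, Ideal.subset_span (Set.mem_insert _ _), ?_⟩
            rw [hi]; exact (Module.Basis.extend_apply_self _ i₀).symm
          · exact ⟨f i, Ideal.subset_span (Set.mem_insert_of_mem _ (Finset.mem_coe.mpr (Finset.mem_image.mpr ⟨i, Finset.mem_erase.mpr ⟨hi, Finset.mem_univ i⟩, rfl⟩))), hf i⟩
        choose w hw hwb using hcot
        choose c hc using fun i => IsLocalRing.residue_surjective (b.repr ((maximalIdeal A).toCotangent ⟨z, hz⟩) i)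
        have h : (maximalIdeal A).toCotangent ⟨z, hz⟩ = (maximalIdeal A).toCotangent (∑ i, c i • w i) := by
          conv_lhs => rw [← b.sum_repr ((maximalIdeal A).toCotangent ⟨z, hz⟩)]
          rw [map_sum]
          refine Finset.sum_congr rfl fun i _ => ?_
          rw [LinearMap.map_smul, hwb, ← hc i]
          rfl
        rw [Ideal.toCotangent_eq, pow_two] at h
        have hmem : ((∑ i, c i • w i : maximalIdeal A) : A) ∈ S := by
          simp only [Submodule.coe_sum, Submodule.coe_smul]
          exact sum_mem fun i _ => Ideal.mul_mem_left _ _ (hw i)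
        exact Submodule.mem_sup.mpr ⟨_, hmem, _, h, by simp⟩
      exact Submodule.le_of_le_smul_of_le_jacobson_bot (IsNoetherian.noetherian _) (maximalIdeal_le_jacobson _) hgen

/-- no regular parameter is invariant -/
theorem exists_moved (A : Type u) [CommRing A] [IsRegularLocalRing A] (hdim : 2 ≤ ringKrullDim A)
    (k : Type v) [Field k] [Algebra k A] (hk : Function.Surjective (residue A ∘ algebraMap k A))
    (G : Type w) [Group G] [Finite G] [MulSemiringAction G A] [Nontrivial G]
    (hGk : ∀ (σ : G) (c : k), σ • algebraMap k A c = algebraMap k A c)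
    (hram : ∀ P : Ideal A, P.IsPrime → P ≠ maximalIdeal A → P.inertia G = ⊥)
    (v : A) (hv : v ∈ maximalIdeal A) (hv2 : v ∉ maximalIdeal A ^ 2) : ∃ σ : G, σ • v ≠ v := by
  classical
  by_contra hn
  simp only [not_exists, not_not] at hn
  obtain ⟨g, hg1⟩ := exists_ne (1 : G)
  -- generators of the maximal ideal containing the invariant one
  obtain ⟨l, hl, hspan⟩ : ∃ s : Finset A, (s.card : WithBot ℕ∞) < ringKrullDim A ∧ Ideal.span (insert v (s : Set A)) = maximalIdeal A :=
    exists_gens_insert A v hv hv2
  let J : Ideal A := Ideal.span ((l.image fun u => g • u - u : Finset A) : Set A)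
  have hmem : ∀ σ : G, ∀ {z : A}, z ∈ maximalIdeal A → σ • z ∈ maximalIdeal A := fun σ z hz h =>
    hz (by simpa using (MulSemiringAction.toRingHom G A σ⁻¹).isUnit_map h)
  obtain ⟨P, hP, hPle⟩ := Ideal.exists_minimalPrimes_le (I := J) (J := maximalIdeal A) (Ideal.span_le.mpr (by
    intro z hz
    simp only [Finset.coe_image, Set.mem_image, Finset.mem_coe] at hz
    obtain ⟨u, hu, rfl⟩ := hz
    have hum : u ∈ maximalIdeal A := hspan ▸ Ideal.subset_span (Set.mem_insert_of_mem _ hu)
    exact sub_mem (hmem g hum) hum))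
  haveI := hP.1.1
  have hPm : P ≠ maximalIdeal A := fun he => by
    have h1 : P.height ≤ (((l.image fun u => g • u - u).card : ℕ) : ℕ∞) := by
      refine (Ideal.height_le_card_of_mem_minimalPrimes_span (Finset.finite_toSet _) hP).trans ?_
      rw [Set.ncard_coe_finset]
    rw [he] at h1
    have h2 := IsLocalRing.maximalIdeal_height_eq_ringKrullDim (R := A)
    rw [← h2] at hl
    have h3 : (l.card : ℕ∞) < (maximalIdeal A).height := WithBot.coe_lt_coe.mp hl
    exact absurd (h1.trans (by exact_mod_cast Finset.card_image_le)) (not_le.mpr h3)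
  have key : ∀ N (a : A), g • a - a ∈ P ⊔ maximalIdeal A ^ N := by
    intro N
    induction N with
    | zero => intro a; rw [pow_zero, Ideal.one_eq_top, sup_top_eq]; trivial
    | succ N ih =>
      intro a
      obtain ⟨c, hc⟩ := hk (residue A a)
      have hz : a - algebraMap k A c ∈ maximalIdeal A := Ideal.Quotient.eq.mp hc.symm
      have : g • a - a = g • (a - algebraMap k A c) - (a - algebraMap k A c) := by rw [smul_sub, hGk]; ring
      rw [this]
      generalize a - algebraMap k A c = z at hz ⊢
      rw [← hspan] at hz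
      suffices ∀ y ∈ Submodule.span A (insert v (l : Set A)), g • y - y ∈ P ⊔ maximalIdeal A ^ (N + 1) from this z hz
      intro y hy
      induction hy using Submodule.span_induction with
      | mem y hy =>
        rcases hy with rfl | hy
        · rw [hn g, sub_self]; exact zero_mem _
        · exact Ideal.mem_sup_left (hP.1.2 (Ideal.subset_span (by simpa using ⟨y, hy, rfl⟩)))
      | zero => simp
      | add y y' _ _ h h' => rw [smul_add, add_sub_add_comm]; exact add_mem h h'
      | smul r y hy h =>
        rw [smul_eq_mul, smul_mul', show g • r * g • y - r * y = g • r * (g • y - y) + y * (g • r - r) by ring]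
        refine add_mem (Ideal.mul_mem_left _ _ h) ?_
        have hy' : y ∈ maximalIdeal A := by rw [← hspan]; exact hy
        obtain ⟨p, hp, m, hm, he⟩ := Submodule.mem_sup.mp (ih r)
        rw [← he, mul_add, pow_succ']
        exact Submodule.add_mem_sup (Ideal.mul_mem_left _ _ hp) (Ideal.mul_mem_mul hy' hm)
  have hgP : g ∈ P.inertia G := fun a => by
    show g • a - a ∈ P
    rw [← Ideal.Quotient.eq_zero_iff_mem]
    refine IsHausdorff.haus' (I := maximalIdeal A) (M := A ⧸ P) _ fun N => ?_
    rw [SModEq.zero, Ideal.smul_top_eq_map, Submodule.restrictScalars_mem, Ideal.Quotient.algebraMap_eq]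
    obtain ⟨p, hp, m, hm, he⟩ := Submodule.mem_sup.mp (key N a)
    rw [← he, map_add, Ideal.Quotient.eq_zero_iff_mem.mpr hp, zero_add]
    exact Ideal.mem_map_of_mem _ hm
  rw [hram P hP.1.1 hPm, Subgroup.mem_bot] at hgP
  exact hg1 hgP

end Groth.Agent.WQ8
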