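import Mathlib

set_option autoImplicit false
set_option linter.style.haveILetI false
universe u v

namespace Groth.Agent.WQ8

open IsLocalRing

variable {A : Type u} [CommRing A] [IsLocalRing A] [IsNoetherianRing A] {n : ℕ}

omit [IsNoetherianRing A] in
theorem smul_maximalIdeal_le {G : Type v} [Group G] [MulSemiringAction G A] (σ : G) :
    (maximalIdeal A).map (MulSemiringAction.toRingHom G A σ) ≤ maximalIdeal A :=
  Ideal.map_le_iff_le_comap.mpr fun a ha h => ha (by simpa using h.map (MulSemiringAction.toRingHom G A σ⁻¹))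

theorem not_primary_of_others (hn : ringKrullDim A = n) (u : Fin n → A) (i : Fin n) (hum : ∀ j, u j ∈ maximalIdeal A) :
    ¬ maximalIdeal A ≤ (Ideal.span (u '' {j | j ≠ i})).radical := by
  classical
  intro h
  let I := Ideal.span (u '' {j | j ≠ i})
  have hIm : I ≤ maximalIdeal A := Ideal.span_le.mpr (by rintro _ ⟨j, -, rfl⟩; exact hum j)
  have hI : I ≠ ⊤ := fun e => (maximalIdeal.isMaximal A).ne_top (top_le_iff.mp (e ▸ hIm))
  have hmin : maximalIdeal A ∈ I.minimalPrimes := ⟨⟨inferInstance, hIm⟩, fun P hP _ => h.trans ((hP.1.radical_le_iff).mpr hP.2)⟩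
  have h1 : (maximalIdeal A).height ≤ ((n - 1 : ℕ) : ℕ∞) := by
    have hset : u '' {j | j ≠ i} = ↑((Finset.univ.erase i).image u) := by ext x; simp
    have hmin' : maximalIdeal A ∈ (Ideal.span (↑((Finset.univ.erase i).image u) : Set A)).minimalPrimes := by
      rw [← hset]; exact hmin
    refine (Ideal.height_le_card_of_mem_minimalPrimes_span_finset hmin').trans ?_
    exact_mod_cast Finset.card_image_le.trans_eq (by simp)
  have h2 := IsLocalRing.maximalIdeal_height_eq_ringKrullDim (R := A)
  rw [hn] at h2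
  have h3 : (maximalIdeal A).height = (n : ℕ∞) := WithBot.coe_inj.mp h2
  rw [h3] at h1
  have : n ≤ n - 1 := by exact_mod_cast h1
  have := i.2
  omega

/-- In a regular local ring no element of a minimal generating system is redundant modulo `m²`. -/
theorem notMem_others (hn : ringKrullDim A = n) (u : Fin n → A) (hu : Ideal.span (Set.range u) = maximalIdeal A) (i : Fin n) :
    u i ∉ Ideal.span (u '' {j | j ≠ i}) ⊔ maximalIdeal A ^ 2 := by
  intro h
  refine not_primary_of_others hn u i (fun j => hu ▸ Ideal.subset_span ⟨j, rfl⟩) (le_trans ?_ Ideal.le_radical)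
  refine Submodule.le_of_le_smul_of_le_jacobson_bot (IsNoetherian.noetherian _)
    (IsLocalRing.jacobson_eq_maximalIdeal _ bot_ne_top).ge ?_
  rw [smul_eq_mul, ← pow_two]
  conv_lhs => rw [← hu]
  rw [Ideal.span_le]
  rintro _ ⟨j, rfl⟩
  by_cases hj : j = i
  · exact hj ▸ h
  · exact Ideal.mem_sup_left (Ideal.subset_span ⟨j, hj, rfl⟩)

/-- Triangular conjugates of a regular system of parameters are again one. -/
theorem span_smul_eq_of_triangular {G : Type v} [Group G] [MulSemiringAction G A] (hn : ringKrullDim A = n) (u : Fin n → A)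
    (hu : Ideal.span (Set.range u) = maximalIdeal A)
    (htri : ∀ (σ : G) (i : Fin n), σ • u i ∈ Ideal.span (u '' {j | j ≤ i}) ⊔ maximalIdeal A ^ 2) (τ : Fin n → G) :
    Ideal.span (Set.range fun i => τ i • u i) = maximalIdeal A := by
  classical
  have hum : ∀ j, u j ∈ maximalIdeal A := fun j => hu ▸ Ideal.subset_span ⟨j, rfl⟩
  have hsm : ∀ (σ : G) a, a ∈ maximalIdeal A → σ • a ∈ maximalIdeal A := fun σ a ha =>
    smul_maximalIdeal_le σ (Ideal.mem_map_of_mem _ ha)
  let W : Fin n → Ideal A := fun i => Ideal.span (u '' {j | j < i}) ⊔ maximalIdeal A ^ 2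
  have hstable : ∀ (σ : G) (i : Fin n), (W i).map (MulSemiringAction.toRingHom G A σ) ≤ W i := by
    intro σ i
    rw [Ideal.map_sup, sup_le_iff, Ideal.map_span, Ideal.span_le, Ideal.map_pow]
    refine ⟨?_, (Ideal.pow_right_mono (smul_maximalIdeal_le σ) 2).trans le_sup_right⟩
    rintro _ ⟨_, ⟨j, hj, rfl⟩, rfl⟩
    have hle : Ideal.span (u '' {l | l ≤ j}) ⊔ maximalIdeal A ^ 2 ≤ W i :=
      sup_le_sup_right (Ideal.span_mono (Set.image_mono fun l (hl : l ≤ j) => lt_of_le_of_lt hl hj)) _
    exact hle (htri σ j)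
  let J : Ideal A := Ideal.span (Set.range fun i => τ i • u i) ⊔ maximalIdeal A ^ 2
  have key : ∀ i : Fin n, u i ∈ J := by
    intro i
    induction i using WellFoundedLT.induction with
    | _ i ih =>
    have hWJ : W i ≤ J := sup_le (Ideal.span_le.mpr (by rintro _ ⟨j, hj, rfl⟩; exact ih j hj)) le_sup_right
    have hsplit : u '' {j | j ≤ i} = {u i} ∪ u '' {j | j < i} := by
      rw [← Set.image_singleton (f := u), ← Set.image_union]
      congr 1
      ext j; simp [le_iff_eq_or_lt]
    have h := htri (τ i) i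
    rw [hsplit, Ideal.span_union, sup_assoc] at h
    obtain ⟨c, hc, w, hw, hcw⟩ := Submodule.mem_sup.mp h
    obtain ⟨d, rfl⟩ := Ideal.mem_span_singleton.mp hc
    have hd : IsUnit d := by
      by_contra hd
      have hv : τ i • u i ∈ W i := by
        rw [← hcw]
        refine add_mem (Ideal.mem_sup_right ?_) hw
        rw [pow_two]; exact Ideal.mul_mem_mul (hum i) hd
      have h2 := hstable (τ i)⁻¹ i (Ideal.mem_map_of_mem _ hv)
      rw [MulSemiringAction.toRingHom_apply, inv_smul_smul] at h2
      have hle : W i ≤ Ideal.span (u '' {l | l ≠ i}) ⊔ maximalIdeal A ^ 2 :=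
        sup_le_sup_right (Ideal.span_mono (Set.image_mono fun l (hl : l < i) => hl.ne)) _
      exact notMem_others hn u hu i (hle h2)
    obtain ⟨d, rfl⟩ := hd
    have : u i * d ∈ J := by
      rw [show u i * d = τ i • u i - w by rw [← hcw]; ring]
      exact sub_mem (Ideal.mem_sup_left (Ideal.subset_span ⟨i, rfl⟩)) (hWJ hw)
    exact (Ideal.mul_unit_mem_iff_mem _ d.isUnit).mp this
  refine le_antisymm (Ideal.span_le.mpr (Set.range_subset_iff.mpr fun i => hsm _ _ (hum i))) ?_
  refine Submodule.le_of_le_smul_of_le_jacobson_bot (IsNoetherian.noetherian _)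
    (IsLocalRing.jacobson_eq_maximalIdeal _ bot_ne_top).ge ?_
  rw [smul_eq_mul, ← pow_two]
  conv_lhs => rw [← hu]
  exact Ideal.span_le.mpr (Set.range_subset_iff.mpr key)

end Groth.Agent.WQ8
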