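import Groth.Agent.WQ8.Ramified
import Groth.Agent.Misc9.SF.PSRegular

set_option autoImplicit false
universe u v

namespace Groth.Agent.WQ8

open IsLocalRing
open scoped TensorProduct

theorem free_of_regular_of_dim_le_same {R A : Type u} [CommRing R] [IsRegularLocalRing R] [CommRing A] [IsRegularLocalRing A]
    [Algebra R A] [Module.Finite R A] [IsLocalHom (algebraMap R A)] (hdim : ringKrullDim R ≤ ringKrullDim A) : Module.Free R A := by
  haveI : LocCoh.IsCohenMacaulayLocalRing A := CMFlat.Algebra.cm_of_flat (R := A) (S := A) (by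
    rw [Algebra.algebraMap_self, Ideal.map_id]; exact Ideal.le_radical)
  have hprim : maximalIdeal A ≤ ((maximalIdeal R).map (algebraMap R A)).radical := by
    rw [Ideal.radical_eq_sInf]
    refine le_sInf fun P hP => ?_
    haveI := hP.2
    have hc : P.comap (algebraMap R A) = maximalIdeal R := le_antisymm
      (le_maximalIdeal (Ideal.comap_ne_top _ hP.2.ne_top)) (Ideal.map_le_iff_le_comap.mp hP.1)
    haveI : (P.comap (algebraMap R A)).IsMaximal := hc ▸ inferInstance
    rw [IsLocalRing.eq_maximalIdeal (Ideal.isMaximal_of_isIntegral_of_isMaximal_comap (R := R) P inferInstance)]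
  haveI : Module.Flat R A := CMFlat.Algebra.flat_of_cm hprim hdim
  exact Module.free_of_flat_of_isLocalRing

theorem free_of_regular_of_dim_le {R : Type u} {A : Type v} [CommRing R] [IsRegularLocalRing R] [CommRing A] [IsRegularLocalRing A]
    [Algebra R A] [Module.Finite R A] [IsLocalHom (algebraMap R A)] (hdim : ringKrullDim R ≤ ringKrullDim A) : Module.Free R A := by
  let R' := ULift.{v} R
  let A' := ULift.{u} A
  haveI : IsRegularLocalRing R' := IsRegularLocalRing.of_ringEquiv ULift.ringEquiv.symm
  haveI : IsRegularLocalRing A' := IsRegularLocalRing.of_ringEquiv ULift.ringEquiv.symm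
  letI : Algebra R' A' := ((ULift.ringEquiv.symm.toRingHom.comp (algebraMap R A)).comp ULift.ringEquiv.toRingHom).toAlgebra
  haveI : IsLocalHom (algebraMap R' A') := ⟨fun r hr => by
    have h1 : IsUnit (algebraMap R A r.down) := hr.map (ULift.ringEquiv : A' ≃+* A)
    exact (isUnit_of_map_unit (algebraMap R A) _ h1).map (ULift.ringEquiv : R' ≃+* R).symm⟩
  haveI hfin : @Module.Finite R' A' _ _ Algebra.toModule :=
    Module.Finite.of_equiv_equiv (A₁ := R) (B₁ := A) (A₂ := R') (B₂ := A') ULift.ringEquiv.symm ULift.ringEquiv.symm rfl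
  have hfree : @Module.Free R' A' _ _ Algebra.toModule :=
    @free_of_regular_of_dim_le_same R' A' _ _ _ _ _ hfin _ (by
      rw [ringKrullDim_eq_of_ringEquiv (ULift.ringEquiv : R' ≃+* R), ringKrullDim_eq_of_ringEquiv (ULift.ringEquiv : A' ≃+* A)]; exact hdim)
  let b := @Module.Free.chooseBasis R' A' _ _ Algebra.toModule hfree
  letI : Module R' A' := Algebra.toModule
  refine Module.Free.of_basis ((b.mapCoeffs (ULift.ringEquiv : R' ≃+* R) fun c x => ?_).map (ULift.moduleEquiv : A' ≃ₗ[R] A))
  apply ULift.ext
  show c.down • x.down = algebraMap R A c.down * x.down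
  rw [Algebra.smul_def]

theorem maximalIdeal_ps (k : Type v) [Field k] (n : ℕ) :
    maximalIdeal (MvPowerSeries (Fin n) k) = Ideal.span (Set.range MvPowerSeries.X) := by
  refine le_antisymm (fun f hf => ?_) (Ideal.span_le.mpr ?_)
  · have h0 : MvPowerSeries.constantCoeff f = 0 := by
      by_contra h
      exact (IsLocalRing.mem_maximalIdeal f).1 hf (MvPowerSeries.isUnit_iff_constantCoeff.2 (isUnit_iff_ne_zero.2 h))
    have := Adic.PowerSeries.sub_C_mem f
    rwa [h0, map_zero, sub_zero] at this
  · rintro _ ⟨i, rfl⟩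
    rw [SetLike.mem_coe, IsLocalRing.mem_maximalIdeal, mem_nonunits_iff, MvPowerSeries.isUnit_iff_constantCoeff,
      MvPowerSeries.constantCoeff_X, isUnit_zero_iff]
    exact zero_ne_one

theorem isLocalHom_ps {A : Type u} [CommRing A] [IsLocalRing A] {k : Type v} [Field k] [Algebra k A] {n : ℕ}
    (φ : MvPowerSeries (Fin n) k →ₐ[k] A) (hx : ∀ i, φ (MvPowerSeries.X i) ∈ maximalIdeal A) : IsLocalHom φ.toRingHom :=
  ⟨fun f hf => by
    by_contra hnf
    have hle : Ideal.map φ.toRingHom (maximalIdeal (MvPowerSeries (Fin n) k)) ≤ maximalIdeal A := by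
      rw [maximalIdeal_ps, Ideal.map_span, Ideal.span_le]
      rintro _ ⟨_, ⟨i, rfl⟩, rfl⟩
      exact hx i
    exact hle (Ideal.mem_map_of_mem _ hnf) hf⟩

theorem dim_ps_le (k : Type v) [Field k] (n : ℕ) : ringKrullDim (MvPowerSeries (Fin n) k) ≤ n := by
  haveI := Misc9.SF.ps_isRegularLocalRing (k := k) n
  rw [← (isRegularLocalRing_iff _).mp inferInstance, maximalIdeal_ps]
  exact_mod_cast (Submodule.spanFinrank_span_le_ncard_of_finite (Set.finite_range _)).trans
    ((Set.ncard_image_le (f := (MvPowerSeries.X : Fin n → MvPowerSeries (Fin n) k)) (s := Set.univ)).trans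
      (by simp) |>.trans_eq' (by rw [Set.image_univ]))

theorem exists_basis_over_ps (A : Type u) [CommRing A] [IsRegularLocalRing A]
    [IsAdicComplete (maximalIdeal A) A] (n : ℕ) (hn : ringKrullDim A = n)
    (k : Type v) [Field k] [Algebra k A] (hk : Function.Surjective (residue A ∘ algebraMap k A))
    (x : Fin n → A) (hx : (Ideal.span (Set.range x)).radical = maximalIdeal A)
    (φ : MvPowerSeries (Fin n) k →ₐ[k] A) (hφ : ∀ i, φ (MvPowerSeries.X i) = x i) :
    ∃ (d : ℕ) (b : Fin d → A), (d : ℕ∞) = Module.length A (A ⧸ Ideal.span (Set.range x)) ∧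
      Function.Bijective (fun r : Fin d → MvPowerSeries (Fin n) k => ∑ i, φ (r i) * b i) := by
  have hxm : ∀ i, x i ∈ maximalIdeal A := fun i => hx ▸ Ideal.le_radical (Ideal.subset_span ⟨i, rfl⟩)
  let R := MvPowerSeries (Fin n) k
  have hfin := finite_of_primary hk φ x hφ hxm hx.ge
  letI : Algebra R A := φ.toRingHom.toAlgebra
  haveI : Module.Finite R A := hfin
  haveI : IsLocalHom (algebraMap R A) := isLocalHom_ps φ fun i => hφ i ▸ hxm i
  haveI : IsRegularLocalRing R := Misc9.SF.ps_isRegularLocalRing (k := k) n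
  haveI := free_of_regular_of_dim_le (R := R) (A := A) ((dim_ps_le k n).trans hn.ge)
  let b := Module.finBasis R A
  refine ⟨Module.finrank R A, b, ?_, ?_⟩
  · let J := Ideal.span (Set.range x)
    have hmap : (maximalIdeal R).map (algebraMap R A) = J := by
      rw [maximalIdeal_ps, Ideal.map_span, ← Set.range_comp]; congr 2; exact funext hφ
    have hκ : Function.Surjective (algebraMap (ResidueField R) (ResidueField A)) := fun z => by
      obtain ⟨c, hc⟩ := hk z
      refine ⟨residue R (algebraMap k R c), ?_⟩
      rw [← hc]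
      show residue A (φ (algebraMap k R c)) = residue A (algebraMap k A c)
      rw [φ.commutes]
    have h1 := IsLocalRing.length_restrictScalars R A (A ⧸ J)
    rw [show Module.length (ResidueField R) (ResidueField A) = 1 by
      rw [Module.length_eq_of_surjective (M := ResidueField A) hκ]
      haveI : IsSimpleModule (ResidueField A) (ResidueField A) := inferInstance
      exact Module.length_eq_one _ _, mul_one] at h1
    rw [← h1]
    let e : ((R ⧸ maximalIdeal R) ⊗[R] A) ≃ₗ[R] A ⧸ J :=
      (TensorProduct.quotTensorEquivQuotSMul A (maximalIdeal R)).trans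
        ((Submodule.quotEquivOfEq _ (J.restrictScalars R) (by rw [Ideal.smul_top_eq_map, hmap])).trans
          (Submodule.Quotient.restrictScalarsEquiv R J))
    rw [← e.length_eq, Module.length_eq_of_surjective (S := R) (R := R ⧸ maximalIdeal R) Ideal.Quotient.mk_surjective]
    letI : Field (R ⧸ maximalIdeal R) := Ideal.Quotient.field _
    rw [Module.length_eq_finrank, Module.finrank_baseChange]
  · have : (fun r : Fin (Module.finrank R A) → R => ∑ i, φ (r i) * b i) = b.equivFun.symm := funext fun r => by
      rw [Module.Basis.equivFun_symm_apply]; rfl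
    rw [this]
    exact b.equivFun.symm.bijective

end Groth.Agent.WQ8
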