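import Groth.Agent.WQ8.Extend
import Groth.Agent.WQ8.FreeOverPS
import Groth.Agent.WQ8.Dim2

set_option autoImplicit false
set_option linter.style.haveILetI false
universe u v w

namespace Groth.Agent.WQ8

open IsLocalRing Polynomial

/-- Artin–Schreier generator of the fraction field together with its local integrality -/
theorem exists_generator (p : ℕ) [Fact p.Prime] (A : Type u) [CommRing A] [IsDomain A] [CharP A p]
    (L : Type u) [Field L] [Algebra A L] [IsFractionRing A L] [CharP L p]
    (G : Type w) [Group G] [Fintype G] [MulSemiringAction G A] [MulSemiringAction G L] [SMulDistribClass G A L]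
    (hcard : Nat.card G = p) (m : Ideal A) (hbot : (⊥ : Ideal A) ≠ m)
    (hram : ∀ P : Ideal A, P.IsPrime → P ≠ m → P.inertia G = ⊥) :
    ∃ w : L, (∃ g : G, g • w ≠ w) ∧ (∀ g : G, g • (w ^ p - w) = w ^ p - w) ∧
      ∀ q : Ideal A, q.IsPrime → q ≠ m → ∃ (h : L) (b T : A), (∀ g : G, g • h = h) ∧ (∀ g : G, g • b = b) ∧
        (∀ g : G, g • T = T) ∧ T ∉ q ∧ algebraMap A L T ^ p * ((w ^ p - w) - (h ^ p - h)) = algebraMap A L b := by
  classical
  have hp := (Fact.out : p.Prime)
  have hal : ∀ (g : G) (a : A), g • algebraMap A L a = algebraMap A L (g • a) := fun g a => (algebraMap.coe_smul' g a L).symm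
  have inj := IsFractionRing.injective A L
  obtain ⟨κ, hκ, hκ0, hκn⟩ := exists_char p L hcard
  have hκfix : ∀ (g h : G), g • κ h = κ h := fun g h => by
    obtain ⟨n, hn⟩ := hκn h
    rw [hn]; exact map_natCast (MulSemiringAction.toRingHom G L g) n
  have hκfrob : ∀ g, κ g ^ p = κ g := fun g => by
    obtain ⟨n, hn⟩ := hκn g
    rw [hn, ← map_natCast (ZMod.castHom (dvd_refl p) L), ← map_pow, ZMod.pow_card]
  have gen : ∀ θ : L, (∑ g : G, g • θ) ≠ 0 → ∀ h : G,
      h • (-(∑ g : G, κ g * g • θ) / ∑ g : G, g • θ) = -(∑ g : G, κ g * g • θ) / (∑ g : G, g • θ) + κ h := by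
    intro θ hT h
    have hTf : h • (∑ g : G, g • θ) = ∑ g : G, g • θ := by
      rw [Finset.smul_sum]; exact Fintype.sum_equiv (Equiv.mulLeft h) _ _ fun g => smul_smul h g θ
    have hnum : h • (∑ g : G, κ g * g • θ) = (∑ g : G, κ g * g • θ) - κ h * ∑ g : G, g • θ := by
      rw [Finset.smul_sum, Finset.mul_sum, ← Finset.sum_sub_distrib]
      refine Fintype.sum_equiv (Equiv.mulLeft h) _ _ fun g => ?_
      show h • (κ g * g • θ) = κ (h * g) * (h * g) • θ - κ h * (h * g) • θ
      rw [smul_mul', hκfix, smul_smul, hκ]; ring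
    rw [div_eq_mul_inv, smul_mul', smul_neg, hnum, smul_inv'', hTf, neg_sub, sub_mul, mul_assoc, mul_inv_cancel₀ hT]
    ring
  have trace : ∀ q : Ideal A, q.IsPrime → q ≠ m → ∃ θ : A, ∑ g : G, g • θ ∉ q := by
    intro q hq hqm
    haveI := hq
    by_contra hall
    simp only [not_exists, not_not] at hall
    let χ : G → (A →* A ⧸ q) := fun g => (Ideal.Quotient.mk q).toMonoidHom.comp (MulSemiringAction.toRingHom G A g).toMonoidHom
    have hχ : Function.Injective χ := fun g g' h => by
      have hm : g * g'⁻¹ ∈ q.inertia G := fun x => by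
        have h1 := Ideal.Quotient.eq.mp (DFunLike.congr_fun h (g'⁻¹ • x))
        change g • g'⁻¹ • x - g' • g'⁻¹ • x ∈ q at h1
        rw [smul_inv_smul, smul_smul] at h1
        exact h1
      rw [hram q hq hqm, Subgroup.mem_bot, mul_inv_eq_one] at hm
      exact hm
    have hli := (linearIndependent_monoidHom A (A ⧸ q)).comp χ hχ
    have h0 := Fintype.linearIndependent_iff.mp hli (fun _ => (1 : A ⧸ q)) (funext fun x => by
      simp only [one_smul, Finset.sum_apply, Function.comp_apply, Pi.zero_apply]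
      show ∑ g : G, Ideal.Quotient.mk q (g • x) = 0
      rw [← map_sum, Ideal.Quotient.eq_zero_iff_mem]; exact hall x) 1
    exact one_ne_zero h0
  obtain ⟨θ₀, hθ₀⟩ := trace ⊥ Ideal.isPrime_bot hbot
  rw [Ideal.mem_bot] at hθ₀
  have hTL : ∀ θ : A, (∑ g : G, g • θ) ≠ 0 → (∑ g : G, g • algebraMap A L θ) ≠ 0 := fun θ h h' => h (inj (by
    rw [map_sum, map_zero]; simpa only [hal] using h'))
  let w : L := -(∑ g : G, κ g * g • algebraMap A L θ₀) / ∑ g : G, g • algebraMap A L θ₀
  have hw : ∀ h : G, h • w = w + κ h := gen _ (hTL θ₀ hθ₀)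
  have hfr : ∀ (h : G) (z : L), h • z = z + κ h → h • (z ^ p - z) = z ^ p - z := fun h z hz => by
    rw [smul_sub, smul_pow', hz, add_pow_char, hκfrob]; ring
  refine ⟨w, ?_, fun g => hfr g w (hw g), fun q hq hqm => ?_⟩
  · haveI : Nontrivial G := Finite.one_lt_card_iff_nontrivial.mp (by rw [hcard]; exact hp.one_lt)
    obtain ⟨g, hg⟩ := exists_ne (1 : G)
    exact ⟨g, fun h => hg (hκ0 g (by rw [hw] at h; linear_combination h))⟩
  obtain ⟨θ, hθ⟩ := trace q hq hqm
  have hθ0 : ∑ g : G, g • θ ≠ 0 := fun h => hθ (by rw [h]; exact zero_mem _)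
  have hz := gen _ (hTL θ hθ0)
  have hTfix : ∀ g : G, g • (∑ h : G, h • θ) = ∑ h : G, h • θ := fun g => by
    rw [Finset.smul_sum]; exact Fintype.sum_equiv (Equiv.mulLeft g) _ _ fun h => smul_smul g h θ
  let z : L := -(∑ g : G, κ g * g • algebraMap A L θ) / ∑ g : G, g • algebraMap A L θ
  choose nκ hnκ using hκn
  let num : A := -(∑ g : G, (nκ g : A) * g • θ)
  let T : A := ∑ h : G, h • θ
  have hTa : algebraMap A L T = ∑ g : G, g • algebraMap A L θ := by simp [T, map_sum, hal]
  have hzT : algebraMap A L T * z = algebraMap A L num := by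
    have hne : algebraMap A L T ≠ 0 := hTa ▸ hTL θ hθ0
    rw [show z = -(∑ g : G, κ g * g • algebraMap A L θ) / algebraMap A L T by rw [hTa], mul_div_cancel₀ _ hne]
    simp only [num, map_neg, map_sum, map_mul, map_natCast, hal, ← hnκ]
  let bA : A := num ^ p - T ^ (p - 1) * num
  obtain ⟨n, hn⟩ : ∃ n, p = n + 1 := ⟨p - 1, by have := hp.pos; omega⟩
  have hbA : algebraMap A L T ^ p * (z ^ p - z) = algebraMap A L bA := by
    simp only [bA, map_sub, map_pow, map_mul, ← hzT, hn, Nat.add_sub_cancel]; ring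
  have hbfix : ∀ g : G, g • bA = bA := fun g => inj (by
    rw [← hal, ← hbA, smul_mul', smul_pow', hal, hTfix, hfr g z (hz g)])
  refine ⟨w - z, bA, T, fun g => by rw [smul_sub, hw, hz]; ring, hbfix, hTfix, hθ, ?_⟩
  rw [← hbA, sub_pow_char]; ring

theorem monic_as_ring (p : ℕ) [Fact p.Prime] (S : Type*) [CommRing S] [Nontrivial S] (c : S) : (X ^ p - X - C c : S[X]).Monic := by
  have hp := (Fact.out : p.Prime)
  rw [sub_sub]
  refine monic_X_pow_sub ?_
  exact lt_of_le_of_lt (degree_add_le _ _) (by
    rw [max_lt_iff, degree_X]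
    exact ⟨by exact_mod_cast hp.one_lt, lt_of_le_of_lt degree_C_le (by exact_mod_cast hp.pos)⟩)

theorem natDegree_X_pow_sub_X (p : ℕ) [Fact p.Prime] (S : Type*) [CommRing S] [Nontrivial S] : (X ^ p - X : S[X]).natDegree = p := by
  rw [natDegree_sub_eq_left_of_natDegree_lt] <;> rw [natDegree_X_pow]
  rw [natDegree_X]; exact (Fact.out : p.Prime).one_lt

theorem not_purelyInseparable (p : ℕ) [Fact p.Prime] (A : Type u) [CommRing A] [IsRegularLocalRing A] [CharP A p]
    [IsAdicComplete (maximalIdeal A) A] (n : ℕ) (hn : ringKrullDim A = n) (h2 : 2 ≤ n)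
    (k : Type v) [Field k] [Algebra k A] (hk : Function.Surjective (residue A ∘ algebraMap k A))
    (G : Type w) [Group G] [Fintype G] [MulSemiringAction G A] [SMulCommClass G k A] (hcard : Nat.card G = p)
    (hram : ∀ P : Ideal A, P.IsPrime → P ≠ maximalIdeal A → P.inertia G = ⊥)
    (x : Fin n → A) (hx : maximalIdeal A ≤ (Ideal.span (Set.range x)).radical) (hxm : ∀ i, x i ∈ maximalIdeal A)
    (φ : MvPowerSeries (Fin n) k →ₐ[k] A) (hφ : ∀ i, φ (MvPowerSeries.X i) = x i)
    (hxfix : ∀ (σ : G) i, σ • x i = x i) :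
    ∃ y : A, (∀ σ : G, σ • y = y) ∧ ∀ e : ℕ, y ^ p ^ e ∉ Set.range φ := by
  classical
  have hp := (Fact.out : p.Prime)
  by_contra hall
  simp only [not_exists, not_and, not_forall, not_not] at hall
  haveI : IsDomain A := RegularLocal.Basic.isDomain
  haveI := RegularLocal.Normal.isIntegrallyClosed (A := A)
  haveI : CharP k p := (RingHom.charP_iff_charP (algebraMap k A) p).mpr inferInstance
  let R := MvPowerSeries (Fin n) k
  have hfin := finite_of_primary hk φ x hφ hxm hx
  letI : Algebra R A := φ.toRingHom.toAlgebra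
  haveI : Module.Finite R A := hfin
  haveI : IsLocalHom (algebraMap R A) := isLocalHom_ps φ fun i => hφ i ▸ hxm i
  haveI : IsRegularLocalRing R := Misc9.SF.ps_isRegularLocalRing (k := k) n
  haveI : IsDomain R := RegularLocal.Basic.isDomain
  haveI := free_of_regular_of_dim_le (R := R) (A := A) ((dim_ps_le k n).trans hn.ge)
  haveI : FaithfulSMul R A := by
    refine (faithfulSMul_iff_algebraMap_injective R A).mpr ((injective_iff_map_eq_zero _).mpr fun r hr => ?_)
    obtain ⟨i⟩ := (Module.Free.chooseBasis R A).index_nonempty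
    have := congrArg (fun z => (Module.Free.chooseBasis R A).repr z i)
      (show r • Module.Free.chooseBasis R A i = 0 by rw [Algebra.smul_def, hr, zero_mul])
    simpa using this
  have hRinj : Function.Injective (algebraMap R A) := FaithfulSMul.algebraMap_injective R A
  haveI : CharP R p := (RingHom.charP_iff (algebraMap R A) hRinj p).mpr inferInstance
  let L := FractionRing A
  let F := FractionRing R
  letI : Algebra F L := FractionRing.liftAlgebra R L
  haveI : IsScalarTower R F L := FractionRing.isScalarTower_liftAlgebra R L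
  haveI : CharP L p := charP_of_injective_algebraMap (IsFractionRing.injective A L) p
  haveI : CharP F p := charP_of_injective_algebraMap (IsFractionRing.injective R F) p
  letI : MulSemiringAction G L := IsFractionRing.mulSemiringAction G A L
  haveI : SMulDistribClass G A L := IsFractionRing.smulDistribClass G A L
  have hal : ∀ (g : G) (a : A), g • algebraMap A L a = algebraMap A L (g • a) := fun g a => (algebraMap.coe_smul' g a L).symm
  have inj := IsFractionRing.injective A L
  have hbotm : (⊥ : Ideal A) ≠ maximalIdeal A := fun h => by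
    have h3 := IsLocalRing.maximalIdeal_height_eq_ringKrullDim (R := A)
    rw [← h, Ideal.height_bot, hn] at h3
    have : (0 : ℕ∞) = (n : ℕ∞) := WithBot.coe_inj.mp h3
    have : n = 0 := by exact_mod_cast this.symm
    omega
  obtain ⟨w, ⟨g₁, hg₁⟩, hwf, hloc⟩ := exists_generator p A L G hcard (maximalIdeal A) hbotm hram
  have hRfix : ∀ (σ : G) (f : R), σ • φ f = φ f := by
    intro σ f
    rw [← sub_eq_zero]
    refine IsHausdorff.haus' (I := maximalIdeal A) _ fun N => ?_
    rw [SModEq.zero, smul_eq_mul, Ideal.mul_top]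
    induction N generalizing f with
    | zero => rw [pow_zero, Ideal.one_eq_top]; trivial
    | succ N ih =>
      have hrest : ∀ g ∈ Ideal.span (Set.range MvPowerSeries.X : Set R), σ • φ g - φ g ∈ maximalIdeal A ^ (N + 1) := by
        intro g hg
        induction hg using Submodule.span_induction with
        | mem g hg => obtain ⟨i, rfl⟩ := hg; rw [hφ, hxfix, sub_self]; exact zero_mem _
        | zero => simp
        | add a b _ _ ha hb => rw [map_add, smul_add, add_sub_add_comm]; exact add_mem ha hb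
        | smul r a ha' ha =>
          have ham : φ a ∈ maximalIdeal A := by
            have hle : (Ideal.span (Set.range MvPowerSeries.X : Set R)).map φ.toRingHom ≤ maximalIdeal A := by
              rw [Ideal.map_span, Ideal.span_le]
              rintro _ ⟨_, ⟨i, rfl⟩, rfl⟩
              exact hφ i ▸ hxm i
            exact hle (Ideal.mem_map_of_mem _ ha')
          rw [smul_eq_mul, map_mul, smul_mul', show σ • φ r * σ • φ a - φ r * φ a = σ • φ r * (σ • φ a - φ a) + φ a * (σ • φ r - φ r) by ring]
          exact add_mem (Ideal.mul_mem_left _ _ ha) (pow_succ' (maximalIdeal A) N ▸ Ideal.mul_mem_mul ham (ih r))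
      have h0 := hrest _ (Adic.PowerSeries.sub_C_mem f)
      rw [map_sub, smul_sub] at h0
      have hc : σ • φ (MvPowerSeries.C (MvPowerSeries.constantCoeff f)) = φ (MvPowerSeries.C (MvPowerSeries.constantCoeff f)) := by
        rw [MvPowerSeries.c_eq_algebraMap, φ.commutes, smul_algebraMap]
      rw [hc] at h0
      simpa using h0
  haveI : SMulCommClass G R A := ⟨fun σ r a => by
    show σ • (φ r * a) = φ r * σ • a
    rw [smul_mul', hRfix]⟩
  -- a uniform exponent
  let B : Submodule R A :=
    { carrier := {y | ∀ σ : G, σ • y = y}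
      add_mem' := fun {a b} ha hb σ => by rw [smul_add, ha σ, hb σ]
      zero_mem' := fun σ => smul_zero σ
      smul_mem' := fun r a ha σ => by rw [smul_comm, ha σ] }
  obtain ⟨S, hS⟩ : B.FG := IsNoetherian.noetherian B
  have hmono : ∀ {y : A} {e e' : ℕ}, e ≤ e' → y ^ p ^ e ∈ Set.range φ → y ^ p ^ e' ∈ Set.range φ := by
    rintro y e e' hle ⟨r, hr⟩
    exact ⟨r ^ p ^ (e' - e), by rw [map_pow, hr, ← pow_mul, ← pow_add, Nat.add_sub_cancel' hle]⟩
  have hgen : ∀ y ∈ S, ∃ e, y ^ p ^ e ∈ Set.range φ := fun y hy => hall y (fun σ => (hS ▸ Submodule.subset_span hy : y ∈ B) σ)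
  choose ef hef using hgen
  let E : ℕ := ∑ y ∈ S.attach, ef y.1 y.2
  haveI : ExpChar A p := ExpChar.prime hp
  have hBE : ∀ y ∈ B, y ^ p ^ E ∈ Set.range φ := by
    intro y hy
    rw [← hS] at hy
    induction hy using Submodule.span_induction with
    | mem y hy =>
      exact hmono (Finset.single_le_sum (f := fun y : {x // x ∈ S} => ef y.1 y.2) (fun _ _ => Nat.zero_le _) (Finset.mem_attach S ⟨y, hy⟩)) (hef y hy)
    | zero => exact ⟨0, by rw [map_zero, zero_pow (pow_ne_zero E hp.ne_zero)]⟩
    | add a b _ _ ha hb =>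
      obtain ⟨r, hr⟩ := ha; obtain ⟨r', hr'⟩ := hb
      exact ⟨r + r', by rw [map_add, hr, hr', add_pow_char_pow]⟩
    | smul c a _ ha =>
      obtain ⟨r, hr⟩ := ha
      exact ⟨c ^ p ^ E * r, by rw [map_mul, map_pow, hr, Algebra.smul_def, mul_pow]; rfl⟩
  have hFA : ∀ r : R, algebraMap F L (algebraMap R F r) = algebraMap A L (φ r) := fun r => by
    rw [← IsScalarTower.algebraMap_apply, IsScalarTower.algebraMap_apply R A L]; rfl
  -- fixed elements become rational after the exponent
  have hrat : ∀ h : L, (∀ σ : G, σ • h = h) → ∃ t : F, algebraMap F L t = h ^ p ^ E := by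
    intro h hh
    obtain ⟨a, b, hb, rfl⟩ := IsFractionRing.div_surjective (A := A) h
    have hb0 : b ≠ 0 := nonZeroDivisors.ne_zero hb
    let N : A := ∏ σ : G, σ • b
    let b' : A := ∏ σ ∈ Finset.univ.erase (1 : G), σ • b
    have hN : ∀ σ : G, σ • N = N := fun σ => by
      simp only [N, Finset.smul_prod', smul_smul]
      exact Fintype.prod_equiv (Equiv.mulLeft σ) _ _ fun _ => rfl
    have hNb : N = b * b' := by
      show ∏ σ : G, σ • b = b * ∏ σ ∈ Finset.univ.erase (1 : G), σ • b
      rw [← Finset.mul_prod_erase Finset.univ (fun σ : G => σ • b) (Finset.mem_univ 1), one_smul]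
    have hbL : algebraMap A L b ≠ 0 := fun h => hb0 (inj (h.trans (map_zero _).symm))
    have hN0 : N ≠ 0 := Finset.prod_ne_zero_iff.mpr fun σ _ h => hb0 ((smul_eq_zero_iff_eq σ).mp h)
    have hnum : algebraMap A L a / algebraMap A L b * algebraMap A L N = algebraMap A L (a * b') := by
      rw [hNb, map_mul, map_mul, ← mul_assoc, div_mul_cancel₀ _ hbL]
    have hfix : ∀ σ : G, σ • (a * b') = a * b' := fun σ => inj (by
      rw [← hal, ← hnum, smul_mul', hal σ N, hN, hh σ])
    obtain ⟨r, hr⟩ := hBE _ hfix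
    obtain ⟨s, hs⟩ := hBE N hN
    have hNL : algebraMap A L N ≠ 0 := fun h => hN0 (inj (h.trans (map_zero _).symm))
    refine ⟨algebraMap R F r / algebraMap R F s, ?_⟩
    rw [map_div₀, hFA, hFA, hr, hs, map_pow, map_pow, ← hnum, ← div_pow, mul_div_cancel_right₀ _ hNL]
  obtain ⟨f, hf⟩ := hrat (w ^ p - w) hwf
  have hinjF : Function.Injective (algebraMap F L) := (algebraMap F L).injective
  obtain ⟨t, a, hta⟩ := artinSchreier_purity (A := R) p F f fun P hP hPh => by
    haveI := hP
    obtain ⟨Q, -, hQ, hQP⟩ := Ideal.exists_ideal_over_prime_of_isIntegral P (⊥ : Ideal A) (by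
      intro r hr
      rw [Ideal.mem_comap, Ideal.mem_bot] at hr
      rw [hRinj (hr.trans (map_zero _).symm)]
      exact zero_mem P)
    have hQm : Q ≠ maximalIdeal A := fun h => by
      haveI : Q.IsMaximal := h ▸ inferInstance
      haveI : P.IsMaximal := by rw [← hQP]; exact Ideal.isMaximal_comap_of_isIntegral_of_isMaximal (R := R) Q
      have h3 := IsLocalRing.maximalIdeal_height_eq_ringKrullDim (R := R)
      rw [← IsLocalRing.eq_maximalIdeal ‹P.IsMaximal›, ← ringKrullDim_eq_of_integral' (A := A) hRinj, hn] at h3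
      have h4 : P.height = (n : ℕ∞) := WithBot.coe_inj.mp h3
      rw [h4] at hPh
      have : n ≤ 1 := by exact_mod_cast hPh
      omega
    obtain ⟨h, b, T, hh, hb, hT, hTQ, he⟩ := hloc Q hQ hQm
    obtain ⟨h', hh'⟩ := hrat h hh
    obtain ⟨b', hb'⟩ := hBE b hb
    obtain ⟨T', hT'⟩ := hBE T hT
    refine ⟨h', T' ^ p, b', fun hc => hTQ (hQ.mem_of_pow_mem (p ^ E) ?_), hinjF ?_⟩
    · rw [← hT']
      have hc' := hP.mem_of_pow_mem p hc
      rw [← hQP] at hc'
      exact hc'
    · simp only [map_mul, map_sub, map_pow]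
      rw [hf, hh', hFA T', hT', hFA b', hb',
        map_pow, map_pow, ← he, mul_pow,
        sub_pow_char_pow, sub_pow_char_pow, ← pow_mul, ← pow_mul, ← pow_mul, ← pow_mul, mul_comm p (p ^ E)]
      simp only [sub_pow_char_pow, ← pow_mul]
      ring
  let z : L := w ^ p ^ E - algebraMap F L t
  have hz : z ^ p - z = algebraMap A L (φ a) := by
    rw [← hFA, ← hta, map_sub, map_sub, map_pow, hf, show z = w ^ p ^ E - algebraMap F L t from rfl, sub_pow_char, sub_pow_char_pow,
      ← pow_mul, ← pow_mul, mul_comm p]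
    ring
  obtain ⟨zA, hzA⟩ := IsIntegrallyClosed.isIntegral_iff.mp (⟨X ^ p - X - C (φ a), monic_as_ring p A _, by
    simp only [eval₂_sub, eval₂_pow, eval₂_X, eval₂_C, hz, sub_self]⟩ : IsIntegral A z)
  have hzA' : zA ^ p - zA = φ a := inj (by rw [map_sub, map_pow, hzA, hz])
  obtain ⟨c, hc⟩ := hk (residue A zA)
  have hc0 : c ^ p - c = MvPowerSeries.constantCoeff a := by
    refine ((residue A).comp (algebraMap k A)).injective ?_
    have h1 : residue A (φ a) = residue A (algebraMap k A (MvPowerSeries.constantCoeff a)) := by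
      have hmem : a - MvPowerSeries.C (MvPowerSeries.constantCoeff a) ∈ maximalIdeal R := maximalIdeal_ps k n ▸ Adic.PowerSeries.sub_C_mem a
      have := map_nonunit (algebraMap R A) _ hmem
      rw [map_sub, MvPowerSeries.c_eq_algebraMap] at this
      rw [← φ.commutes]
      exact Ideal.Quotient.eq.mpr this
    show residue A (algebraMap k A (c ^ p - c)) = residue A (algebraMap k A _)
    rw [← h1, map_sub, map_pow, map_sub, map_pow, show residue A (algebraMap k A c) = residue A zA from hc, ← map_pow, ← map_sub, hzA']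
  haveI : IsAdicComplete (maximalIdeal R) R := by rw [maximalIdeal_ps]; infer_instance
  obtain ⟨r, hr, -⟩ := HenselianRing.is_henselian (I := maximalIdeal R) (X ^ p - X - C a) (monic_as_ring p R _) (algebraMap k R c) (by
      simp only [eval_sub, eval_pow, eval_X, eval_C]
      rw [← map_pow, ← map_sub, hc0, maximalIdeal_ps, ← MvPowerSeries.c_eq_algebraMap, ← neg_sub]
      exact neg_mem (Adic.PowerSeries.sub_C_mem a))
    (by simp [derivative_X_pow, CharP.cast_eq_zero R p])
  simp only [IsRoot, eval_sub, eval_pow, eval_X, eval_C] at hr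
  have hd : (zA - φ r) ^ p = zA - φ r := by
    have h1 := congrArg φ hr
    rw [map_sub, map_sub, map_pow, map_zero] at h1
    rw [sub_pow_char]
    linear_combination hzA' - h1
  have hdfix : ∀ σ : G, σ • (zA - φ r) = zA - φ r := by
    obtain ⟨κ, hκ, hκ0, hκn⟩ := exists_char p A hcard
    by_contra hne
    let S0 : Finset A := insert (zA - φ r) (Finset.univ.image κ)
    have hsub : S0 ⊆ (X ^ p - X : A[X]).roots.toFinset := by
      intro y hy
      rw [Multiset.mem_toFinset, mem_roots (fun h0 => hp.ne_zero (by rw [← natDegree_X_pow_sub_X p A, h0, natDegree_zero])), IsRoot, eval_sub, eval_pow, eval_X]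
      rcases Finset.mem_insert.mp hy with rfl | hy
      · rw [hd, sub_self]
      · obtain ⟨i, -, rfl⟩ := Finset.mem_image.mp hy
        obtain ⟨m, hm⟩ := hκn i
        rw [hm, ← map_natCast (ZMod.castHom (dvd_refl p) A), ← map_pow, ZMod.pow_card, sub_self]
    have hκinj : Function.Injective κ := fun g g' h => by
      have h1 : κ (g * g'⁻¹) = 0 := by
        have := hκ (g * g'⁻¹) g'
        rw [inv_mul_cancel_right, h] at this
        linear_combination -this
      exact mul_inv_eq_one.mp (hκ0 _ h1)
    have hnot : (zA - φ r) ∉ Finset.univ.image κ := fun h => by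
      obtain ⟨i, -, hi⟩ := Finset.mem_image.mp h
      refine hne fun σ => ?_
      obtain ⟨m, hm⟩ := hκn i
      rw [← hi, hm]
      exact map_natCast (MulSemiringAction.toRingHom G A σ) m
    have := (Finset.card_le_card hsub).trans ((Multiset.toFinset_card_le _).trans (card_roots' _))
    rw [Finset.card_insert_of_notMem hnot, Finset.card_image_of_injective _ hκinj, Finset.card_univ, ← Nat.card_eq_fintype_card, hcard,
      natDegree_X_pow_sub_X p A] at this
    omega
  have hzfix : ∀ σ : G, σ • z = z := fun σ => by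
    have h1 := hdfix σ
    rw [smul_sub, hRfix, sub_left_inj] at h1
    rw [← hzA, hal, h1]
  have htfix : ∀ (σ : G) (t : F), σ • algebraMap F L t = algebraMap F L t := fun σ t => by
    obtain ⟨r, s, hs, rfl⟩ := IsFractionRing.div_surjective (A := R) t
    rw [map_div₀, hFA, hFA, div_eq_mul_inv, smul_mul', smul_inv'', hal, hal, hRfix, hRfix]
  refine hg₁ (iterateFrobenius_inj L p E ?_)
  simp only [iterateFrobenius_def]
  have h1 := hzfix g₁
  rw [show z = w ^ p ^ E - algebraMap F L t from rfl, smul_sub, htfix, sub_left_inj, smul_pow'] at h1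
  exact h1

end Groth.Agent.WQ8
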