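import Mathlib

set_option autoImplicit false
universe u v w

open Polynomial

namespace Groth.Agent.WQ8

/-- a field without Galois extensions of degree `p` is Artin–Schreier closed -/
theorem exists_pow_sub_eq (p : ℕ) [Fact p.Prime] (k : Type v) [Field k] [CharP k p]
    (hk : ∀ (L : Type v) [Field L] [Algebra k L], IsGalois k L → Module.finrank k L ≠ p) (c : k) :
    ∃ t : k, t ^ p - t = c := by
  classical
  have hp := (Fact.out : p.Prime)
  let P : k[X] := X ^ p - X - C c
  have hdeg : P.natDegree = p := by
    simp only [P, sub_sub]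
    rw [natDegree_sub_eq_left_of_natDegree_lt] <;> rw [natDegree_X_pow]
    exact lt_of_le_of_lt (natDegree_add_le _ _) (by simp [hp.one_lt])
  have hsep : P.Separable := by
    rw [separable_def']
    refine ⟨0, -1, ?_⟩
    simp [P, derivative_X_pow, CharP.cast_eq_zero k p]
  let E := P.SplittingField
  haveI : CharP E p := charP_of_injective_algebraMap (algebraMap k E).injective p
  haveI : IsGalois k E := IsGalois.of_separable_splitting_field (p := P) hsep
  have hP0 : P.map (algebraMap k E) ≠ 0 := Polynomial.map_ne_zero (fun h => by rw [h, natDegree_zero] at hdeg; exact hp.ne_zero hdeg.symm)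
  obtain ⟨r, hr⟩ : ∃ r : E, (P.map (algebraMap k E)).eval r = 0 :=
    Polynomial.Splits.exists_eval_eq_zero (SplittingField.splits P) (by
      rw [degree_map, degree_eq_natDegree (fun h => by rw [h, natDegree_zero] at hdeg; exact hp.ne_zero hdeg.symm), hdeg]
      exact_mod_cast hp.ne_zero)
  have hroot : ∀ s : E, (P.map (algebraMap k E)).eval s = 0 → (s - r) ^ p = s - r := by
    intro s hs
    simp only [P, Polynomial.map_sub, Polynomial.map_pow, map_X, map_C, eval_sub, eval_pow, eval_X, eval_C] at hs hr
    rw [sub_pow_char]
    linear_combination hs - hr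
  let ι : ZMod p →+* E := ZMod.castHom dvd_rfl E
  let S : AddSubgroup E := ι.toAddMonoidHom.range
  have hS : ∀ x : E, x ^ p = x → x ∈ S := by
    intro x hx
    let Q : E[X] := X ^ p - X
    have hQdeg : Q.natDegree = p := FiniteField.X_pow_card_sub_X_natDegree_eq E hp.one_lt
    have hQ0 : Q ≠ 0 := fun h => by rw [h, natDegree_zero] at hQdeg; exact hp.ne_zero hQdeg.symm
    by_contra hx'
    have hsub : (insert x (Finset.univ.image ι)) ⊆ Q.roots.toFinset := by
      intro y hy
      rw [Multiset.mem_toFinset, mem_roots hQ0, IsRoot, eval_sub, eval_pow, eval_X]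
      rcases Finset.mem_insert.mp hy with rfl | hy
      · rw [hx, sub_self]
      · obtain ⟨i, -, rfl⟩ := Finset.mem_image.mp hy
        rw [← map_pow, ZMod.pow_card, sub_self]
    have := (Finset.card_le_card hsub).trans (Q.roots.toFinset_card_le.trans (Q.card_roots'.trans hQdeg.le))
    rw [Finset.card_insert_of_notMem (fun h => hx' (by obtain ⟨i, -, hi⟩ := Finset.mem_image.mp h; exact ⟨i, hi⟩)),
      Finset.card_image_of_injective _ ι.injective, Finset.card_univ, ZMod.card] at this
    omega
  have hgr : ∀ g : P.Gal, g r - r ∈ S := fun g => hS _ (hroot _ (by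
    rw [eval_map, ← aeval_def] at hr ⊢
    exact (aeval_algHom_apply g.toAlgHom r P).trans (by rw [hr, map_zero])))
  have hfix : ∀ (g : P.Gal), ∀ x ∈ S, g x = x := by
    rintro g _ ⟨i, rfl⟩
    show g (ι i) = ι i
    rw [show ι i = ((i.val : ℕ) : E) by rw [← map_natCast ι, ZMod.natCast_zmod_val], map_natCast]
  let δ : P.Gal →* Multiplicative S :=
    { toFun := fun g => Multiplicative.ofAdd ⟨g r - r, hgr g⟩
      map_one' := Multiplicative.toAdd.injective (Subtype.ext (show r - r = (0 : E) from sub_self r))
      map_mul' := fun g h => Multiplicative.toAdd.injective (Subtype.ext (by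
        show (g * h) r - r = (g r - r) + (h r - r)
        have := hfix g _ (hgr h)
        rw [map_sub] at this
        show g (h r) - r = _
        linear_combination this)) }
  have hδ : Function.Injective δ := by
    rw [injective_iff_map_eq_one]
    intro g hg
    have hgr0 : g r = r := sub_eq_zero.mp (congrArg Subtype.val (congrArg Multiplicative.toAdd hg))
    refine Polynomial.Gal.ext P fun s hs => ?_
    rw [mem_rootSet] at hs
    have := hfix g _ (hS _ (hroot s (by rw [eval_map, ← aeval_def]; exact hs.2)))
    rw [map_sub, hgr0] at this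
    exact (sub_left_inj.mp this)
  have hcardS : Nat.card (Multiplicative S) = p := by
    rw [Nat.card_congr Multiplicative.toAdd, ← Nat.card_congr (AddMonoidHom.ofInjective (f := ι.toAddMonoidHom) ι.injective).toEquiv, Nat.card_zmod]
  have hdvd : Nat.card P.Gal ∣ p := hcardS ▸ Subgroup.card_dvd_of_injective δ hδ
  have hcardG : Nat.card P.Gal = Module.finrank k E := IsGalois.card_aut_eq_finrank k E
  rcases (Nat.dvd_prime hp).mp hdvd with h1 | h2
  · rw [hcardG] at h1
    obtain ⟨t, ht⟩ := (Module.Free.bijective_algebraMap_of_finrank_eq_one h1).2 r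
    refine ⟨t, (algebraMap k E).injective ?_⟩
    simp only [P, Polynomial.map_sub, Polynomial.map_pow, map_X, map_C, eval_sub, eval_pow, eval_X, eval_C] at hr
    rw [map_sub, map_pow, ht]
    linear_combination hr
  · exact absurd (hcardG ▸ h2) (hk E inferInstance)

end Groth.Agent.WQ8
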