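import Groth.Agent.WQ8.ASPurity
import Groth.Agent.WQ8.ASField
import Groth.Agent.RegularLocal.Normal

set_option autoImplicit false
universe u v w

open Polynomial

namespace Groth.Agent.WQ8

section Char

variable {G : Type w} [Group G] [Finite G] (p : ℕ) [Fact p.Prime] (L : Type u) [CommRing L] [IsDomain L] [CharP L p]

/-- an additive character of a group of order `p` with values in the prime field -/
theorem exists_char (hcard : Nat.card G = p) :
    ∃ κ : G → L, (∀ g h, κ (g * h) = κ g + κ h) ∧ (∀ g, κ g = 0 → g = 1) ∧ ∀ g, ∃ n : ℕ, κ g = n := by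
  have e : Multiplicative (ZMod p) ≃* G := by
    haveI : IsCyclic G := isCyclic_of_prime_card hcard
    exact mulEquivOfPrimeCardEq (p := p) (by simp [Nat.card_congr Multiplicative.toAdd]) hcard
  refine ⟨fun g => ZMod.castHom (dvd_refl p) L (Multiplicative.toAdd (e.symm g)), fun g h => by simp only [map_mul, toAdd_mul, map_add], fun g hg => ?_,
    fun g => ⟨(Multiplicative.toAdd (e.symm g)).val, ?_⟩⟩
  · have h0 : Multiplicative.toAdd (e.symm g) = 0 := (ZMod.castHom_injective L) (hg.trans (map_zero _).symm)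
    have h1 : e.symm g = 1 := Multiplicative.toAdd.injective (by rw [h0, toAdd_one])
    exact e.symm.injective (by rw [h1, map_one])
  · rw [← map_natCast (ZMod.castHom (dvd_refl p) L), ZMod.natCast_zmod_val]

end Char

section Galois

variable {G : Type w} [Group G] [Finite G] (p : ℕ) [Fact p.Prime] (L : Type u) [Field L] [CharP L p]
  [MulSemiringAction G L] [FaithfulSMul G L]

theorem natDegree_as {K : Type*} [Field K] (f : K) (p : ℕ) [Fact p.Prime] :
    (X ^ p - X - C f : K[X]).natDegree = p := by
  have hp := (Fact.out : p.Prime)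
  simp only [sub_sub]
  rw [natDegree_sub_eq_left_of_natDegree_lt] <;> rw [natDegree_X_pow]
  exact lt_of_le_of_lt (natDegree_add_le _ _) (by simp [hp.one_lt])

theorem monic_as {K : Type*} [Field K] (f : K) (p : ℕ) [Fact p.Prime] : (X ^ p - X - C f : K[X]).Monic := by
  have hp := (Fact.out : p.Prime)
  rw [sub_sub]
  refine monic_X_pow_sub ?_
  exact lt_of_le_of_lt (degree_add_le _ _) (by
    rw [max_lt_iff, degree_X]
    exact ⟨by exact_mod_cast hp.one_lt, lt_of_le_of_lt degree_C_le (by exact_mod_cast hp.pos)⟩)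

/-- extending an automorphism of the fixed field through Artin–Schreier generators -/
theorem exists_extension (hcard : Nat.card G = p) (φ : FixedPoints.subfield G L ≃+* FixedPoints.subfield G L)
    (w v : L) (f : FixedPoints.subfield G L) (hw : w ^ p - w = f) (hv : v ^ p - v = (φ f : L))
    (hwK : w ∉ FixedPoints.subfield G L) (hvK : v ∉ FixedPoints.subfield G L) :
    ∃ ψ : L ≃+* L, ∀ x : FixedPoints.subfield G L, ψ x = φ x := by
  classical
  haveI : Fintype G := Fintype.ofFinite G
  let K := FixedPoints.subfield G L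
  have hK : Module.finrank K L = p := by rw [FixedPoints.finrank_eq_card, ← Nat.card_eq_fintype_card, hcard]
  haveI : FiniteDimensional K L := FiniteDimensional.of_finrank_pos (by rw [hK]; exact (Fact.out : p.Prime).pos)
  have key : ∀ (φ : K ≃+* K) (w v : L) (f : K), w ^ p - w = f → v ^ p - v = (φ f : L) → w ∉ K →
      ∃ ψ : L →+* L, (∀ x : K, ψ x = φ x) ∧ ψ w = v ∧ ∀ y : L, y ∈ Algebra.adjoin K {w} := by
    intro φ w v f hw hv hwK
    have htop : IntermediateField.adjoin K ({w} : Set L) = ⊤ := by
      have hdvd : Module.finrank K (IntermediateField.adjoin K ({w} : Set L)) ∣ p := by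
        rw [← hK]; exact Dvd.intro _ (Module.finrank_mul_finrank K (IntermediateField.adjoin K ({w} : Set L)) L)
      rcases (Nat.dvd_prime (Fact.out : p.Prime)).mp hdvd with h1 | h2
      · exfalso
        rw [IntermediateField.finrank_eq_one_iff, IntermediateField.adjoin_simple_eq_bot_iff, IntermediateField.mem_bot] at h1
        obtain ⟨z, hz⟩ := h1
        exact hwK (hz ▸ z.2)
      · exact IntermediateField.eq_of_le_of_finrank_eq le_top (by rw [h2, IntermediateField.finrank_top', hK])
    have hint : IsIntegral K w := IsIntegral.of_finite K w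
    have hmin : minpoly K w = X ^ p - X - C f := by
      refine (eq_of_monic_of_dvd_of_natDegree_le (minpoly.monic hint) (monic_as f p) (minpoly.dvd K w ?_) ?_).symm
      · simp only [map_sub, map_pow, aeval_X, aeval_C]
        show w ^ p - w - (f : L) = 0
        rw [hw, sub_self]
      · rw [natDegree_as, ← IntermediateField.adjoin.finrank hint, htop, IntermediateField.finrank_top', hK]
    let pb : PowerBasis K L :=
      (IntermediateField.adjoin.powerBasis hint).map ((IntermediateField.equivOfEq htop).trans IntermediateField.topEquiv)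
    have hgen : pb.gen = w := rfl
    let g : AdjoinRoot (minpoly K pb.gen) →+* L :=
      AdjoinRoot.lift ((algebraMap K L).comp φ.toRingHom) v (by
        rw [hgen, hmin]
        simp only [eval₂_sub, eval₂_pow, eval₂_X, eval₂_C, RingHom.comp_apply]
        show v ^ p - v - (φ f : L) = 0
        rw [hv, sub_self])
    let e := AdjoinRoot.equiv' (minpoly K pb.gen) pb (by simp [AdjoinRoot.aeval_eq]) (minpoly.aeval K pb.gen)
    refine ⟨g.comp e.symm.toRingEquiv.toRingHom, fun x => ?_, ?_, fun y => ?_⟩
    · show g (e.symm (algebraMap K L x)) = φ x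
      rw [e.symm.commutes, AdjoinRoot.algebraMap_eq]
      simp only [g, AdjoinRoot.lift_of]; rfl
    · show g (e.symm w) = v
      rw [show e.symm w = AdjoinRoot.root (minpoly K pb.gen) from e.symm_apply_eq.mpr (by simp [e, AdjoinRoot.equiv', hgen])]
      exact AdjoinRoot.lift_root _
    · rw [← IntermediateField.adjoin_simple_toSubalgebra_of_isAlgebraic hint.isAlgebraic, htop]; trivial
  obtain ⟨ψ, hψ, hψw, hgw⟩ := key φ w v f hw hv hwK
  obtain ⟨χ, hχ, hχv, -⟩ := key φ.symm v w (φ f) hv (by rw [φ.symm_apply_apply]; exact hw) hvK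
  have hid : ∀ y, χ (ψ y) = y := fun y => by
    induction hgw y using Algebra.adjoin_induction with
    | mem z hz => rw [Set.mem_singleton_iff.mp hz, hψw, hχv]
    | algebraMap x => show χ (ψ (x : L)) = _; rw [hψ, hχ, φ.symm_apply_apply]; rfl
    | add a b _ _ ha hb => rw [map_add, map_add, ha, hb]
    | mul a b _ _ ha hb => rw [map_mul, map_mul, ha, hb]
  obtain ⟨-, -, -, hgv⟩ := key φ.symm v w (φ f) hv (by rw [φ.symm_apply_apply]; exact hw) hvK
  have hid' : ∀ y, ψ (χ y) = y := fun y => by
    induction hgv y using Algebra.adjoin_induction with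
    | mem z hz => rw [Set.mem_singleton_iff.mp hz, hχv, hψw]
    | algebraMap x => show ψ (χ (x : L)) = _; rw [hχ, hψ, φ.apply_symm_apply]; rfl
    | add a b _ _ ha hb => rw [map_add, map_add, ha, hb]
    | mul a b _ _ ha hb => rw [map_mul, map_mul, ha, hb]
  exact ⟨{ ψ with invFun := χ, left_inv := hid, right_inv := hid' }, hψ⟩

end Galois

theorem exists_extend (p : ℕ) [Fact p.Prime] (A : Type u) [CommRing A] [IsRegularLocalRing A] [CharP A p]
    [IsAdicComplete (IsLocalRing.maximalIdeal A) A] (hdim : 2 ≤ ringKrullDim A)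
    (k : Type v) [Field k] [Algebra k A]
    (hk : Function.Surjective (IsLocalRing.residue A ∘ algebraMap k A))
    (hkp : ∀ (L : Type v) [Field L] [Algebra k L], IsGalois k L → Module.finrank k L ≠ p)
    (G : Type w) [Group G] [Finite G] [MulSemiringAction G A] (hcard : Nat.card G = p)
    [SMulCommClass G k A]
    (hram : ∀ P : Ideal A, P.IsPrime → P ≠ IsLocalRing.maximalIdeal A → P.inertia G = ⊥)
    (φ : FixedPoints.subalgebra k A G ≃ₐ[k] FixedPoints.subalgebra k A G) :
    FaithfulSMul G A ∧ ∃ ψ : A ≃ₐ[k] A, ∀ x : FixedPoints.subalgebra k A G, ψ x = φ x := by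
  classical
  have hp := (Fact.out : p.Prime)
  haveI : Fintype G := Fintype.ofFinite G
  haveI : IsDomain A := RegularLocal.Basic.isDomain
  haveI := RegularLocal.Normal.isIntegrallyClosed (A := A)
  haveI : CharP k p := (RingHom.charP_iff_charP (algebraMap k A) p).mpr inferInstance
  have hbotm : (⊥ : Ideal A) ≠ IsLocalRing.maximalIdeal A := fun h => by
    have h2 := IsLocalRing.maximalIdeal_height_eq_ringKrullDim (R := A)
    rw [← h, Ideal.height_bot] at h2
    rw [← h2] at hdim
    exact absurd hdim (by norm_num)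
  haveI hfA : FaithfulSMul G A := ⟨fun {g g'} h => by
    have : g'⁻¹ * g ∈ (⊥ : Ideal A).inertia G := fun x => by
      show _ ∈ (⊥ : Ideal A)
      rw [Submodule.mem_bot, sub_eq_zero, mul_smul, h x, inv_smul_smul]
    rw [hram ⊥ Ideal.isPrime_bot hbotm, Subgroup.mem_bot, inv_mul_eq_one] at this
    exact this.symm⟩
  refine ⟨hfA, ?_⟩
  let L := FractionRing A
  letI : MulSemiringAction G L := IsFractionRing.mulSemiringAction G A L
  haveI : SMulDistribClass G A L := IsFractionRing.smulDistribClass G A L
  haveI : FaithfulSMul G L := IsFractionRing.faithfulSMul G A L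
  haveI : CharP L p := charP_of_injective_algebraMap (IsFractionRing.injective A L) p
  have hal : ∀ (g : G) (a : A), g • algebraMap A L a = algebraMap A L (g • a) := fun g a => (algebraMap.coe_smul' g a L).symm
  have inj := IsFractionRing.injective A L
  let B := FixedPoints.subalgebra k A G
  let K := FixedPoints.subfield G L
  let ι : B →+* K :=
    { toFun := fun b => ⟨algebraMap A L (b : A), fun g => by rw [hal, b.2 g]⟩
      map_one' := Subtype.ext (map_one _)
      map_mul' := fun a b => Subtype.ext (map_mul (algebraMap A L) (a : A) (b : A))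
      map_zero' := Subtype.ext (map_zero _)
      map_add' := fun a b => Subtype.ext (map_add (algebraMap A L) (a : A) (b : A)) }
  letI : Algebra B K := ι.toAlgebra
  have hιinj : Function.Injective ι := fun a b h => Subtype.ext (inj (congrArg (fun x : K => (x : L)) h))
  haveI : FaithfulSMul B K := (faithfulSMul_iff_algebraMap_injective B K).mpr hιinj
  haveI : IsFractionRing B K := IsFractionRing.of_field B K fun z => by
    obtain ⟨a, b, hb, hz⟩ := IsFractionRing.div_surjective (A := A) (z : L)
    have hb0 : b ≠ 0 := nonZeroDivisors.ne_zero hb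
    let N : A := ∏ g : G, g • b
    let b' : A := ∏ g ∈ Finset.univ.erase (1 : G), g • b
    have hN : ∀ g : G, g • N = N := fun g => by
      simp only [N, Finset.smul_prod', smul_smul]
      exact Fintype.prod_equiv (Equiv.mulLeft g) _ _ fun h => rfl
    have hNb : N = b * b' := by
      show ∏ g : G, g • b = b * ∏ g ∈ Finset.univ.erase (1 : G), g • b
      rw [← Finset.mul_prod_erase Finset.univ (fun g : G => g • b) (Finset.mem_univ 1), one_smul]
    have hN0 : N ≠ 0 := Finset.prod_ne_zero_iff.mpr fun g _ h => hb0 ((smul_eq_zero_iff_eq g).mp h)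
    have hbL : algebraMap A L b ≠ 0 := fun h => hb0 (inj (h.trans (map_zero _).symm))
    have hnum : (z : L) * algebraMap A L N = algebraMap A L (a * b') := by
      rw [← hz, hNb, map_mul, map_mul, ← mul_assoc, div_mul_cancel₀ _ hbL]
    have hfix : ∀ g : G, g • (a * b') = a * b' := fun g => inj (by
      rw [← hal, ← hnum, smul_mul', hal, hN, show g • (z : L) = z from z.2 g])
    refine ⟨⟨a * b', hfix⟩, ⟨N, hN⟩, ?_⟩
    have hNK : ι ⟨N, hN⟩ ≠ 0 := fun h => hN0 (inj ((congrArg (fun x : K => (x : L)) h).trans (map_zero _).symm))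
    show z = ι ⟨a * b', hfix⟩ / ι ⟨N, hN⟩
    rw [eq_div_iff hNK]
    exact Subtype.ext hnum
  let φK : K ≃+* K := IsFractionRing.ringEquivOfRingEquiv φ.toRingEquiv
  have hφK : ∀ b : B, φK (ι b) = ι (φ b) := fun b => IsFractionRing.ringEquivOfRingEquiv_algebraMap _ b
  obtain ⟨κ, hκ, hκ0, hκn⟩ := exists_char p L hcard
  obtain ⟨κA, hκA, -, hκAn⟩ := exists_char p A hcard
  have hκfix : ∀ (g h : G), g • κ h = κ h := fun g h => by
    obtain ⟨n, hn⟩ := hκn h
    rw [hn]; exact map_natCast (MulSemiringAction.toRingHom G L g) n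
  have hκfrob : ∀ g, κ g ^ p = κ g := fun g => by
    obtain ⟨n, hn⟩ := hκn g
    rw [hn, ← map_natCast (ZMod.castHom (dvd_refl p) L), ← map_pow, ZMod.pow_card]
  -- a normalised partial trace
  have gen : ∀ θ : L, (∑ g : G, g • θ) ≠ 0 → ∀ h : G,
      h • (-(∑ g : G, κ g * g • θ) / ∑ g : G, g • θ) = -(∑ g : G, κ g * g • θ) / (∑ g : G, g • θ) + κ h := by
    intro θ hT h
    have hTf : h • (∑ g : G, g • θ) = ∑ g : G, g • θ := by
      rw [Finset.smul_sum]; exact Fintype.sum_equiv (Equiv.mulLeft h) _ _ fun g => smul_smul h g θ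
    have hnum : h • (∑ g : G, κ g * g • θ) = (∑ g : G, κ g * g • θ) - κ h * ∑ g : G, g • θ := by
      rw [Finset.smul_sum, Finset.mul_sum, ← Finset.sum_sub_distrib]
      refine Fintype.sum_equiv (Equiv.mulLeft h) _ _ fun g => ?_
      show h • (κ g * g • θ) = κ (h * g) * (h * g) • θ - κ h * (h * g) • θ
      rw [smul_mul', hκfix, smul_smul, hκ]; ring
    rw [div_eq_mul_inv, smul_mul', smul_neg, hnum, smul_inv'', hTf, neg_sub, sub_mul, mul_assoc, mul_inv_cancel₀ hT]
    ring
  have trace : ∀ q : Ideal A, q.IsPrime → q ≠ IsLocalRing.maximalIdeal A → ∃ θ : A, ∑ g : G, g • θ ∉ q := by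
    intro q hq hqm
    haveI := hq
    by_contra hall
    simp only [not_exists, not_not] at hall
    let χ : G → (A →* A ⧸ q) := fun g => (Ideal.Quotient.mk q).toMonoidHom.comp (MulSemiringAction.toRingHom G A g).toMonoidHom
    have hχ : Function.Injective χ := fun g g' h => by
      have hm : g * g'⁻¹ ∈ q.inertia G := fun x => by
        have h1 := Ideal.Quotient.eq.mp (DFunLike.congr_fun h (g'⁻¹ • x))
        change g • g'⁻¹ • x - g' • g'⁻¹ • x ∈ q at h1
        rw [smul_inv_smul, smul_smul] at h1
        exact h1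
      rw [hram q hq hqm, Subgroup.mem_bot, mul_inv_eq_one] at hm
      exact hm
    have hli := (linearIndependent_monoidHom A (A ⧸ q)).comp χ hχ
    have h0 := Fintype.linearIndependent_iff.mp hli (fun _ => (1 : A ⧸ q)) (funext fun x => by
      simp only [one_smul, Finset.sum_apply, Function.comp_apply, Pi.zero_apply]
      show ∑ g : G, Ideal.Quotient.mk q (g • x) = 0
      rw [← map_sum, Ideal.Quotient.eq_zero_iff_mem]; exact hall x) 1
    exact one_ne_zero h0
  obtain ⟨θ₀, hθ₀⟩ := trace ⊥ Ideal.isPrime_bot hbotm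
  rw [Ideal.mem_bot] at hθ₀
  have hTL : ∀ θ : A, (∑ g : G, g • θ) ≠ 0 → (∑ g : G, g • algebraMap A L θ) ≠ 0 := fun θ h h' => h (inj (by
    rw [map_sum, map_zero]; simpa only [hal] using h'))
  let w : L := -(∑ g : G, κ g * g • algebraMap A L θ₀) / ∑ g : G, g • algebraMap A L θ₀
  have hw : ∀ h : G, h • w = w + κ h := gen _ (hTL θ₀ hθ₀)
  have hfr : ∀ (h : G) (z : L), h • z = z + κ h → h • (z ^ p - z) = z ^ p - z := fun h z hz => by
    rw [smul_sub, smul_pow', hz, add_pow_char, hκfrob]; ring
  let f : K := ⟨w ^ p - w, fun h => hfr h w (hw h)⟩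
  have hlocB : ∀ q : Ideal A, q.IsPrime → q ≠ IsLocalRing.maximalIdeal A →
      ∃ (h : K) (b T : B), (T : A) ∉ q ∧ ι T ^ p * (f - (h ^ p - h)) = ι b := by
    intro q hq hqm
    obtain ⟨θ, hθ⟩ := trace q hq hqm
    have hθ0 : ∑ g : G, g • θ ≠ 0 := fun h => hθ (by rw [h]; exact zero_mem _)
    have hz := gen _ (hTL θ hθ0)
    have hTfix : ∀ g : G, g • (∑ h : G, h • θ) = ∑ h : G, h • θ := fun g => by
      rw [Finset.smul_sum]; exact Fintype.sum_equiv (Equiv.mulLeft g) _ _ fun h => smul_smul g h θ
    let z : L := -(∑ g : G, κ g * g • algebraMap A L θ) / ∑ g : G, g • algebraMap A L θ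
    choose nκ hnκ using hκn
    let num : A := -(∑ g : G, (nκ g : A) * g • θ)
    let T : A := ∑ h : G, h • θ
    have hTa : algebraMap A L T = ∑ g : G, g • algebraMap A L θ := by simp [T, map_sum, hal]
    have hzT : algebraMap A L T * z = algebraMap A L num := by
      have hne : algebraMap A L T ≠ 0 := hTa ▸ hTL θ hθ0
      rw [show z = -(∑ g : G, κ g * g • algebraMap A L θ) / algebraMap A L T by rw [hTa], mul_div_cancel₀ _ hne]
      simp only [num, map_neg, map_sum, map_mul, map_natCast, hal, ← hnκ]
    let bA : A := num ^ p - T ^ (p - 1) * num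
    obtain ⟨n, hn⟩ : ∃ n, p = n + 1 := ⟨p - 1, by have := hp.pos; omega⟩
    have hbA : algebraMap A L T ^ p * (z ^ p - z) = algebraMap A L bA := by
      simp only [bA, map_sub, map_pow, map_mul, ← hzT, hn, Nat.add_sub_cancel]; ring
    have hbfix : ∀ g : G, g • bA = bA := fun g => inj (by
      rw [← hal, ← hbA, smul_mul', smul_pow', hal, hTfix, hfr g z (hz g)])
    refine ⟨⟨w - z, fun g => by rw [smul_sub, hw, hz]; ring⟩, ⟨bA, hbfix⟩, ⟨T, hTfix⟩, hθ, Subtype.ext ?_⟩
    show algebraMap A L T ^ p * ((w ^ p - w) - ((w - z) ^ p - (w - z))) = algebraMap A L bA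
    rw [← hbA, sub_pow_char]; ring
  haveI : Algebra.IsInvariant B A G := ⟨fun a ha => ⟨⟨a, ha⟩, rfl⟩⟩
  haveI : SMulCommClass G B A := ⟨fun g b a => by
    show g • ((b : A) * a) = (b : A) * g • a
    rw [smul_mul', b.2 g]⟩
  haveI : Algebra.IsIntegral B A := Algebra.IsInvariant.isIntegral B A G
  obtain ⟨t, a, ht⟩ := artinSchreier_purity p L ((φK f : K) : L) fun q hq hh => by
    haveI := hq
    have hqm : q ≠ IsLocalRing.maximalIdeal A := fun h => by
      have h2 := IsLocalRing.maximalIdeal_height_eq_ringKrullDim (R := A)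
      rw [← h] at h2
      rw [← h2] at hdim
      have : (2 : ℕ∞) ≤ q.height := WithBot.coe_le_coe.mp hdim
      exact absurd (this.trans hh) (by norm_num)
    let P' : Ideal B := (q.comap (algebraMap B A)).comap φ.toRingEquiv.toRingHom
    obtain ⟨q', -, hq', hq'c⟩ := Ideal.exists_ideal_over_prime_of_isIntegral P' (⊥ : Ideal A) (by
      intro b hb
      rw [Ideal.mem_comap, Ideal.mem_bot] at hb
      rw [show b = 0 from Subtype.ext hb]; exact zero_mem _)
    have hq'm : q' ≠ IsLocalRing.maximalIdeal A := fun h => by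
      haveI : q'.IsMaximal := h ▸ inferInstance
      haveI : P'.IsMaximal := hq'c ▸ Ideal.isMaximal_comap_of_isIntegral_of_isMaximal q'
      haveI : (q.comap (algebraMap B A)).IsMaximal := by
        have h1 : P'.comap φ.symm.toRingEquiv.toRingHom = q.comap (algebraMap B A) := by
          ext x; simp [P']
        rw [← h1]
        exact Ideal.comap_isMaximal_of_surjective _ φ.symm.toRingEquiv.surjective
      exact hqm (IsLocalRing.eq_maximalIdeal (Ideal.isMaximal_of_isIntegral_of_isMaximal_comap q ‹_›))
    obtain ⟨h, b, T, hT, he⟩ := hlocB q' hq' hq'm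
    have hT' : (φ T : A) ∉ q := fun hc => hT (by
      have : T ∈ P' := hc
      rw [← hq'c] at this
      exact this)
    have he' := congrArg (fun x : K => ((φK x : K) : L)) he
    simp only [map_mul, map_pow, map_sub, hφK] at he'
    refine ⟨(φK h : L), (φ T : A) ^ p, (φ b : A), fun hc => hT' (hq.mem_of_pow_mem p hc), ?_⟩
    rw [map_pow]
    exact he'
  obtain ⟨c0, hc0⟩ := hk (IsLocalRing.residue A a)
  obtain ⟨t0, ht0⟩ := exists_pow_sub_eq p k hkp c0
  have hP : (X ^ p - X - C a : A[X]).Monic := by
    rw [sub_sub]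
    refine monic_X_pow_sub ?_
    exact lt_of_le_of_lt (degree_add_le _ _) (by
      rw [max_lt_iff, degree_X]
      exact ⟨by exact_mod_cast hp.one_lt, lt_of_le_of_lt degree_C_le (by exact_mod_cast hp.pos)⟩)
  obtain ⟨z, hz, -⟩ := HenselianRing.is_henselian (I := IsLocalRing.maximalIdeal A) (X ^ p - X - C a) hP (algebraMap k A t0) (by
      simp only [eval_sub, eval_pow, eval_X, eval_C]
      rw [← map_pow, ← map_sub, ht0]
      exact (Ideal.Quotient.eq).mp hc0)
    (by simp [derivative_X_pow, CharP.cast_eq_zero A p])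
  simp only [IsRoot, eval_sub, eval_pow, eval_X, eval_C] at hz
  let vv : L := t + algebraMap A L z
  have hvv : vv ^ p - vv = (φK f : L) := by
    have h1 := congrArg (algebraMap A L) hz
    rw [map_sub, map_sub, map_pow, map_zero, ← ht] at h1
    rw [show vv = t + algebraMap A L z from rfl, add_pow_char]
    linear_combination h1
  have hwK : w ∉ K := fun hw' => by
    obtain ⟨g, hg⟩ : ∃ g : G, g ≠ 1 := by
      haveI : Nontrivial G := Finite.one_lt_card_iff_nontrivial.mp (by rw [hcard]; exact hp.one_lt)
      exact exists_ne 1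
    exact hg (hκ0 g (by have := hw g; rw [hw' g] at this; linear_combination -this))
  have hroots : ∀ d : L, d ^ p = d → ∃ g, κ g = d := by
    intro d hd
    by_contra hne
    simp only [not_exists] at hne
    let Q : L[X] := X ^ p - X
    have hQdeg : Q.natDegree = p := FiniteField.X_pow_card_sub_X_natDegree_eq L hp.one_lt
    have hQ0 : Q ≠ 0 := fun h => by rw [h, natDegree_zero] at hQdeg; exact hp.ne_zero hQdeg.symm
    have hsub : (insert d (Finset.univ.image κ)) ⊆ Q.roots.toFinset := by
      intro y hy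
      rw [Multiset.mem_toFinset, mem_roots hQ0, IsRoot, eval_sub, eval_pow, eval_X]
      rcases Finset.mem_insert.mp hy with rfl | hy
      · rw [hd, sub_self]
      · obtain ⟨i, -, rfl⟩ := Finset.mem_image.mp hy; rw [hκfrob, sub_self]
    have hκinj : Function.Injective κ := fun g g' h => by
      have h1 : κ (g * g'⁻¹) = 0 := by
        have := hκ (g * g'⁻¹) g'
        rw [inv_mul_cancel_right, h] at this
        linear_combination -this
      exact mul_inv_eq_one.mp (hκ0 _ h1)
    have := (Finset.card_le_card hsub).trans (Q.roots.toFinset_card_le.trans (Q.card_roots'.trans hQdeg.le))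
    rw [Finset.card_insert_of_notMem (fun h => by obtain ⟨i, -, hi⟩ := Finset.mem_image.mp h; exact hne i hi),
      Finset.card_image_of_injective _ hκinj, Finset.card_univ, ← Nat.card_eq_fintype_card, hcard] at this
    omega
  have hvK : vv ∉ K := fun hv' => by
    -- pull back along the automorphism
    let y : K := φK.symm ⟨vv, hv'⟩
    have hy : ((y : L) ^ p - y) = w ^ p - w := by
      have : φK (y ^ p - y) = φK f := Subtype.ext (by
        rw [map_sub, map_pow, φK.apply_symm_apply]; exact hvv)
      exact congrArg (fun x : K => (x : L)) (φK.injective this)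
    obtain ⟨g, hg⟩ := hroots (w - (y : L)) (by rw [sub_pow_char]; linear_combination -hy)
    exact hwK (by
      rw [show w = κ g + (y : L) by rw [hg]; ring]
      exact K.add_mem (fun h => hκfix h g) y.2)
  obtain ⟨ψL, hψL⟩ := exists_extension p L hcard φK w vv f rfl hvv hwK hvK
  have hψB : ∀ b : B, ψL (algebraMap A L (b : A)) = algebraMap A L (φ b : A) := fun b => by
    rw [show algebraMap A L (b : A) = ((ι b : K) : L) from rfl, hψL, hφK]; rfl
  have hmem : ∀ (ψ' : L ≃+* L) (φ' : B ≃+* B), (∀ b : B, ψ' (algebraMap A L (b : A)) = algebraMap A L (φ' b : A)) →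
      ∀ x : A, ∃ y : A, algebraMap A L y = ψ' (algebraMap A L x) := by
    intro ψ' φ' hψ' x
    obtain ⟨P, hP, hPx⟩ := Algebra.IsIntegral.isIntegral (R := B) x
    refine IsIntegrallyClosed.isIntegral_iff.mp ⟨(P.map φ'.toRingHom).map (algebraMap B A), (hP.map _).map _, ?_⟩
    rw [eval₂_map, eval₂_map]
    have h1 := congrArg (fun z => ψ' (algebraMap A L z)) hPx
    simp only [map_zero] at h1
    rw [← h1, hom_eval₂ P (algebraMap B A) (algebraMap A L) x]
    show _ = ψ'.toRingHom (eval₂ _ _ P)
    rw [hom_eval₂]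
    congr 1
    exact RingHom.ext fun b => (hψ' b).symm
  choose fw hfw using hmem ψL φ.toRingEquiv hψB
  choose bw hbw using hmem ψL.symm φ.symm.toRingEquiv (fun b => by
    rw [RingEquiv.symm_apply_eq, hψB]
    show _ = algebraMap A L (φ (φ.symm b) : A)
    rw [φ.apply_symm_apply])
  have hfix : ∀ b : B, fw (b : A) = φ b := fun b => inj (by rw [hfw, hψB])
  refine ⟨{ toFun := fw, invFun := bw, left_inv := fun x => inj (by rw [hbw, hfw, ψL.symm_apply_apply]),
            right_inv := fun x => inj (by rw [hfw, hbw, ψL.apply_symm_apply]),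
            map_mul' := fun x y => inj (by rw [map_mul, hfw, hfw, hfw, map_mul, map_mul]),
            map_add' := fun x y => inj (by rw [map_add, hfw, hfw, hfw, map_add, map_add]),
            commutes' := fun c => ?_ }, hfix⟩
  show fw (algebraMap k A c) = algebraMap k A c
  rw [show algebraMap k A c = ((algebraMap k B c : B) : A) from rfl, hfix, φ.commutes]

end Groth.Agent.WQ8
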