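import Groth.Agent.WQ8.ASFamily
import Mathlib.Algebra.SkewMonoidAlgebra.Basic

set_option autoImplicit false
set_option linter.style.haveILetI false
universe u v

namespace Groth.Agent.WQ8

open IsLocalRing MvPolynomial

namespace IsAS

variable {p : ℕ} [Fact p.Prime] {k : Type u} [Field k] {n : ℕ} {a : Fin n → MvPowerSeries (Fin n) k}
  {A : Type u} [CommRing A] [Algebra (MvPowerSeries (Fin n) k) A] {u : Fin n → A}

theorem exists_basis (h : IsAS p a u) :
    ∃ b : Module.Basis (Fin n → Fin p) (MvPowerSeries (Fin n) k) A, ∀ e, b e = ∏ i, u i ^ (e i : ℕ) := by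
  classical
  let R := MvPowerSeries (Fin n) k
  haveI : IsRegularLocalRing R := Misc9.SF.ps_isRegularLocalRing n
  haveI := h.finite
  obtain ⟨hfree, hrank⟩ := h.free_finrank
  let M : (Fin n → Fin p) → A := fun e => ∏ i, u i ^ (e i : ℕ)
  have hspan : ⊤ ≤ Submodule.span R (Set.range M) := by
    refine Submodule.le_of_le_smul_of_le_jacobson_bot (I := maximalIdeal R) Module.Finite.fg_top
      (IsLocalRing.jacobson_eq_maximalIdeal _ bot_ne_top).ge fun x hx => ?_
    clear hx
    rw [Ideal.smul_top_eq_map]
    obtain ⟨q, rfl⟩ := h.surj x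
    induction q using MvPolynomial.induction_on' with
    | monomial d r =>
      rw [aeval_monomial, ← Algebra.smul_def, Finsupp.prod_fintype _ _ fun i => pow_zero _]
      by_cases hd : ∀ i, d i < p
      · exact Submodule.mem_sup_left (Submodule.smul_mem _ r (Submodule.subset_span ⟨fun i => ⟨d i, hd i⟩, rfl⟩))
      · simp only [not_forall, not_lt] at hd
        obtain ⟨i, hi⟩ := hd
        refine Submodule.mem_sup_right (Submodule.smul_mem _ r ?_)
        rw [Submodule.restrictScalars_mem, h.map_max_eq, ← Finset.mul_prod_erase _ _ (Finset.mem_univ i),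
          ← Nat.sub_add_cancel hi, pow_add, mul_comm (u i ^ (d i - p)), mul_assoc]
        exact Ideal.mul_mem_right _ _ (Ideal.subset_span ⟨i, rfl⟩)
    | add f g hf hg => rw [map_add]; exact add_mem hf hg
  let L := Fintype.linearCombination R M
  have hsurj : Function.Surjective L := by
    rw [← LinearMap.range_eq_top, Fintype.range_linearCombination]; exact top_le_iff.mp hspan
  let e : ((Fin n → Fin p) → R) ≃ₗ[R] A := (LinearEquiv.funCongrLeft R R
      ((Fintype.equivFinOfCardEq (by simp : Fintype.card (Fin n → Fin p) = p ^ n)))).symm.trans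
    ((Module.finBasisOfFinrankEq R A hrank).equivFun.symm)
  have hinj : Function.Injective L := by
    have h2 := OrzechProperty.injective_of_surjective_endomorphism (e.symm.toLinearMap ∘ₗ L) (e.symm.surjective.comp hsurj)
    exact fun x y hxy => h2 (congrArg e.symm hxy)
  refine ⟨Module.Basis.ofEquivFun (LinearEquiv.ofBijective L ⟨hinj, hsurj⟩).symm, fun e => ?_⟩
  rw [Module.Basis.coe_ofEquivFun]
  exact (Fintype.linearCombination_apply_single R M e 1).trans (one_smul R _)

/-- An invariant Frobenius form. -/
theorem exists_frobenius_form (h : IsAS p a u) :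
    ∃ t : A →ₗ[MvPowerSeries (Fin n) k] MvPowerSeries (Fin n) k,
      (∀ g : A →ₐ[MvPowerSeries (Fin n) k] A, (∀ i, g (u i) = u i + algebraMap (MvPowerSeries (Fin n) k) A (a i)) → ∀ x, t (g x) = t x) ∧
      (∀ y, (∀ x, t (x * y) = 0) → y = 0) ∧
      ∀ l : A →ₗ[MvPowerSeries (Fin n) k] MvPowerSeries (Fin n) k, ∃ c, ∀ x, l x = t (x * c) := by
  classical
  have hp := (Fact.out : p.Prime)
  let R := MvPowerSeries (Fin n) k
  haveI : IsRegularLocalRing R := Misc9.SF.ps_isRegularLocalRing n
  haveI := h.finite
  obtain ⟨b, hb⟩ := h.exists_basis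
  let top : Fin n → Fin p := fun _ => ⟨p - 1, by have := hp.pos; omega⟩
  let t : A →ₗ[R] R := b.coord top
  have htb : ∀ e, t (b e) = if e = top then 1 else 0 := fun e => by
    simp [t, Module.Basis.coord_apply, Finsupp.single_apply]
  have hmono : ∀ f : Fin n → ℕ, (∀ i, f i < p) → t (∏ i, u i ^ f i) = if ∀ i, f i = p - 1 then 1 else 0 := fun f hf => by
    have hfb : (∏ i, u i ^ f i) = b (fun i => ⟨f i, hf i⟩) := by rw [hb]
    rw [hfb, htb]
    simp [top, _root_.funext_iff, Fin.ext_iff]
  refine ⟨t, fun g hg => ?_, ?_⟩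
  · suffices heq : t ∘ₗ g.toLinearMap = t from fun x => DFunLike.congr_fun heq x
    refine b.ext fun e => ?_
    show t (g (b e)) = t (b e)
    rw [htb, hb, map_prod]
    simp only [map_pow, hg, add_pow]
    rw [Finset.prod_univ_sum, map_sum]
    have hterm : ∀ f ∈ Fintype.piFinset (fun i => Finset.range ((e i : ℕ) + 1)),
        t (∏ i, u i ^ f i * algebraMap R A (a i) ^ ((e i : ℕ) - f i) * ((e i : ℕ).choose (f i) : A)) =
          (∏ i, a i ^ ((e i : ℕ) - f i) * ((e i : ℕ).choose (f i) : R)) * if ∀ i, f i = p - 1 then 1 else 0 := by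
      intro f hf
      have hfe : ∀ i, f i ≤ e i := fun i => Nat.lt_succ_iff.mp (Finset.mem_range.mp (Fintype.mem_piFinset.mp hf i))
      rw [show (∏ i, u i ^ f i * algebraMap R A (a i) ^ ((e i : ℕ) - f i) * ((e i : ℕ).choose (f i) : A)) =
        (∏ i, a i ^ ((e i : ℕ) - f i) * ((e i : ℕ).choose (f i) : R)) • ∏ i, u i ^ f i by
          rw [Algebra.smul_def, map_prod, ← Finset.prod_mul_distrib]
          refine Finset.prod_congr rfl fun i _ => ?_
          rw [map_mul, map_pow, map_natCast]; ring,
        map_smul, hmono f (fun i => lt_of_le_of_lt (hfe i) (e i).isLt), smul_eq_mul]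
    rw [Finset.sum_congr rfl hterm]
    by_cases he : e = top
    · subst he
      rw [if_pos rfl, Finset.sum_eq_single (fun _ => p - 1)]
      · simp [top]
      · intro f _ hne
        rw [if_neg fun hf => hne (funext hf), mul_zero]
      · intro hne
        exact absurd (Fintype.mem_piFinset.mpr fun i => Finset.mem_range.mpr (Nat.lt_succ_self _)) hne
    · rw [if_neg he]
      refine Finset.sum_eq_zero fun f hf => ?_
      rw [if_neg fun hall => he (funext fun i => Fin.ext ?_), mul_zero]
      have h1 := Nat.lt_succ_iff.mp (Finset.mem_range.mp (Fintype.mem_piFinset.mp hf i))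
      have h2 := hall i
      have h3 := (e i).isLt
      show (e i : ℕ) = p - 1
      omega
  let T : A →ₗ[R] A →ₗ[R] R := LinearMap.compr₂ (LinearMap.mul R A).flip t
  have hT : ∀ c x, T c x = t (x * c) := fun c x => rfl
  have hm : ∀ y ∈ (maximalIdeal R).map (algebraMap R A), t y ∈ maximalIdeal R := by
    intro y hy
    have hy' : y ∈ (maximalIdeal R) • (⊤ : Submodule R A) := by rw [Ideal.smul_top_eq_map]; exact hy
    exact Submodule.smul_induction_on hy' (fun r hr x _ => by rw [map_smul, smul_eq_mul]; exact Ideal.mul_mem_right _ _ hr)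
      fun x y hx hy => by rw [map_add]; exact add_mem hx hy
  have hmod : ∀ e f : Fin n → Fin p, T (∏ i, u i ^ (p - 1 - (e i : ℕ))) (b f) - b.coord e (b f) ∈ maximalIdeal R := by
    intro e f
    have hcoord : b.coord e (b f) = if f = e then 1 else 0 := by simp [Module.Basis.coord_apply, Finsupp.single_apply]
    rw [hT, hb, ← Finset.prod_mul_distrib, ← hb, hcoord]
    simp only [← pow_add]
    by_cases hlt : ∀ i, (f i : ℕ) + (p - 1 - (e i : ℕ)) < p
    · rw [hmono _ hlt]
      have hiff : (∀ i, (f i : ℕ) + (p - 1 - (e i : ℕ)) = p - 1) ↔ f = e := by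
        simp only [_root_.funext_iff, Fin.ext_iff]
        refine forall_congr' fun i => ?_
        have := (e i).isLt
        omega
      simp only [hiff, sub_self, zero_mem]
    · have hne : f ≠ e := fun h0 => hlt fun i => by subst h0; have := (f i).isLt; omega
      rw [if_neg hne, sub_zero]
      simp only [not_forall, not_lt] at hlt
      obtain ⟨i, hi⟩ := hlt
      refine hm _ ?_
      rw [h.map_max_eq, ← Finset.mul_prod_erase _ _ (Finset.mem_univ i), ← Nat.sub_add_cancel hi, pow_add,
        mul_comm (u i ^ _), mul_assoc]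
      exact Ideal.mul_mem_right _ _ (Ideal.subset_span ⟨i, rfl⟩)
  have hsurj : Function.Surjective T := by
    rw [← LinearMap.range_eq_top, eq_top_iff]
    refine Submodule.le_of_le_smul_of_le_jacobson_bot (I := maximalIdeal R) Module.Finite.fg_top
      (IsLocalRing.jacobson_eq_maximalIdeal _ bot_ne_top).ge fun l _ => ?_
    rw [← b.sum_dual_apply_smul_coord l]
    refine Submodule.sum_mem _ fun e _ => Submodule.smul_mem _ _ ?_
    rw [show b.coord e = T (∏ i, u i ^ (p - 1 - (e i : ℕ))) + -(T (∏ i, u i ^ (p - 1 - (e i : ℕ))) - b.coord e) by abel]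
    refine Submodule.add_mem_sup ⟨_, rfl⟩ (neg_mem ?_)
    rw [← b.sum_dual_apply_smul_coord (T (∏ i, u i ^ (p - 1 - (e i : ℕ))) - b.coord e)]
    exact Submodule.sum_mem _ fun f _ => Submodule.smul_mem_smul (hmod e f) Submodule.mem_top
  have hinj : Function.Injective T := by
    let E := b.dualBasis.equiv b (Equiv.refl (Fin n → Fin p))
    have h2 := OrzechProperty.injective_of_surjective_endomorphism (E.toLinearMap ∘ₗ T) (E.surjective.comp hsurj)
    exact fun x y hxy => h2 (congrArg E hxy)
  refine ⟨fun y hy => hinj (LinearMap.ext fun x => ?_), fun l => ?_⟩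
  · rw [hT, hy, map_zero]; rfl
  · obtain ⟨c, hc⟩ := hsurj l
    exact ⟨c, fun x => by rw [← hc, hT]⟩

end IsAS

/-- A Frobenius form invariant under `G` gives a symmetric form on the skew group ring. -/
theorem exists_symmetric_form {R : Type*} [CommRing R] {A : Type*} [CommRing A] [Algebra R A] {G : Type v} [Group G] [Finite G]
    [MulSemiringAction G A] [SMulCommClass G R A] (t : A →ₗ[R] R) (hinv : ∀ (g : G) x, t (g • x) = t x)
    (hnd : ∀ y, (∀ x, t (x * y) = 0) → y = 0) (hsurj : ∀ l : A →ₗ[R] R, ∃ c, ∀ x, l x = t (x * c)) :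
    ∃ φ : SkewMonoidAlgebra A G →ₗ[R] R,
      (∀ x y : SkewMonoidAlgebra A G, φ (x * y) = φ (y * x)) ∧
      Function.Injective (fun y : SkewMonoidAlgebra A G => fun x : SkewMonoidAlgebra A G => φ (x * y)) ∧
      ∀ ψ : SkewMonoidAlgebra A G →ₗ[R] R, ∃ y : SkewMonoidAlgebra A G, ∀ x, ψ x = φ (x * y) := by
  classical
  haveI := Fintype.ofFinite G
  let φ : SkewMonoidAlgebra A G →ₗ[R] R :=
    { toFun := fun x => t (x.coeff 1)
      map_add' := fun x y => by simp
      map_smul' := fun r x => by simp }
  have hsingle : ∀ g a, φ (SkewMonoidAlgebra.single g a) = if g = 1 then t a else 0 := fun g a => by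
    show t ((SkewMonoidAlgebra.single g a).coeff 1) = _
    rw [SkewMonoidAlgebra.coeff_single, Finsupp.single_apply]
    split <;> simp
  refine ⟨φ, fun x y => ?_, fun y y' hyy => ?_, fun ψ => ?_⟩
  · induction x using SkewMonoidAlgebra.induction_on with
    | zero => simp
    | add f f' hf hf' => simp [add_mul, mul_add, hf, hf']
    | single g a =>
      induction y using SkewMonoidAlgebra.induction_on with
      | zero => simp
      | add f f' hf hf' => simp [add_mul, mul_add, hf, hf']
      | single h b =>
        rw [SkewMonoidAlgebra.single_mul_single, SkewMonoidAlgebra.single_mul_single, hsingle, hsingle]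
        by_cases hgh : g * h = 1
        · obtain rfl : h = g⁻¹ := eq_inv_of_mul_eq_one_right hgh
          rw [if_pos hgh, if_pos (inv_mul_cancel g), ← hinv g⁻¹ (a * g • b), smul_mul', inv_smul_smul, mul_comm]
        · rw [if_neg hgh, if_neg fun hhg => hgh (mul_eq_one_comm.mp hhg)]
  · refine sub_eq_zero.mp (SkewMonoidAlgebra.ext fun g => ?_)
    show (y - y').coeff g = 0
    have key : ∀ (w : SkewMonoidAlgebra A G) (h : G) (x : A), φ (SkewMonoidAlgebra.single h⁻¹ x * w) = t (x * h⁻¹ • w.coeff h) := by
      intro w h x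
      induction w using SkewMonoidAlgebra.induction_on with
      | zero => simp
      | add f f' hf hf' => simp [mul_add, hf, hf', smul_add]
      | single g' b =>
        rw [SkewMonoidAlgebra.single_mul_single, hsingle, SkewMonoidAlgebra.coeff_single, Finsupp.single_apply]
        by_cases hg : g' = h
        · subst hg; rw [if_pos (inv_mul_cancel _), if_pos rfl]
        · rw [if_neg fun e => hg (inv_mul_eq_one.mp e).symm, if_neg hg, smul_zero, mul_zero, map_zero]
    have h0 : g⁻¹ • (y - y').coeff g = 0 := hnd _ fun x => by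
      rw [← key, mul_sub, map_sub, sub_eq_zero]
      exact congrFun hyy _
    exact (smul_eq_zero_iff_eq g⁻¹).mp h0
  · choose c hc using fun g : G => hsurj
      { toFun := fun a => ψ (SkewMonoidAlgebra.single g a)
        map_add' := fun a b => by rw [SkewMonoidAlgebra.single_add, map_add]
        map_smul' := fun r a => by rw [← SkewMonoidAlgebra.smul_single, map_smul]; rfl }
    refine ⟨∑ g : G, SkewMonoidAlgebra.single g⁻¹ (g⁻¹ • c g), fun x => ?_⟩
    induction x using SkewMonoidAlgebra.induction_on with
    | zero => simp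
    | add f f' hf hf' => rw [map_add, add_mul, map_add, hf, hf']
    | single g a =>
      rw [Finset.mul_sum, map_sum, Finset.sum_eq_single g]
      · rw [SkewMonoidAlgebra.single_mul_single, hsingle, if_pos (mul_inv_cancel g), smul_inv_smul]
        exact hc g a
      · intro h _ hne
        rw [SkewMonoidAlgebra.single_mul_single, hsingle, if_neg fun e => hne (inv_injective (inv_eq_of_mul_eq_one_right e).symm)]
      · intro hne; exact absurd (Finset.mem_univ g) hne

end Groth.Agent.WQ8
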