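import Groth.Agent.WQ8.ASBasis
import Groth.Agent.WQ8.ASAut

set_option autoImplicit false
set_option linter.style.haveILetI false
universe u

namespace Groth.Agent.WQ8

open IsLocalRing MvPolynomial

theorem ne_zero_of_cop {R : Type*} [CommRing R] [IsDomain R] {ι : Type*} {a : ι → R} (hu : ∀ i, ¬ IsUnit (a i))
    (hcop : ∀ i j, i ≠ j → IsRelPrime (a i) (a j)) {i j : ι} (hij : i ≠ j) : a i ≠ 0 := fun h =>
  hu j (hcop i j hij (d := a j) (h ▸ dvd_zero _) dvd_rfl)

variable {p : ℕ} [Fact p.Prime] {k : Type u} [Field k] [CharP k p] {n : ℕ} {a : Fin n → MvPowerSeries (Fin n) k}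
  {μ : MvPowerSeries (Fin n) k}
  {A : Type u} [CommRing A] [Algebra (MvPowerSeries (Fin n) k) A] {u : Fin n → A}

/-- the minor elements -/
noncomputable def minor (a : Fin n → MvPowerSeries (Fin n) k) (u : Fin n → A) (i₀ : Fin n) (j : {j : Fin n // j ≠ i₀}) : A :=
  algebraMap (MvPowerSeries (Fin n) k) A (a i₀) * u j.1 - algebraMap (MvPowerSeries (Fin n) k) A (a j.1) * u i₀

noncomputable def minorRel (p : ℕ) (a : Fin n → MvPowerSeries (Fin n) k) (μ : MvPowerSeries (Fin n) k) (i₀ : Fin n)
    (j : {j : Fin n // j ≠ i₀}) : MvPolynomial {j : Fin n // j ≠ i₀} (MvPowerSeries (Fin n) k) :=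
  X j ^ p - C ((μ * a i₀ * a j.1) ^ (p - 1)) * X j - C (a i₀ ^ p * MvPowerSeries.X j.1 - a j.1 ^ p * MvPowerSeries.X i₀)

theorem minorRel_aeval (h : IsAS p (fun i => μ * a i) u) (i₀ : Fin n) (j : {j : Fin n // j ≠ i₀}) :
    aeval (minor a u i₀) (minorRel p a μ i₀ j) = 0 := by
  haveI := h.charP
  obtain ⟨m, hm⟩ : ∃ m, p = m + 1 := ⟨p - 1, by have := (Fact.out : p.Prime).pos; omega⟩
  simp only [minorRel, minor, map_sub, map_mul, map_pow, aeval_X, aeval_C]
  rw [sub_pow_char, mul_pow, mul_pow, h.pow_eq, h.pow_eq]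
  simp only [map_pow, map_mul, hm, Nat.add_sub_cancel]
  ring

/-- Up to a power of `a i₀`, everything is a polynomial of degree `< p` in `u i₀` over the minor elements. -/
theorem exists_minor_expansion (h : IsAS p (fun i => μ * a i) u) (i₀ : Fin n) (x : A) :
    ∃ (N : ℕ) (P : Polynomial (Algebra.adjoin (MvPowerSeries (Fin n) k) (Set.range (minor a u i₀)))),
      P.natDegree < p ∧ algebraMap (MvPowerSeries (Fin n) k) A (a i₀) ^ N * x = Polynomial.aeval (u i₀) P := by
  have hp := (Fact.out : p.Prime)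
  let R := MvPowerSeries (Fin n) k
  let B := Algebra.adjoin R (Set.range (minor a u i₀))
  let δ := algebraMap R A (a i₀)
  have hw : ∀ r : R, algebraMap B A (algebraMap R B r) = algebraMap R A r := fun r => rfl
  have hS : ∀ x : A, ∃ (N : ℕ) (P : Polynomial B), δ ^ N * x = Polynomial.aeval (u i₀) P := by
    intro x
    obtain ⟨q, rfl⟩ := h.surj x
    induction q using MvPolynomial.induction_on with
    | C r => exact ⟨0, Polynomial.C (algebraMap R B r), by rw [pow_zero, one_mul, aeval_C, Polynomial.aeval_C, hw]⟩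
    | add f g hf hg =>
      obtain ⟨N, P, hP⟩ := hf; obtain ⟨N', P', hP'⟩ := hg
      refine ⟨N + N', Polynomial.C (algebraMap R B (a i₀) ^ N') * P + Polynomial.C (algebraMap R B (a i₀) ^ N) * P', ?_⟩
      simp only [map_add, map_mul, Polynomial.aeval_C, map_pow, hw, ← hP, ← hP']
      ring
    | mul_X f i hf =>
      obtain ⟨N, P, hP⟩ := hf
      by_cases hi : i = i₀
      · subst hi
        exact ⟨N, P * Polynomial.X, by rw [map_mul, aeval_X, map_mul, Polynomial.aeval_X, ← hP, mul_assoc]⟩
      · refine ⟨N + 1, P * (Polynomial.C ⟨minor a u i₀ ⟨i, hi⟩, Algebra.subset_adjoin ⟨_, rfl⟩⟩ + Polynomial.C (algebraMap R B (a i)) * Polynomial.X), ?_⟩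
        simp only [map_mul, map_add, aeval_X, Polynomial.aeval_X, Polynomial.aeval_C, hw, ← hP]
        show _ = δ ^ N * _ * (minor a u i₀ ⟨i, hi⟩ + algebraMap R A (a i) * u i₀)
        simp only [minor]
        ring
  obtain ⟨N, P, hP⟩ := hS x
  let f : Polynomial B := Polynomial.X ^ p - (Polynomial.C (algebraMap R B ((μ * a i₀) ^ (p - 1))) * Polynomial.X +
    Polynomial.C (algebraMap R B (MvPowerSeries.X i₀)))
  have hf : f.Monic := Polynomial.monic_X_pow_sub (lt_of_le_of_lt Polynomial.degree_linear_le (by exact_mod_cast hp.one_lt))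
  have hf0 : Polynomial.aeval (u i₀) f = 0 := by
    have hpow := h.pow_eq i₀
    simp only [map_pow, map_mul] at hpow
    simp only [f, Polynomial.aeval_def, Polynomial.eval₂_sub, Polynomial.eval₂_add, Polynomial.eval₂_mul, Polynomial.eval₂_pow, Polynomial.eval₂_X, Polynomial.eval₂_C, map_pow, map_mul, hw]
    linear_combination hpow
  refine ⟨N, P %ₘ f, ?_, by rw [hP, Polynomial.aeval_modByMonic_eq_self_of_root hf0]⟩
  rcases subsingleton_or_nontrivial B with hB | hB
  · rw [Subsingleton.elim (P %ₘ f) 0, Polynomial.natDegree_zero]; exact hp.pos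
  · have hfd : f.natDegree = p := by
      simp only [f]
      rw [Polynomial.natDegree_sub_eq_left_of_natDegree_lt] <;> rw [Polynomial.natDegree_X_pow]
      exact lt_of_le_of_lt Polynomial.natDegree_linear_le hp.one_lt
    exact (Polynomial.natDegree_modByMonic_lt P hf fun h1 => hp.ne_zero (by rw [← hfd, h1, Polynomial.natDegree_one])).trans_eq hfd

/-- Invariants are, up to a power of `μ a i₀`, polynomials in the minor elements. -/
theorem exists_pow_mul_mem (h : IsAS p (fun i => μ * a i) u) (i₀ : Fin n) (hne : μ * a i₀ ≠ 0)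
    (σ : A →ₐ[MvPowerSeries (Fin n) k] A) (hσ : ∀ i, σ (u i) = u i + algebraMap (MvPowerSeries (Fin n) k) A (μ * a i))
    (t : A) (ht : σ t = t) :
    ∃ N : ℕ, algebraMap (MvPowerSeries (Fin n) k) A (μ * a i₀) ^ N * t ∈ Algebra.adjoin (MvPowerSeries (Fin n) k) (Set.range (minor a u i₀)) := by
  classical
  have hp := (Fact.out : p.Prime)
  let R := MvPowerSeries (Fin n) k
  haveI := h.isDomain
  haveI := h.charP
  let B := Algebra.adjoin R (Set.range (minor a u i₀))
  obtain ⟨N, P, hdeg, hP⟩ := exists_minor_expansion h i₀ t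
  refine ⟨N, ?_⟩
  have hBfix : ∀ b : B, σ (b : A) = b := by
    have hle : B ≤ AlgHom.equalizer σ (AlgHom.id R A) := Algebra.adjoin_le (Set.range_subset_iff.mpr fun j => by
      show σ (minor a u i₀ j) = minor a u i₀ j
      simp only [minor, map_sub, map_mul, σ.commutes, hσ, map_mul]
      ring)
    exact fun b => hle b.2
  let Q : Polynomial A := P.map (algebraMap B A) - Polynomial.C (algebraMap R A (a i₀) ^ N * t)
  have hr : ∀ r : MvPowerSeries (Fin n) k, σ (algebraMap (MvPowerSeries (Fin n) k) A r) = algebraMap (MvPowerSeries (Fin n) k) A r := σ.commutes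
  have hQ : ∀ j : ℕ, Polynomial.eval (u i₀ + (j : A) * algebraMap R A (μ * a i₀)) Q = 0 := by
    intro j
    induction j with
    | zero =>
      simp only [Q, Nat.cast_zero, zero_mul, add_zero, Polynomial.eval_sub, Polynomial.eval_C, Polynomial.eval_map]
      rw [hP, Polynomial.aeval_def, sub_self]
    | succ j ih =>
      simp only [Q, Polynomial.eval_sub, Polynomial.eval_C, Polynomial.eval_map, sub_eq_zero] at ih ⊢
      have h1 := congrArg σ.toRingHom ih
      rw [Polynomial.hom_eval₂, show σ.toRingHom.comp (algebraMap B A) = algebraMap B A from RingHom.ext hBfix] at h1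
      simp only [AlgHom.toRingHom_eq_coe, RingHom.coe_coe, map_add, map_mul, map_pow, map_natCast, hσ, ht, R] at h1
      simp only [map_mul, hr] at h1
      simp only [map_mul, R] at h1 ⊢
      refine Eq.trans ?_ h1
      congr 1
      push_cast
      ring
  have hQ0 : Q = 0 := by
    refine Polynomial.eq_zero_of_natDegree_lt_card_of_eval_eq_zero Q (ι := ZMod p)
      (f := fun c => u i₀ + ZMod.castHom dvd_rfl A c * algebraMap R A (μ * a i₀))
      (fun c d h1 => (ZMod.castHom dvd_rfl A).injective (mul_right_cancel₀ (fun e => hne (h.inj (e.trans (map_zero _).symm))) (add_left_cancel h1)))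
      (fun c => ?_) ?_
    · have := hQ c.val
      rwa [← map_natCast (ZMod.castHom dvd_rfl A), ZMod.natCast_val, ZMod.cast_id] at this
    · rw [ZMod.card]
      exact lt_of_le_of_lt (Polynomial.natDegree_sub_le _ _) (max_lt (Polynomial.natDegree_map_le.trans_lt hdeg) (by rw [Polynomial.natDegree_C]; exact hp.pos))
  have h0 := congrArg (fun q : Polynomial A => q.coeff 0) hQ0
  simp only [Q, Polynomial.coeff_sub, Polynomial.coeff_map, Polynomial.coeff_C_zero, Polynomial.coeff_zero, sub_eq_zero] at h0
  rw [show algebraMap R A (μ * a i₀) ^ N * t = algebraMap R A μ ^ N * (algebraMap R A (a i₀) ^ N * t) by rw [map_mul]; ring, ← h0]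
  exact mul_mem (pow_mem (Subalgebra.algebraMap_mem _ _) _) (P.coeff 0).2

/-- The monomials in the minor elements with exponents below `p` are linearly independent. -/
theorem minor_monomials_linearIndependent (h : IsAS p (fun i => μ * a i) u) (i₀ : Fin n) (hne : a i₀ ≠ 0) :
    LinearIndependent (MvPowerSeries (Fin n) k) fun e : {j : Fin n // j ≠ i₀} → Fin p => ∏ j, minor a u i₀ j ^ (e j : ℕ) := by
  classical
  have hp := (Fact.out : p.Prime)
  let R := MvPowerSeries (Fin n) k
  haveI : IsRegularLocalRing R := Misc9.SF.ps_isRegularLocalRing n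
  haveI : IsDomain R := RegularLocal.Basic.isDomain
  haveI := h.finite
  haveI := h.isDomain
  obtain ⟨b, hb⟩ := h.exists_basis
  let ι := ({j : Fin n // j ≠ i₀} → Fin p) × Fin p
  let M : ι → A := fun x => (∏ j, minor a u i₀ j ^ (x.1 j : ℕ)) * u i₀ ^ (x.2 : ℕ)
  let eι : (Fin n → Fin p) ≃ ι :=
    { toFun := fun f => (fun j => f j.1, f i₀)
      invFun := fun x j => if hj : j = i₀ then x.2 else x.1 ⟨j, hj⟩
      left_inv := fun f => by funext j; by_cases hj : j = i₀ <;> simp [hj]
      right_inv := fun x => by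
        refine Prod.ext (funext fun j => ?_) ?_
        · simp [j.2]
        · simp }
  let F : A →ₗ[R] A := b.constr R (fun f => M (eι f))
  have hB : ∀ y ∈ Algebra.adjoin R (Set.range (minor a u i₀)), y ∈ Submodule.span R (Set.range fun e : {j : Fin n // j ≠ i₀} → Fin p => ∏ j, minor a u i₀ j ^ (e j : ℕ)) := by
    intro y hy
    rw [Algebra.adjoin_range_eq_range_aeval] at hy
    obtain ⟨q, rfl⟩ := hy
    have key : ∀ (N : ℕ) (d : {j : Fin n // j ≠ i₀} →₀ ℕ), d.sum (fun _ m => m) ≤ N →
        (∏ j, minor a u i₀ j ^ d j) ∈ Submodule.span R (Set.range fun e : {j : Fin n // j ≠ i₀} → Fin p => ∏ j, minor a u i₀ j ^ (e j : ℕ)) := by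
      intro N
      induction N using Nat.strong_induction_on with
      | _ N ih =>
        intro d hd
        by_cases hlt : ∀ j, d j < p
        · exact Submodule.subset_span ⟨fun j => ⟨d j, hlt j⟩, rfl⟩
        · simp only [not_forall, not_lt] at hlt
          obtain ⟨j, hj⟩ := hlt
          have hdsum : d.sum (fun _ m => m) = ∑ l, d l := Finsupp.sum_fintype _ _ fun _ => rfl
          have hz : minor a u i₀ j ^ p = algebraMap R A ((μ * a i₀ * a j.1) ^ (p - 1)) * minor a u i₀ j +
              algebraMap R A (a i₀ ^ p * MvPowerSeries.X j.1 - a j.1 ^ p * MvPowerSeries.X i₀) := by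
            have := minorRel_aeval h i₀ j
            simp only [minorRel, map_sub, map_mul, map_pow, aeval_X, aeval_C] at this
            simp only [map_sub, map_mul, map_pow]
            linear_combination this
          let d1 : {j : Fin n // j ≠ i₀} →₀ ℕ := d.update j (d j - p + 1)
          let d0 : {j : Fin n // j ≠ i₀} →₀ ℕ := d.update j (d j - p)
          have hsplit : ∀ m, (∏ l, minor a u i₀ l ^ (d.update j m) l) = minor a u i₀ j ^ m * ∏ l ∈ Finset.univ.erase j, minor a u i₀ l ^ d l := fun m => by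
            rw [← Finset.mul_prod_erase _ _ (Finset.mem_univ j), Finsupp.coe_update, Function.update_self]
            congr 1
            exact Finset.prod_congr rfl fun l hl => by rw [Function.update_of_ne (Finset.ne_of_mem_erase hl)]
          have heq : (∏ l, minor a u i₀ l ^ d l) = ((μ * a i₀ * a j.1) ^ (p - 1)) • (∏ l, minor a u i₀ l ^ d1 l) +
              (a i₀ ^ p * MvPowerSeries.X j.1 - a j.1 ^ p * MvPowerSeries.X i₀) • ∏ l, minor a u i₀ l ^ d0 l := by
            simp only [d1, d0, hsplit, Algebra.smul_def]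
            rw [← Finset.mul_prod_erase _ _ (Finset.mem_univ j), ← Nat.sub_add_cancel hj, pow_add, hz, Nat.add_sub_cancel]
            ring
          have hsum : ∀ m, m < d j → (d.update j m).sum (fun _ m => m) < N := fun m hm => by
            rw [Finsupp.sum_fintype _ _ fun _ => rfl]
            refine lt_of_lt_of_le (Finset.sum_lt_sum (fun l _ => ?_) ⟨j, Finset.mem_univ j, by simp [hm]⟩) (hdsum ▸ hd)
            by_cases hl : l = j <;> simp [Finsupp.coe_update, hl, hm.le]
          rw [heq]
          refine add_mem (Submodule.smul_mem _ _ (ih _ (hsum _ ?_) d1 le_rfl)) (Submodule.smul_mem _ _ (ih _ (hsum _ ?_) d0 le_rfl))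
          · have := hp.two_le; omega
          · have := hp.pos; omega
    induction q using MvPolynomial.induction_on' with
    | monomial d r =>
      simp only [AlgHom.toRingHom_eq_coe, RingHom.coe_coe, aeval_monomial]
      rw [← Algebra.smul_def, Finsupp.prod_fintype _ _ fun _ => pow_zero _]
      exact Submodule.smul_mem _ _ (key _ d le_rfl)
    | add f g hf hg => rw [map_add]; exact add_mem hf hg
  have hspan : ∀ x : A, ∃ N : ℕ, (a i₀ ^ N) • x ∈ LinearMap.range F := by
    intro x
    obtain ⟨N, P, hdeg, hP⟩ := exists_minor_expansion h i₀ x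
    refine ⟨N, ?_⟩
    rw [Algebra.smul_def, map_pow, hP, Polynomial.aeval_eq_sum_range' hdeg]
    refine Submodule.sum_mem _ fun m hm => ?_
    have hc := hB _ (P.coeff m).2
    have hle : Submodule.span R (Set.range fun e : {j : Fin n // j ≠ i₀} → Fin p => ∏ j, minor a u i₀ j ^ (e j : ℕ)) ≤
        (LinearMap.range F).comap (LinearMap.mulRight R (u i₀ ^ m)) := by
      rw [Submodule.span_le]
      rintro _ ⟨e, rfl⟩
      refine ⟨b (eι.symm (e, ⟨m, Finset.mem_range.mp hm⟩)), ?_⟩
      simp only [F, Module.Basis.constr_basis, Equiv.apply_symm_apply]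
      rfl
    exact hle hc
  choose N hN using fun f => hspan (b f)
  choose y hy using hN
  let G : A →ₗ[R] A := b.constr R (fun f => (a i₀ ^ (∑ g, N g - N f)) • y f)
  have hFG : F ∘ₗ G = (a i₀ ^ ∑ g, N g) • LinearMap.id := b.ext fun f => by
    simp only [G, LinearMap.comp_apply, Module.Basis.constr_basis, map_smul, hy, smul_smul, ← pow_add, LinearMap.smul_apply, LinearMap.id_apply,
      Nat.sub_add_cancel (Finset.single_le_sum (f := N) (fun _ _ => Nat.zero_le _) (Finset.mem_univ f))]
  haveI : Module.Free R A := Module.Free.of_basis b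
  have hdet : LinearMap.det F ≠ 0 := fun h0 => by
    have h1 := congrArg LinearMap.det hFG
    rw [LinearMap.det_comp, h0, zero_mul, LinearMap.det_smul, LinearMap.det_id, mul_one] at h1
    exact pow_ne_zero _ (pow_ne_zero _ hne) h1.symm
  have hFinj : LinearMap.ker F = ⊥ := by
    by_contra hk
    exact hdet (LinearMap.det_eq_zero_iff_ker_ne_bot.mpr hk)
  have hli := (b.linearIndependent.map' F hFinj).comp (fun e => eι.symm (e, ⟨0, hp.pos⟩))
    (fun e e' he => (Prod.ext_iff.mp (eι.symm.injective he)).1)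
  have heq : (fun e : {j : Fin n // j ≠ i₀} → Fin p => ∏ j, minor a u i₀ j ^ (e j : ℕ)) =
      (⇑F ∘ ⇑b) ∘ fun e => eι.symm (e, ⟨0, hp.pos⟩) := by
    funext e
    simp only [Function.comp_apply, F, Module.Basis.constr_basis, Equiv.apply_symm_apply, M, pow_zero, mul_one]
  rw [heq]
  exact hli

theorem minor_mem_sup (i₀ : Fin n) (q : MvPolynomial {j : Fin n // j ≠ i₀} (MvPowerSeries (Fin n) k)) :
    q ∈ Submodule.span (MvPowerSeries (Fin n) k) (Set.range fun e : {j : Fin n // j ≠ i₀} → Fin p => ∏ j, (X j : MvPolynomial {j : Fin n // j ≠ i₀} (MvPowerSeries (Fin n) k)) ^ (e j : ℕ)) ⊔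
      (Ideal.span (Set.range (minorRel p a μ i₀))).restrictScalars (MvPowerSeries (Fin n) k) := by
  classical
  have hp := (Fact.out : p.Prime)
  let R := MvPowerSeries (Fin n) k
  let I := Ideal.span (Set.range (minorRel p a μ i₀))
  let S : Submodule R (MvPolynomial {j : Fin n // j ≠ i₀} R) :=
    Submodule.span R (Set.range fun e : {j : Fin n // j ≠ i₀} → Fin p => ∏ j, (X j : MvPolynomial {j : Fin n // j ≠ i₀} R) ^ (e j : ℕ))
  have key : ∀ (N : ℕ) (d : {j : Fin n // j ≠ i₀} →₀ ℕ), ∑ l, d l ≤ N →
      (∏ j, (X j : MvPolynomial {j : Fin n // j ≠ i₀} R) ^ d j) ∈ S ⊔ I.restrictScalars R := by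
    intro N
    induction N using Nat.strong_induction_on with
    | _ N ih =>
      intro d hd
      by_cases hlt : ∀ j, d j < p
      · exact Submodule.mem_sup_left (Submodule.subset_span ⟨fun j => ⟨d j, hlt j⟩, rfl⟩)
      · simp only [not_forall, not_lt] at hlt
        obtain ⟨j, hj⟩ := hlt
        let E := ∏ l ∈ Finset.univ.erase j, (X l : MvPolynomial {j : Fin n // j ≠ i₀} R) ^ d l
        have hsplit : ∀ m, (∏ l, (X l : MvPolynomial {j : Fin n // j ≠ i₀} R) ^ (d.update j m) l) = X j ^ m * E := fun m => by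
          rw [← Finset.mul_prod_erase _ _ (Finset.mem_univ j), Finsupp.coe_update, Function.update_self]
          congr 1
          exact Finset.prod_congr rfl fun l hl => by rw [Function.update_of_ne (Finset.ne_of_mem_erase hl)]
        have hsum : ∀ m, m < d j → ∑ l, (d.update j m) l < N := fun m hm => by
          refine lt_of_lt_of_le (Finset.sum_lt_sum (fun l _ => ?_) ⟨j, Finset.mem_univ j, by simp [hm]⟩) hd
          by_cases hl : l = j <;> simp [Finsupp.coe_update, hl, hm.le]
        rw [show (∏ l, (X l : MvPolynomial {j : Fin n // j ≠ i₀} R) ^ d l) =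
          ((μ * a i₀ * a j.1) ^ (p - 1)) • (∏ l, X l ^ (d.update j (d j - p + 1)) l) +
          (a i₀ ^ p * MvPowerSeries.X j.1 - a j.1 ^ p * MvPowerSeries.X i₀) • (∏ l, X l ^ (d.update j (d j - p)) l) +
          minorRel p a μ i₀ j * (X j ^ (d j - p) * E) by
            simp only [hsplit, MvPolynomial.smul_eq_C_mul, minorRel]
            rw [← Finset.mul_prod_erase _ _ (Finset.mem_univ j)]
            conv_lhs => rw [← Nat.sub_add_cancel hj, pow_add]
            ring]
        refine add_mem (add_mem (Submodule.smul_mem _ _ (ih _ (hsum _ ?_) _ le_rfl)) (Submodule.smul_mem _ _ (ih _ (hsum _ ?_) _ le_rfl)))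
          (Submodule.mem_sup_right (Ideal.mul_mem_right _ _ (Ideal.subset_span ⟨j, rfl⟩)))
        · have := hp.two_le; omega
        · have := hp.pos; omega
  induction q using MvPolynomial.induction_on' with
  | monomial d r =>
    rw [MvPolynomial.monomial_eq, ← MvPolynomial.smul_eq_C_mul, Finsupp.prod_fintype _ _ fun _ => pow_zero _]
    exact Submodule.smul_mem _ _ (key _ d le_rfl)
  | add f g hf hg => exact add_mem hf hg

/-- The relations generate the kernel. -/
theorem minor_ker (h : IsAS p (fun i => μ * a i) u) (i₀ : Fin n) (hne : a i₀ ≠ 0) :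
    RingHom.ker (aeval (R := MvPowerSeries (Fin n) k) (minor a u i₀)) = Ideal.span (Set.range (minorRel p a μ i₀)) := by
  classical
  have hp := (Fact.out : p.Prime)
  let R := MvPowerSeries (Fin n) k
  let I := Ideal.span (Set.range (minorRel p a μ i₀))
  refine le_antisymm (fun q hq => ?_) (Ideal.span_le.mpr (Set.range_subset_iff.mpr fun j => minorRel_aeval h i₀ j))
  have hall := minor_mem_sup (p := p) (a := a) (μ := μ) i₀ q
  obtain ⟨s, hs, i, hi, rfl⟩ := Submodule.mem_sup.mp hall
  obtain ⟨c, rfl⟩ := (Submodule.mem_span_range_iff_exists_fun R).mp hs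
  have hi0 : aeval (minor a u i₀) i = 0 :=
    (Ideal.span_le.mpr (Set.range_subset_iff.mpr fun j => minorRel_aeval h i₀ j) : I ≤ RingHom.ker (aeval (R := R) (minor a u i₀))) hi
  rw [RingHom.mem_ker, map_add, hi0, add_zero, map_sum] at hq
  simp only [map_smul, map_prod, map_pow, aeval_X] at hq
  have hc := Fintype.linearIndependent_iff.mp (minor_monomials_linearIndependent h i₀ hne) c hq
  simpa [hc] using hi

theorem isIntegral_map_of_square {B A K L : Type*} [CommRing B] [CommRing A] [CommRing K] [CommRing L] [Algebra B K] [Algebra A L]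
    (g : B →+* A) (j : K →+* L) (hcomm : ∀ x, j (algebraMap B K x) = algebraMap A L (g x)) {z : K} (hint : IsIntegral B z) :
    IsIntegral A (j z) := by
  obtain ⟨P, hP, hP0⟩ := hint
  refine ⟨P.map g, hP.map g, ?_⟩
  rw [Polynomial.eval₂_map, show (algebraMap A L).comp g = j.comp (algebraMap B K) from RingHom.ext fun x => (hcomm x).symm,
    ← Polynomial.hom_eval₂, hP0, map_zero]

theorem isIntegrallyClosed_away {B : Type u} [CommRing B] [IsDomain B] {d : B} (hd : d ≠ 0)
    (key : ∀ b c : B, c ≠ 0 → IsIntegral B (algebraMap B (FractionRing B) b / algebraMap B (FractionRing B) c) →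
      ∃ N e, d ^ N * b = c * e) : IsIntegrallyClosed (Localization.Away d) := by
  let T := Localization.Away d
  let K := FractionRing B
  have hle : Submonoid.powers d ≤ nonZeroDivisors B := powers_le_nonZeroDivisors_of_noZeroDivisors hd
  letI : Algebra T K := IsLocalization.Away.lift d (g := algebraMap B K)
    (isUnit_iff_ne_zero.mpr fun e => hd (IsFractionRing.injective B K (e.trans (map_zero _).symm))) |>.toAlgebra
  haveI : IsScalarTower B T K := IsScalarTower.of_algebraMap_eq fun x => (IsLocalization.Away.lift_eq _ _ x).symm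
  haveI : IsDomain T := IsLocalization.isDomain_localization hle
  haveI : IsFractionRing T K := IsFractionRing.isFractionRing_of_isDomain_of_isLocalization (Submonoid.powers d) T K
  refine (isIntegrallyClosed_iff K).mpr fun {x} hx => ?_
  obtain ⟨b, c, hc, rfl⟩ := IsFractionRing.div_surjective (A := B) x
  obtain ⟨⟨m, hm⟩, hint⟩ := IsIntegral.exists_multiple_integral_of_isLocalization (Submonoid.powers d) _ hx
  obtain ⟨l, rfl⟩ := hm
  have hc0 : c ≠ 0 := nonZeroDivisors.ne_zero hc
  rw [Submonoid.smul_def, Algebra.smul_def, mul_div_assoc', ← map_mul] at hint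
  obtain ⟨N, e, he⟩ := key _ c hc0 hint
  obtain ⟨v, hv⟩ := (IsLocalization.Away.algebraMap_isUnit d (S := T)).pow (N + l)
  refine ⟨algebraMap B T e * (↑v⁻¹ : T), ?_⟩
  have hcK : algebraMap B K c ≠ 0 := fun h0 => hc0 (IsFractionRing.injective B K (h0.trans (map_zero _).symm))
  rw [map_mul, ← IsScalarTower.algebraMap_apply, eq_div_iff hcK]
  have hv' : algebraMap T K (↑v⁻¹ : T) * algebraMap B K (d ^ (N + l)) = 1 := by
    rw [IsScalarTower.algebraMap_apply B T K, map_pow (algebraMap B T), ← hv, ← map_mul, Units.inv_mul, map_one]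
  have he' := congrArg (algebraMap B K) he
  simp only [map_mul, map_pow] at he' hv'
  linear_combination (algebraMap B K b) * hv' - (algebraMap T K (↑v⁻¹ : T)) * he'

/-- The complete intersection ring of the minor elements. -/
theorem minor_ring_structure (h : IsAS p (fun i => μ * a i) u) (i₀ : Fin n) (hne : μ * a i₀ ≠ 0)
    (hlift : ∀ v : Fin n → A, (∀ i, v i ^ p = algebraMap (MvPowerSeries (Fin n) k) A ((μ * a i) ^ (p - 1)) * v i + algebraMap (MvPowerSeries (Fin n) k) A (MvPowerSeries.X i)) →
      ∃ f : A →ₐ[MvPowerSeries (Fin n) k] A, ∀ i, f (u i) = v i) :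
    Module.Free (MvPowerSeries (Fin n) k) (MvPolynomial {j : Fin n // j ≠ i₀} (MvPowerSeries (Fin n) k) ⧸ Ideal.span (Set.range (minorRel p a μ i₀))) ∧
    Module.finrank (MvPowerSeries (Fin n) k) (MvPolynomial {j : Fin n // j ≠ i₀} (MvPowerSeries (Fin n) k) ⧸ Ideal.span (Set.range (minorRel p a μ i₀))) = p ^ (n - 1) ∧
    IsDomain (MvPolynomial {j : Fin n // j ≠ i₀} (MvPowerSeries (Fin n) k) ⧸ Ideal.span (Set.range (minorRel p a μ i₀))) ∧
    IsIntegrallyClosed (Localization.Away (algebraMap (MvPowerSeries (Fin n) k)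
      (MvPolynomial {j : Fin n // j ≠ i₀} (MvPowerSeries (Fin n) k) ⧸ Ideal.span (Set.range (minorRel p a μ i₀))) (μ * a i₀))) := by
  classical
  have hp := (Fact.out : p.Prime)
  let R := MvPowerSeries (Fin n) k
  let ι := {j : Fin n // j ≠ i₀}
  let B := MvPolynomial ι R ⧸ Ideal.span (Set.range (minorRel p a μ i₀))
  have hai : a i₀ ≠ 0 := right_ne_zero_of_mul hne
  haveI := h.isDomain
  haveI := h.charP
  obtain ⟨hreg, -, -⟩ := h.structure_
  haveI : IsIntegrallyClosed A := RegularLocal.Normal.isIntegrallyClosed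
  have hker := minor_ker h i₀ hai
  let ψ : B →ₐ[R] A := Ideal.Quotient.liftₐ _ (aeval (minor a u i₀)) (fun x hx => by
    rw [← hker] at hx; exact hx)
  have hψinj : Function.Injective ψ := (injective_iff_map_eq_zero ψ).mpr fun x hx => by
    obtain ⟨q, rfl⟩ := Ideal.Quotient.mk_surjective x
    exact Ideal.Quotient.eq_zero_iff_mem.mpr (hker ▸ hx)
  have hψrange : ∀ y ∈ Algebra.adjoin R (Set.range (minor a u i₀)), ∃ e : B, ψ e = y := fun y hy => by
    rw [Algebra.adjoin_range_eq_range_aeval] at hy
    obtain ⟨q, rfl⟩ := hy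
    exact ⟨Ideal.Quotient.mk _ q, rfl⟩
  let M : (ι → Fin p) → B := fun e => Ideal.Quotient.mk _ (∏ j, (X j : MvPolynomial ι R) ^ (e j : ℕ))
  have hli : LinearIndependent R M := by
    refine LinearIndependent.of_comp ψ.toLinearMap ?_
    have heq : ⇑ψ.toLinearMap ∘ M = fun e : ι → Fin p => ∏ j, minor a u i₀ j ^ (e j : ℕ) := by
      funext e
      show aeval (minor a u i₀) (∏ j, (X j : MvPolynomial ι R) ^ (e j : ℕ)) = _
      simp only [map_prod, map_pow, aeval_X]
      exact Finset.prod_congr (by ext; simp) fun _ _ => rfl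
    rw [heq]
    exact minor_monomials_linearIndependent h i₀ hai
  have hspan : ⊤ ≤ Submodule.span R (Set.range M) := fun x _ => by
    obtain ⟨q, rfl⟩ := Ideal.Quotient.mk_surjective x
    obtain ⟨s, hs, i, hi, rfl⟩ := Submodule.mem_sup.mp (minor_mem_sup (p := p) (a := a) (μ := μ) i₀ q)
    rw [map_add, Ideal.Quotient.eq_zero_iff_mem.mpr hi, add_zero]
    have := Submodule.mem_map_of_mem (f := (Ideal.Quotient.mkₐ R (Ideal.span (Set.range (minorRel p a μ i₀)))).toLinearMap) hs
    rw [Submodule.map_span, ← Set.range_comp] at this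
    exact this
  let bas := Module.Basis.mk hli hspan
  haveI hdom : IsDomain B := hψinj.isDomain ψ.toRingHom
  refine ⟨Module.Free.of_basis bas, ?_, hdom, isIntegrallyClosed_away ?_ fun b c hc hint => ?_⟩
  · rw [Module.finrank_eq_card_basis bas, Fintype.card_fun, Fintype.card_fin, Fintype.card_subtype_compl, Fintype.card_fin, Fintype.card_subtype_eq]
  · intro e
    exact hne (h.inj ((ψ.commutes _).symm.trans ((congrArg ψ e).trans ((map_zero ψ).trans (map_zero _).symm))))
  let L := FractionRing A
  let j : FractionRing B →+* L := IsFractionRing.lift (A := B) (g := (algebraMap A L).comp ψ.toRingHom)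
    ((IsFractionRing.injective A L).comp hψinj)
  have hj : ∀ x : B, j (algebraMap B (FractionRing B) x) = algebraMap A L (ψ x) := fun x => IsFractionRing.lift_algebraMap _ x
  have hint' : IsIntegral A (j (algebraMap B (FractionRing B) b / algebraMap B (FractionRing B) c)) :=
    isIntegral_map_of_square ψ.toRingHom j (fun x => hj x) hint
  obtain ⟨e, he⟩ := IsIntegrallyClosed.isIntegral_iff.mp hint'
  have hcA : ψ c ≠ 0 := fun e0 => hc (hψinj (e0.trans (map_zero ψ).symm))
  have hce : ψ c * e = ψ b := IsFractionRing.injective A L (by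
    rw [map_mul, he, map_div₀, hj, hj, mul_div_cancel₀ _ (fun e0 => hcA (IsFractionRing.injective A L (e0.trans (map_zero _).symm)))])
  obtain ⟨σ, hσ⟩ := hlift (fun i => u i + algebraMap R A (μ * a i)) fun i => by
    rw [add_pow_char, h.pow_eq]
    obtain ⟨m, hm⟩ : ∃ m, p = m + 1 := ⟨p - 1, by have := hp.pos; omega⟩
    simp only [map_pow, hm, Nat.add_sub_cancel]
    ring
  have hfix : ∀ x : B, σ (ψ x) = ψ x := by
    have : σ.comp ψ = ψ := by
      refine Ideal.Quotient.algHom_ext R (MvPolynomial.algHom_ext fun l => ?_)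
      show σ (aeval (minor a u i₀) (X l)) = aeval (minor a u i₀) (X l)
      simp only [aeval_X, minor, map_sub, map_mul, hσ]
      rw [σ.commutes, σ.commutes]
      ring
    exact fun x => DFunLike.congr_fun this x
  have he' : σ e = e := mul_left_cancel₀ hcA (by rw [← hfix c, ← map_mul, hce, hfix b, hfix c, hce])
  obtain ⟨N, hN⟩ := exists_pow_mul_mem h i₀ hne σ hσ e he'
  obtain ⟨e', he''⟩ := hψrange _ hN
  refine ⟨N, e', hψinj ?_⟩
  have hψ : ψ (algebraMap (MvPowerSeries (Fin n) k) B (μ * a i₀)) = algebraMap (MvPowerSeries (Fin n) k) A (μ * a i₀) := ψ.commutes _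
  rw [map_mul ψ, map_mul ψ, map_pow, hψ, he'', ← hce]
  ring

end Groth.Agent.WQ8
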