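import Groth.Agent.WQ8.ASBasis
import Groth.Agent.WQ8.ASAut
import Groth.Agent.WQ8.RegularUFD
import Mathlib.Data.Nat.Choose.Multinomial

set_option autoImplicit false
set_option linter.style.haveILetI false
universe u

namespace Groth.Agent.WQ8

open IsLocalRing MvPolynomial

theorem dvd_of_no_common_prime {R : Type*} [CommRing R] [IsDomain R] [UniqueFactorizationMonoid R] {ι : Type*} (x : ι → R)
    (hne : Nonempty ι) (hx : ∀ π : R, Prime π → ∃ i, ¬ π ∣ x i) (D : R) : ∀ q : R, D ≠ 0 → (∀ i, D ∣ q * x i) → D ∣ q := by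
  induction D using UniqueFactorizationMonoid.induction_on_prime with
  | h₁ => intro q h; exact absurd rfl h
  | h₂ u hu => intro q _ _; exact hu.dvd
  | h₃ D π hD hπ ih =>
    intro q _ hall
    obtain ⟨i, hi⟩ := hx π hπ
    obtain ⟨q', rfl⟩ := (hπ.dvd_or_dvd ((dvd_mul_right π D).trans (hall i))).resolve_right hi
    refine mul_dvd_mul_left π (ih q' hD fun j => ?_)
    have := hall j
    rw [mul_assoc] at this
    exact (mul_dvd_mul_iff_left hπ.ne_zero).mp this

theorem list_prod_translate {R A : Type*} [CommRing R] [CommRing A] [Algebra R A] {ι κ : Type*} (v : κ → A)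
    (τ : ι → A ≃ₐ[R] A) (d : ι → κ → R) (h : ∀ l j, τ l (v j) = v j + algebraMap R A (d l j)) :
    ∀ L : List ι, ∀ j, (L.map τ).prod (v j) = v j + algebraMap R A (L.map (d · j)).sum := by
  intro L
  induction L with
  | nil => intro j; simp
  | cons l L ih => intro j; rw [List.map_cons, List.prod_cons, AlgEquiv.mul_apply, ih, map_add, h, AlgEquiv.commutes, List.map_cons, List.sum_cons, map_add]; ring

variable {p : ℕ} [Fact p.Prime] {k : Type u} [Field k] [CharP k p] {n : ℕ} {a : Fin n → MvPowerSeries (Fin n) k}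
  {μ : MvPowerSeries (Fin n) k}
  {A : Type u} [CommRing A] [Algebra (MvPowerSeries (Fin n) k) A] {u : Fin n → A}

theorem translate_pow (σ : A ≃ₐ[MvPowerSeries (Fin n) k] A) (v : A) (r : MvPowerSeries (Fin n) k)
    (h : σ v = v + algebraMap _ A r) : ∀ m : ℕ, (σ ^ m) v = v + algebraMap (MvPowerSeries (Fin n) k) A (m * r) := by
  intro m
  induction m with
  | zero => simp
  | succ m ih => rw [pow_succ', AlgEquiv.mul_apply, ih, map_add, h, AlgEquiv.commutes, Nat.cast_succ, add_mul, one_mul, map_add]; ring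

/-- Invariants of a hyperplane of translations. -/
theorem hyperplane_invariants (h : IsAS p (fun i => μ * a i) u) (hμ : μ ≠ 0) (ha0 : ∀ i, a i ≠ 0)
    (hcop : ∀ i j, i ≠ j → IsRelPrime (a i) (a j)) (s : Fin n → ZMod p) (hs : s ≠ 0)
    (c : Fin n → MvPowerSeries (Fin n) k) (hc : ∀ i (f : ZMod p →+* MvPowerSeries (Fin n) k), c i = f (s i))
    (σ : Fin n → (A ≃ₐ[MvPowerSeries (Fin n) k] A))
    (hσ : ∀ i j, σ i (u j) = u j + (if i = j then algebraMap (MvPowerSeries (Fin n) k) A (μ * a i) else 0)) :
    (∀ t : A, (∀ ν : Fin n → ZMod p, ∑ i, ν i * s i = 0 → (List.ofFn (fun i : Fin n => σ i ^ (ν i).val)).prod t = t) ↔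
      t ∈ (Polynomial.aeval (∑ i ∈ Finset.univ.filter (fun i => s i ≠ 0),
        algebraMap (MvPowerSeries (Fin n) k) A (c i * ∏ j ∈ (Finset.univ.filter (fun j => s j ≠ 0)).erase i, a j) * u i) :
          Polynomial (MvPowerSeries (Fin n) k) →ₐ[MvPowerSeries (Fin n) k] A).range) ∧
    RingHom.ker (Polynomial.aeval (∑ i ∈ Finset.univ.filter (fun i => s i ≠ 0),
        algebraMap (MvPowerSeries (Fin n) k) A (c i * ∏ j ∈ (Finset.univ.filter (fun j => s j ≠ 0)).erase i, a j) * u i) :
          Polynomial (MvPowerSeries (Fin n) k) →ₐ[MvPowerSeries (Fin n) k] A) =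
      Ideal.span {Polynomial.X ^ p - Polynomial.C ((μ * ∏ i ∈ Finset.univ.filter (fun i => s i ≠ 0), a i) ^ (p - 1)) * Polynomial.X
        - Polynomial.C (∑ i ∈ Finset.univ.filter (fun i => s i ≠ 0),
            c i * (∏ j ∈ (Finset.univ.filter (fun j => s j ≠ 0)).erase i, a j) ^ p * MvPowerSeries.X i)} := by
  classical
  have hp := (Fact.out : p.Prime)
  let R := MvPowerSeries (Fin n) k
  obtain ⟨hdR, hufd⟩ : IsDomain R ∧ UniqueFactorizationMonoid R := by
    haveI : IsRegularLocalRing R := Misc9.SF.ps_isRegularLocalRing n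
    exact ufd_of_regular R
  haveI := h.charP
  haveI := h.isDomain
  haveI : CharP R p := charP_of_injective_ringHom (f := (MvPowerSeries.C : k →+* R)) (fun x y e => by
    simpa using congrArg MvPowerSeries.constantCoeff e) p
  let ζ : ZMod p →+* R := ZMod.castHom dvd_rfl R
  have hc' : ∀ i, c i = ζ (s i) := fun i => hc i ζ
  have hζ : ∀ e, ζ e ^ p = ζ e := fun e => by rw [← map_pow, ZMod.pow_card]
  let T := Finset.univ.filter (fun i => s i ≠ 0)
  let αi : Fin n → R := fun i => ∏ j ∈ T.erase i, a j
  let α : R := ∏ i ∈ T, a i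
  let z : A := ∑ i ∈ T, algebraMap R A (c i * αi i) * u i
  show (∀ t : A, _ ↔ t ∈ (Polynomial.aeval z : Polynomial R →ₐ[R] A).range) ∧ RingHom.ker (Polynomial.aeval z : Polynomial R →ₐ[R] A) = _
  have hα : ∀ i ∈ T, a i * αi i = α := fun i hi => Finset.mul_prod_erase T a hi
  have hα0 : μ * α ≠ 0 := mul_ne_zero hμ (Finset.prod_ne_zero_iff.mpr fun i _ => ha0 i)
  have inj0 : ∀ r : R, r ≠ 0 → algebraMap R A r ≠ 0 := fun r hr e => hr (h.inj (e.trans (map_zero _).symm))
  let τ : (Fin n → ZMod p) → (A ≃ₐ[R] A) := fun ν => (List.ofFn (fun i : Fin n => σ i ^ (ν i).val)).prod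
  have hτu : ∀ ν j, τ ν (u j) = u j + algebraMap R A (ζ (ν j) * (μ * a j)) := by
    intro ν j
    have h1 := list_prod_translate (R := R) u (fun i => σ i ^ (ν i).val) (fun i l => ((ν i).val : R) * if i = l then μ * a i else 0)
      (fun i l => translate_pow (σ i) (u l) (if i = l then μ * a i else 0) (by rw [hσ]; split <;> simp [*]) _) (List.finRange n) j
    rw [← List.ofFn_eq_map, ← List.ofFn_eq_map, List.sum_ofFn] at h1
    refine h1.trans ?_
    congr 2
    rw [Finset.sum_eq_single j (fun b _ hb => by rw [if_neg hb, mul_zero]) (fun hj => absurd (Finset.mem_univ j) hj), if_pos rfl]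
    congr 1
    rw [← map_natCast ζ, ZMod.natCast_val, ZMod.cast_id]
  have hτz : ∀ ν, τ ν z = z + algebraMap R A (ζ (∑ i, ν i * s i) * (μ * α)) := by
    intro ν
    have hsum : ∑ i, ν i * s i = ∑ i ∈ T, ν i * s i := by
      rw [Finset.sum_filter]
      exact Finset.sum_congr rfl fun i _ => by by_cases hi : s i = 0 <;> simp [hi]
    simp only [z]
    rw [map_sum, hsum, map_sum ζ, Finset.sum_mul, map_sum, ← Finset.sum_add_distrib]
    refine Finset.sum_congr rfl fun i hi => ?_
    rw [map_mul, AlgEquiv.commutes, hτu, hc', map_mul ζ, ← hα i hi]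
    simp only [map_mul]
    ring
  -- the equation of z
  let f : Polynomial R := Polynomial.X ^ p - Polynomial.C ((μ * α) ^ (p - 1)) * Polynomial.X
        - Polynomial.C (∑ i ∈ T, c i * αi i ^ p * MvPowerSeries.X i)
  show _ ∧ RingHom.ker (Polynomial.aeval z : Polynomial R →ₐ[R] A) = Ideal.span {f}
  obtain ⟨q, hq⟩ : ∃ q, p = q + 1 := ⟨p - 1, by have := hp.pos; omega⟩
  have hzp : z ^ p = algebraMap R A ((μ * α) ^ (p - 1)) * z + algebraMap R A (∑ i ∈ T, c i * αi i ^ p * MvPowerSeries.X i) := by
    simp only [z]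
    rw [sum_pow_char, Finset.mul_sum, map_sum, ← Finset.sum_add_distrib]
    refine Finset.sum_congr rfl fun i hi => ?_
    have hci : algebraMap R A (c i) ^ p = algebraMap R A (c i) := by rw [← map_pow, hc', hζ]
    rw [map_mul (algebraMap R A) (c i) (αi i), mul_pow, mul_pow, hci, h.pow_eq, ← hα i hi]
    simp only [map_mul, map_pow, hq, Nat.add_sub_cancel]
    ring
  have hfm : f.Monic := by
    show (Polynomial.X ^ p - _ - _ : Polynomial R).Monic
    rw [sub_sub]
    exact Polynomial.monic_X_pow_sub (lt_of_le_of_lt Polynomial.degree_linear_le (by exact_mod_cast hp.one_lt))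
  have hfd : f.natDegree = p := by
    show (Polynomial.X ^ p - _ - _ : Polynomial R).natDegree = p
    rw [sub_sub, Polynomial.natDegree_sub_eq_left_of_natDegree_lt] <;> rw [Polynomial.natDegree_X_pow]
    exact lt_of_le_of_lt Polynomial.natDegree_linear_le hp.one_lt
  have hf0 : Polynomial.aeval z f = 0 := by
    simp only [f, Polynomial.aeval_def, Polynomial.eval₂_sub, Polynomial.eval₂_mul, Polynomial.eval₂_pow, Polynomial.eval₂_X, Polynomial.eval₂_C]
    rw [hzp]; ring
  have hmod : ∀ P : Polynomial R, (P %ₘ f).natDegree < p := fun P =>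
    (Polynomial.natDegree_modByMonic_lt P hfm fun h1 => hp.ne_zero (by rw [← hfd, h1, Polynomial.natDegree_one])).trans_eq hfd
  obtain ⟨i₀, hi₀⟩ : ∃ i, s i ≠ 0 := by
    by_contra hall
    exact hs (funext fun i => by simpa using not_exists.mp hall i)
  have hi₀T : i₀ ∈ T := Finset.mem_filter.mpr ⟨Finset.mem_univ _, hi₀⟩
  have hindep : ∀ P : Polynomial R, P.natDegree < p → Polynomial.aeval z P = 0 → P = 0 := by
    intro P hP h0
    have h1 : P.map (algebraMap R A) = 0 := by
      refine Polynomial.eq_zero_of_natDegree_lt_card_of_eval_eq_zero _ (ι := ZMod p)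
        (f := fun e => z + algebraMap R A (ζ e * (μ * α))) (fun e e' hee => ζ.injective (mul_right_cancel₀ hα0 (h.inj (add_left_cancel hee))))
        (fun e => ?_) (by rw [ZMod.card]; exact Polynomial.natDegree_map_le.trans_lt hP)
      have he : τ (Pi.single i₀ (e * (s i₀)⁻¹)) z = z + algebraMap R A (ζ e * (μ * α)) := by
        rw [hτz, Finset.sum_eq_single i₀ (fun b _ hb => by rw [Pi.single_eq_of_ne hb, zero_mul]) (fun hj => absurd (Finset.mem_univ i₀) hj),
          Pi.single_eq_same, mul_assoc e, inv_mul_cancel₀ hi₀, mul_one]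
      rw [← he, Polynomial.eval_map, ← Polynomial.aeval_def, Polynomial.aeval_algHom_apply (τ (Pi.single i₀ (e * (s i₀)⁻¹))), h0, map_zero]
    exact Polynomial.map_injective _ h.inj (h1.trans (Polynomial.map_zero _).symm)
  refine ⟨fun t => ⟨fun ht => ?_, ?_⟩, ?_⟩
  rotate_left
  · rintro ⟨P, rfl⟩ ν hν
    show τ ν (Polynomial.aeval z P) = Polynomial.aeval z P
    rw [← Polynomial.aeval_algHom_apply (τ ν), hτz, hν, map_zero, zero_mul, map_zero, add_zero]
  · refine le_antisymm (fun P hP => ?_) ((Ideal.span_singleton_le_iff_mem _).mpr hf0)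
    have h0 : Polynomial.aeval z (P %ₘ f) = 0 := by rw [Polynomial.aeval_modByMonic_eq_self_of_root hf0]; exact hP
    exact Ideal.mem_span_singleton.mpr ((Polynomial.modByMonic_eq_zero_iff_dvd hfm).mp (hindep _ (hmod P) h0))
  -- invariants
  let d : R := c i₀ * αi i₀
  have hd : d ≠ 0 := mul_ne_zero (by rw [hc']; exact fun e => hi₀ (ζ.injective (e.trans (map_zero ζ).symm)))
    (Finset.prod_ne_zero_iff.mpr fun i _ => ha0 i)
  let adj : Finset (Fin n) → Subalgebra R A := fun J => Algebra.adjoin R (insert z (u '' ↑J))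
  have hexp : ∀ x : A, ∃ N : ℕ, algebraMap R A d ^ N * x ∈ adj (Finset.univ.erase i₀) := by
    intro x
    obtain ⟨P, rfl⟩ := h.surj x
    induction P using MvPolynomial.induction_on with
    | C r => exact ⟨0, by rw [pow_zero, one_mul, aeval_C]; exact Subalgebra.algebraMap_mem _ r⟩
    | add P P' hP hP' =>
      obtain ⟨N, hN⟩ := hP; obtain ⟨N', hN'⟩ := hP'
      refine ⟨N + N', ?_⟩
      rw [map_add, show ∀ x y D : A, D ^ (N + N') * (x + y) = D ^ N' * (D ^ N * x) + D ^ N * (D ^ N' * y) from fun x y D => by ring]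
      exact add_mem (mul_mem (pow_mem (Subalgebra.algebraMap_mem _ d) _) hN) (mul_mem (pow_mem (Subalgebra.algebraMap_mem _ d) _) hN')
    | mul_X P i hP =>
      obtain ⟨N, hN⟩ := hP
      rw [map_mul (aeval (R := R) u), aeval_X]
      by_cases hi : i = i₀
      · subst hi
        refine ⟨N + 1, ?_⟩
        rw [show ∀ x y D : A, D ^ (N + 1) * (x * y) = (D ^ N * x) * (D * y) from fun x y D => by ring]
        refine mul_mem hN ?_
        have hrest : algebraMap R A d * u i = z - ∑ l ∈ T.erase i, algebraMap R A (c l * αi l) * u l := by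
          simp only [z, d]
          rw [← Finset.add_sum_erase T _ hi₀T]; ring
        rw [hrest]
        exact sub_mem (Algebra.subset_adjoin (Set.mem_insert _ _)) (sum_mem fun l hl => mul_mem (Subalgebra.algebraMap_mem _ _)
          (Algebra.subset_adjoin (Set.mem_insert_of_mem _ ⟨l, by simpa using Finset.ne_of_mem_erase hl, rfl⟩)))
      · refine ⟨N, ?_⟩
        rw [← mul_assoc]
        exact mul_mem hN (Algebra.subset_adjoin (Set.mem_insert_of_mem _ ⟨i, by simpa using hi, rfl⟩))
  have helim : ∀ J : Finset (Fin n), i₀ ∉ J → ∀ t' : A, (∀ ν, ∑ i, ν i * s i = 0 → τ ν t' = t') → t' ∈ adj J → t' ∈ adj ∅ := by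
    intro J
    induction J using Finset.induction_on with
    | empty => exact fun _ _ _ hm => hm
    | insert j J hj ih =>
      intro hi t' ht' hm
      simp only [Finset.mem_insert, not_or] at hi
      refine ih hi.2 t' ht' ?_
      let B := adj J
      have hm' : ∃ P : Polynomial B, Polynomial.aeval (u j) P = t' := by
        have hle : adj (insert j J) ≤ ((Polynomial.aeval (u j) : Polynomial B →ₐ[B] A).range).restrictScalars R := by
          refine Algebra.adjoin_le ?_
          rintro y (rfl | ⟨l, hl, rfl⟩)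
          · exact ⟨Polynomial.C ⟨z, Algebra.subset_adjoin (Set.mem_insert _ _)⟩, Polynomial.aeval_C (u j) _⟩
          · rcases Finset.mem_insert.mp hl with rfl | hl
            · exact ⟨Polynomial.X, Polynomial.aeval_X _⟩
            · exact ⟨Polynomial.C ⟨u l, Algebra.subset_adjoin (Set.mem_insert_of_mem _ ⟨l, hl, rfl⟩)⟩, Polynomial.aeval_C (u j) _⟩
        exact hle hm
      obtain ⟨P, hP⟩ := hm'
      let g : Polynomial B := Polynomial.X ^ p - (Polynomial.C (algebraMap R B ((μ * a j) ^ (p - 1))) * Polynomial.X +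
        Polynomial.C (algebraMap R B (MvPowerSeries.X j)))
      have hgm : g.Monic := Polynomial.monic_X_pow_sub (lt_of_le_of_lt Polynomial.degree_linear_le (by exact_mod_cast hp.one_lt))
      have hg0 : Polynomial.aeval (u j) g = 0 := by
        simp only [g, Polynomial.aeval_def, Polynomial.eval₂_sub, Polynomial.eval₂_add, Polynomial.eval₂_mul, Polynomial.eval₂_pow,
          Polynomial.eval₂_X, Polynomial.eval₂_C]
        exact sub_eq_zero.mpr (h.pow_eq j)
      have hgd : g.natDegree = p := by
        simp only [g]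
        rw [Polynomial.natDegree_sub_eq_left_of_natDegree_lt] <;> rw [Polynomial.natDegree_X_pow]
        exact lt_of_le_of_lt Polynomial.natDegree_linear_le hp.one_lt
      have hdeg : (P %ₘ g).natDegree < p :=
        (Polynomial.natDegree_modByMonic_lt P hgm fun h1 => hp.ne_zero (by rw [← hgd, h1, Polynomial.natDegree_one])).trans_eq hgd
      have hP' : Polynomial.aeval (u j) (P %ₘ g) = t' := by rw [Polynomial.aeval_modByMonic_eq_self_of_root hg0, hP]
      let Q : Polynomial A := (P %ₘ g).map (algebraMap B A) - Polynomial.C t'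
      have hQ0 : Q = 0 := by
        refine Polynomial.eq_zero_of_natDegree_lt_card_of_eval_eq_zero Q (ι := ZMod p)
          (f := fun e => u j + algebraMap R A (ζ e * (μ * a j)))
          (fun e e' hee => ζ.injective (mul_right_cancel₀ (mul_ne_zero hμ (ha0 j)) (h.inj (add_left_cancel hee)))) (fun e => ?_) ?_
        · let ν : Fin n → ZMod p := Pi.single j e + Pi.single i₀ (-(e * s j) * (s i₀)⁻¹)
          have hν : ∑ i, ν i * s i = 0 := by
            simp only [ν, Pi.add_apply, add_mul, Finset.sum_add_distrib]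
            rw [Finset.sum_eq_single j (fun b _ hb => by rw [Pi.single_eq_of_ne hb, zero_mul]) (fun hj => absurd (Finset.mem_univ j) hj),
              Finset.sum_eq_single i₀ (fun b _ hb => by rw [Pi.single_eq_of_ne hb, zero_mul]) (fun hj => absurd (Finset.mem_univ i₀) hj),
              Pi.single_eq_same, Pi.single_eq_same, mul_assoc (-(e * s j)), inv_mul_cancel₀ hi₀, mul_one, add_neg_cancel]
          have hBfix : ∀ b : B, τ ν (b : A) = b := by
            have hle : B ≤ AlgHom.equalizer (τ ν).toAlgHom (AlgHom.id R A) := Algebra.adjoin_le (by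
              rintro y (rfl | ⟨l, hl, rfl⟩)
              · show τ ν z = z
                rw [hτz, hν, map_zero, zero_mul, map_zero, add_zero]
              · show τ ν (u l) = u l
                rw [hτu, show ν l = 0 by
                  simp [ν, Pi.single_eq_of_ne (show l ≠ j from fun e => hj (e ▸ hl)), Pi.single_eq_of_ne (show l ≠ i₀ from fun e => hi.2 (e ▸ hl))],
                  map_zero, zero_mul, map_zero, add_zero])
            exact fun b => hle b.2
          have hνj : ν j = e := by simp [ν, Pi.single_eq_of_ne (show j ≠ i₀ from Ne.symm hi.1)]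
          have h1 := congrArg (τ ν).toAlgHom.toRingHom hP'
          rw [Polynomial.aeval_def, Polynomial.hom_eval₂,
            show (τ ν).toAlgHom.toRingHom.comp (algebraMap B A) = algebraMap B A from RingHom.ext hBfix] at h1
          have h2 : (τ ν).toAlgHom.toRingHom (u j) = u j + algebraMap R A (ζ e * (μ * a j)) := (hτu ν j).trans (by rw [hνj])
          have h3 : (τ ν).toAlgHom.toRingHom t' = t' := ht' ν hν
          rw [h2, h3] at h1
          simp only [Q, Polynomial.eval_sub, Polynomial.eval_C, Polynomial.eval_map]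
          rw [h1, sub_self]
        · rw [ZMod.card]
          exact lt_of_le_of_lt (Polynomial.natDegree_sub_le _ _) (max_lt (Polynomial.natDegree_map_le.trans_lt hdeg) (by rw [Polynomial.natDegree_C]; exact hp.pos))
      have h0 := congrArg (fun q : Polynomial A => q.coeff 0) hQ0
      simp only [Q, Polynomial.coeff_sub, Polynomial.coeff_map, Polynomial.coeff_C_zero, Polynomial.coeff_zero, sub_eq_zero] at h0
      exact h0 ▸ ((P %ₘ g).coeff 0).2
  obtain ⟨N, hN⟩ := hexp t
  have hfixN : ∀ ν, ∑ i, ν i * s i = 0 → τ ν (algebraMap R A d ^ N * t) = algebraMap R A d ^ N * t := fun ν hν => by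
    rw [map_mul, map_pow, AlgEquiv.commutes]
    exact congrArg _ (ht ν hν)
  have hN' := helim _ (Finset.notMem_erase i₀ _) _ hfixN hN
  simp only [adj, Finset.coe_empty, Set.image_empty, insert_empty_eq, Algebra.adjoin_singleton_eq_range_aeval] at hN'
  obtain ⟨P, hP⟩ := hN'
  let Q := P %ₘ f
  have hQ : Polynomial.aeval z Q = algebraMap R A d ^ N * t := by
    rw [Polynomial.aeval_modByMonic_eq_self_of_root hf0]; exact hP
  obtain ⟨b, hb⟩ := h.exists_basis
  have hdiv : ∀ m, d ^ N ∣ Q.coeff m := by
    intro m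
    by_cases hm : p ≤ m
    · rw [Polynomial.coeff_eq_zero_of_natDegree_lt ((hmod P).trans_le hm)]; exact dvd_zero _
    refine dvd_of_no_common_prime (fun i : T => (c i * αi i) ^ m) ⟨⟨i₀, hi₀T⟩⟩ (fun π hπ => ?_) _ _ (pow_ne_zero _ hd) fun i => ?_
    · by_contra hall
      simp only [not_exists, not_not] at hall
      have hdvd : ∀ i ∈ T, π ∣ αi i := fun i hi => by
        refine (hπ.dvd_or_dvd (hπ.dvd_of_dvd_pow (hall ⟨i, hi⟩))).resolve_left fun hd' => hπ.not_isUnit (isUnit_of_dvd_unit hd' ?_)
        rw [hc']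
        exact (isUnit_iff_ne_zero.mpr (Finset.mem_filter.mp hi).2).map ζ
      obtain ⟨j, hj, hπj⟩ := hπ.dvd_finset_prod_iff _ |>.mp (hdvd i₀ hi₀T)
      obtain ⟨l, hl, hπl⟩ := hπ.dvd_finset_prod_iff _ |>.mp (hdvd j (Finset.mem_of_mem_erase hj))
      exact hπ.not_isUnit (hcop l j (Finset.ne_of_mem_erase hl) hπl hπj)
    obtain ⟨i, hi⟩ := i
    let e₀ : Fin n → Fin p := fun l => if l = i then ⟨m, not_le.mp hm⟩ else ⟨0, hp.pos⟩
    have hcoord : ∀ m' < p, b.coord e₀ (z ^ m') = if m' = m then (c i * αi i) ^ m else 0 := by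
      intro m' hm'
      simp only [z]
      rw [Finset.sum_pow_eq_sum_piAntidiag, map_sum]
      have hmono : ∀ κ ∈ Finset.piAntidiag T m', b.coord e₀ ((Nat.multinomial T κ : A) * ∏ l ∈ T, (algebraMap R A (c l * αi l) * u l) ^ κ l) =
          ((Nat.multinomial T κ : R) * ∏ l ∈ T, (c l * αi l) ^ κ l) * if (∀ l, κ l = (e₀ l : ℕ)) then 1 else 0 := by
        intro κ hκ
        obtain ⟨hκs, hκ0⟩ := Finset.mem_piAntidiag.mp hκ
        have hκp : ∀ l, κ l < p := fun l => by
          by_cases hl : l ∈ T
          · exact lt_of_le_of_lt (Finset.single_le_sum (f := κ) (fun _ _ => Nat.zero_le _) hl) (hκs ▸ hm')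
          · rw [show κ l = 0 from by_contra fun h0 => hl (hκ0 l h0)]; exact hp.pos
        have hprod : ∏ l ∈ T, u l ^ κ l = b (fun l => ⟨κ l, hκp l⟩) := by
          rw [hb]
          exact Finset.prod_subset (Finset.subset_univ T) fun l _ hl => by rw [show κ l = 0 from by_contra fun h0 => hl (hκ0 l h0), pow_zero]
        rw [show (Nat.multinomial T κ : A) * ∏ l ∈ T, (algebraMap R A (c l * αi l) * u l) ^ κ l =
          ((Nat.multinomial T κ : R) * ∏ l ∈ T, (c l * αi l) ^ κ l) • ∏ l ∈ T, u l ^ κ l by
            rw [Algebra.smul_def, map_mul, map_natCast, map_prod]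
            simp only [map_mul, map_pow, mul_pow, Finset.prod_mul_distrib]
            ring, hprod, map_smul, smul_eq_mul, Module.Basis.coord_apply, Module.Basis.repr_self, Finsupp.single_apply]
        simp [_root_.funext_iff, Fin.ext_iff]
      rw [Finset.sum_congr rfl hmono]
      have he₀ : (fun l => (e₀ l : ℕ)) = fun l => if l = i then m else 0 := funext fun l => by simp only [e₀]; split <;> rfl
      by_cases hmm : m' = m
      · subst hmm
        rw [if_pos rfl, Finset.sum_eq_single (fun l => if l = i then m' else 0)]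
        · rw [if_pos fun l => (congrFun he₀ l).symm, mul_one, Finset.prod_eq_single i (fun l _ hl => by simp [hl]) (fun h' => absurd hi h')]
          simp only [↓reduceIte]
          have hmult : Nat.multinomial T (fun l => if l = i then m' else 0) = 1 := by
            have h1 := Nat.multinomial_spec T (fun l => if l = i then m' else 0)
            rw [Finset.prod_eq_single i (fun l _ hl => by simp [hl]) (fun h' => absurd hi h'), Finset.sum_ite_eq' T i, if_pos hi, if_pos rfl] at h1
            exact Nat.eq_of_mul_eq_mul_left (Nat.factorial_pos m') (h1.trans (mul_one _).symm)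
          rw [hmult, Nat.cast_one, one_mul]
        · intro κ _ hne
          rw [if_neg fun hall => hne (funext fun l => (hall l).trans (congrFun he₀ l)), mul_zero]
        · intro hnot
          refine absurd (Finset.mem_piAntidiag.mpr ⟨by simp [hi], fun l hl => ?_⟩) hnot
          by_cases hli : l = i
          · exact hli ▸ hi
          · simp [hli] at hl
      · rw [if_neg hmm]
        refine Finset.sum_eq_zero fun κ hκ => ?_
        rw [if_neg, mul_zero]
        intro hall
        refine hmm ?_
        rw [← (Finset.mem_piAntidiag.mp hκ).1, Finset.sum_congr rfl fun l _ => (hall l).trans (congrFun he₀ l)]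
        simp [hi]
    refine ⟨b.coord e₀ t, ?_⟩
    show Q.coeff m * (c i * αi i) ^ m = d ^ N * b.coord e₀ t
    have h1 := congrArg (b.coord e₀) hQ
    rw [← map_pow, ← Algebra.smul_def, map_smul, smul_eq_mul, Polynomial.aeval_eq_sum_range' (hmod P), map_sum,
      Finset.sum_congr rfl (fun m' hm' => by rw [map_smul, smul_eq_mul, hcoord m' (Finset.mem_range.mp hm')]),
      Finset.sum_eq_single m (fun m' _ hne => by rw [if_neg hne, mul_zero]) (fun hne => absurd (Finset.mem_range.mpr (not_le.mp hm)) hne),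
      if_pos rfl] at h1
    exact h1
  choose q' hq' using hdiv
  refine ⟨∑ m ∈ Finset.range p, Polynomial.monomial m (q' m), mul_left_cancel₀ (pow_ne_zero N (inj0 d hd)) ?_⟩
  rw [← hQ, Polynomial.aeval_eq_sum_range' (hmod P)]
  simp only [AlgHom.toRingHom_eq_coe, RingHom.coe_coe, map_sum, Polynomial.aeval_monomial, Finset.mul_sum]
  refine Finset.sum_congr rfl fun m _ => ?_
  rw [hq' m, Algebra.smul_def]
  simp only [d, map_mul, map_pow]
  ring

end Groth.Agent.WQ8
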