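import Groth.Agent.WQ8.Span

set_option autoImplicit false
universe u v w

open scoped Pointwise

namespace Groth.Agent.WQ8

theorem prod_bijective {H : Type w} [CommGroup H] [Finite H] (p : ℕ) {n : ℕ} (hcard : Nat.card H = p ^ n)
    (Gi : Fin n → Subgroup H) (hGi : ∀ i, Nat.card (Gi i) = p) (hsup : (⨆ i, Gi i) = ⊤) :
    Function.Bijective fun g : ∀ j, Gi j => ∏ j, (g j : H) := by
  classical
  haveI : Fintype H := Fintype.ofFinite H
  let f : (∀ j, Gi j) →* H :=
    { toFun := fun g => ∏ j, (g j : H), map_one' := by simp, map_mul' := fun a b => by simp [Finset.prod_mul_distrib] }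
  have hs : Function.Surjective f := by
    rw [← MonoidHom.range_eq_top, eq_top_iff, ← hsup]
    refine iSup_le fun j x hx => ⟨Pi.mulSingle j ⟨x, hx⟩, ?_⟩
    show ∏ l, ((Pi.mulSingle (M := fun l => ↥(Gi l)) j (⟨x, hx⟩ : Gi j) l : Gi l) : H) = x
    rw [Finset.prod_eq_single j (fun b _ hb => by rw [Pi.mulSingle_eq_of_ne hb]; rfl) (by simp), Pi.mulSingle_eq_same]
  refine hs.bijective_of_nat_card_le ?_
  rw [hcard, Nat.card_pi]
  simp only [hGi, Finset.prod_const, Finset.card_univ, Fintype.card_fin, le_refl]

variable {R : Type u} [CommRing R] {A : Type v} [CommRing A] [IsDomain A] [Algebra R A]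
  {H : Type w} [CommGroup H] [Finite H] [MulSemiringAction H A] [SMulCommClass H R A]

omit [Finite H] in
theorem isIntegrallyClosed_invariants [IsDomain R] [IsIntegrallyClosed A] (hinj : Function.Injective (algebraMap R A))
    (hfix : ∀ a : A, (∀ h : H, h • a = a) → a ∈ Set.range (algebraMap R A)) : IsIntegrallyClosed R := by
  rw [isIntegrallyClosed_iff (FractionRing R)]
  intro x hx
  obtain ⟨a, s, hs, rfl⟩ := IsFractionRing.div_surjective (A := R) x
  have hs0 : s ≠ 0 := nonZeroDivisors.ne_zero hs
  let L := FractionRing A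
  let g : FractionRing R →+* L :=
    IsFractionRing.lift (g := (algebraMap A L).comp (algebraMap R A)) ((IsFractionRing.injective A L).comp hinj)
  have hg : ∀ r : R, g (algebraMap R (FractionRing R) r) = algebraMap A L (algebraMap R A r) :=
    fun r => IsFractionRing.lift_algebraMap _ r
  have hint : IsIntegral A (g (algebraMap R (FractionRing R) a / algebraMap R (FractionRing R) s)) := by
    obtain ⟨f, hf, hfx⟩ := hx
    refine ⟨f.map (algebraMap R A), hf.map _, ?_⟩
    rw [Polynomial.eval₂_map]
    have := congrArg g hfx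
    rw [Polynomial.hom_eval₂, map_zero] at this
    rw [← this]
    congr 1
    exact RingHom.ext fun r => (hg r).symm
  obtain ⟨z, hz⟩ := IsIntegrallyClosed.isIntegral_iff.mp hint
  have hsA : algebraMap R A s ≠ 0 := fun h => hs0 (hinj (h.trans (map_zero _).symm))
  rw [map_div₀, hg, hg, eq_div_iff (fun h => hsA (IsFractionRing.injective A L (h.trans (map_zero _).symm))), ← map_mul] at hz
  have hz' := IsFractionRing.injective A L hz
  obtain ⟨r, hr⟩ := hfix z fun h => mul_right_cancel₀ hsA (by
    rw [← smul_algebraMap h s, ← smul_mul', hz', smul_algebraMap, smul_algebraMap, hz'])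
  rw [← hr, ← map_mul] at hz'
  refine ⟨r, ?_⟩
  rw [eq_div_iff (fun h => hs0 (IsFractionRing.injective R (FractionRing R) (h.trans (map_zero _).symm))), ← map_mul, hinj hz']

theorem height_eq_one [IsDomain R] [IsNoetherianRing R] [Module.Finite R A] (hinj : Function.Injective (algebraMap R A)) (q : Ideal R) [q.IsPrime] (hq : q.height ≤ 1)
    (P : Ideal A) [P.IsPrime] (hPq : P.comap (algebraMap R A) = q) (hq0 : q ≠ ⊥) : P.height = 1 := by
  refine le_antisymm ((Ideal.height_le_iff (n := 1)).mpr fun P' hP' hlt => ?_) ?_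
  · have h1 : P'.comap (algebraMap R A) < q := by
      rw [← hPq]; exact Ideal.comap_lt_comap_of_integral_mem_sdiff hlt.le (Set.exists_of_ssubset hlt).choose_spec (Algebra.IsIntegral.isIntegral _)
    have h2 : (P'.comap (algebraMap R A)).height < 1 := (Ideal.height_le_iff (n := 1)).mp hq _ inferInstance h1
    have h3 : P'.comap (algebraMap R A) = ⊥ := by
      by_contra h
      have hbot : (⊥ : Ideal R) < P'.comap (algebraMap R A) := bot_lt_iff_ne_bot.mpr h
      have := Ideal.height_strict_mono_of_isPrime hbot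
      rw [ENat.lt_one_iff_eq_zero.mp h2] at this
      exact not_lt_zero this
    have := Ideal.eq_bot_of_comap_eq_bot h3
    rw [this, Ideal.height_bot]; simp
  · rw [ENat.one_le_iff_ne_zero]
    intro h
    have hP0 : P ≠ ⊥ := fun h0 => hq0 (by
      rw [← hPq, h0]; exact Ideal.comap_bot_of_injective _ hinj)
    haveI : IsNoetherianRing A := IsNoetherianRing.of_finite R A
    have := Ideal.height_strict_mono_of_isPrime (bot_lt_iff_ne_bot.mpr hP0)
    rw [h] at this
    exact not_lt_zero this

theorem inertia_eq_of_comap_eq (hfix : ∀ a : A, (∀ h : H, h • a = a) → a ∈ Set.range (algebraMap R A))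
    (P P' : Ideal A) [P.IsPrime] [P'.IsPrime] (h : P.comap (algebraMap R A) = P'.comap (algebraMap R A)) :
    P'.inertia H = P.inertia H := by
  haveI : Algebra.IsInvariant R A H := ⟨fun b hb => hfix b hb⟩
  obtain ⟨g, rfl⟩ := Algebra.IsInvariant.exists_smul_of_under_eq R A H P P' h
  exact inertia_smul g P

end Groth.Agent.WQ8
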