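import Mathlib.RingTheory.PowerSeries.Order
import Mathlib.RingTheory.PowerSeries.Inverse
import Mathlib.RingTheory.PowerSeries.Trunc
import Mathlib.Algebra.CharP.Algebra
import Mathlib.Algebra.CharP.Lemmas
import Mathlib.Algebra.Module.LinearMap.End
import Mathlib.Algebra.Field.ZMod
import Mathlib.FieldTheory.Finite.Basic
import Mathlib.Algebra.Polynomial.Roots

/-! Order `p` automorphisms of `k[[u]]` and their ramification break. -/

set_option autoImplicit false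
set_option linter.style.haveILetI false
universe u

namespace Groth.Agent.WQ8.Break

open PowerSeries

variable {k : Type u} [Field k]

/-- `f` is `X ^ l` times a unit. -/
def HasOrd (f : k⟦X⟧) (l : ℕ) : Prop := ∃ e, f = X ^ l * e ∧ constantCoeff e ≠ 0

theorem HasOrd.order {f : k⟦X⟧} {l : ℕ} (h : HasOrd f l) : f.order = l := by
  obtain ⟨e, rfl, he⟩ := h
  rw [order_mul, order_X_pow, order_zero_of_unit (isUnit_iff_constantCoeff.mpr (isUnit_iff_ne_zero.mpr he)), add_zero]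

theorem HasOrd.unique {f : k⟦X⟧} {l l' : ℕ} (h : HasOrd f l) (h' : HasOrd f l') : l = l' := by
  exact_mod_cast h.order.symm.trans h'.order

theorem HasOrd.ne_zero {f : k⟦X⟧} {l : ℕ} (h : HasOrd f l) : f ≠ 0 := fun e => by
  have := h.order
  rw [e, order_zero] at this
  exact ENat.top_ne_natCast _ this

theorem HasOrd.mul {f g : k⟦X⟧} {l l' : ℕ} (h : HasOrd f l) (h' : HasOrd g l') : HasOrd (f * g) (l + l') := by
  obtain ⟨e, rfl, he⟩ := h
  obtain ⟨e', rfl, he'⟩ := h'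
  exact ⟨e * e', by rw [pow_add]; ring, by rw [map_mul]; exact mul_ne_zero he he'⟩

theorem HasOrd.pow {f : k⟦X⟧} {l : ℕ} (h : HasOrd f l) (N : ℕ) : HasOrd (f ^ N) (N * l) := by
  obtain ⟨e, rfl, he⟩ := h
  exact ⟨e ^ N, by rw [mul_pow, ← pow_mul, mul_comm l], by rw [map_pow]; exact pow_ne_zero _ he⟩

theorem exists_hasOrd {f : k⟦X⟧} (hf : f ≠ 0) : ∃ l, HasOrd f l :=
  ⟨f.order.toNat, divXPowOrder f, X_pow_order_mul_divXPowOrder.symm, fun h => hf (constantCoeff_divXPowOrder_eq_zero_iff.mp h)⟩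

theorem hasOrd_unit {f : k⟦X⟧} (h : constantCoeff f ≠ 0) : HasOrd f 0 := ⟨f, by simp, h⟩

theorem HasOrd.le_of_dvd {f : k⟦X⟧} {l N : ℕ} (h : HasOrd f l) (hd : X ^ N ∣ f) : N ≤ l := by
  obtain ⟨r, rfl⟩ := hd
  have h1 := le_order_mul ((X : k⟦X⟧) ^ N) r
  rw [h.order, order_X_pow] at h1
  exact_mod_cast le_self_add.trans h1

theorem hasOrd_of_order {f : k⟦X⟧} {l : ℕ} (h : f.order = (l : ℕ∞)) : HasOrd f l := by
  have hf : f ≠ 0 := fun e => by rw [e, order_zero] at h; exact ENat.top_ne_natCast _ h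
  obtain ⟨l', hl'⟩ := exists_hasOrd hf
  have : l' = l := by exact_mod_cast hl'.order.symm.trans h
  exact this ▸ hl'

variable {p : ℕ} [Fact p.Prime] [CharP k p] {σ : k⟦X⟧ ≃ₐ[k] k⟦X⟧} {m : ℕ}

omit [Fact p.Prime] [CharP k p] in
theorem sigma_X (hm : (σ X - X).order = ((m + 1 : ℕ) : ℕ∞)) :
    ∃ d, σ X = X * (1 + X ^ m * d) ∧ constantCoeff d ≠ 0 := by
  obtain ⟨d, hd, hd0⟩ := hasOrd_of_order hm
  exact ⟨d, by rw [eq_add_of_sub_eq hd]; ring, hd0⟩

omit [Fact p.Prime] [CharP k p] in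
theorem dvd_sigma_sub (hm : (σ X - X).order = ((m + 1 : ℕ) : ℕ∞)) (f : k⟦X⟧) : X ^ (m + 1) ∣ σ f - f := by
  obtain ⟨d, hd, -⟩ := hasOrd_of_order hm
  obtain ⟨e, he, -⟩ := sigma_X hm
  have hX : X ^ (m + 1) ∣ f - (trunc (m + 1) f : k⟦X⟧) := by
    rw [X_pow_dvd_iff]
    intro i hi
    rw [map_sub, Polynomial.coeff_coe, coeff_trunc, if_pos hi, sub_self]
  obtain ⟨r, hr⟩ := hX
  have hpoly : ∀ q : Polynomial k, X ^ (m + 1) ∣ σ (q : k⟦X⟧) - (q : k⟦X⟧) := by
    intro q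
    induction q using Polynomial.induction_on with
    | C c =>
      have hc : σ (C c) = C c := by rw [C_eq_algebraMap]; exact σ.commutes c
      simp [Polynomial.coe_C, hc]
    | add f g hf hg => rw [Polynomial.coe_add, map_add, add_sub_add_comm]; exact dvd_add hf hg
    | monomial n c ih =>
      rw [show Polynomial.C c * Polynomial.X ^ (n + 1) = Polynomial.C c * Polynomial.X ^ n * Polynomial.X by ring,
        Polynomial.coe_mul, map_mul, Polynomial.coe_X,
        show ∀ a : k⟦X⟧, σ a * σ X - a * X = (σ a - a) * σ X + a * (σ X - X) from fun a => by ring]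
      exact dvd_add (dvd_mul_of_dvd_left ih _) (dvd_mul_of_dvd_right (hd ▸ dvd_mul_right _ _) _)
  rw [show σ f - f = (σ (trunc (m + 1) f : k⟦X⟧) - (trunc (m + 1) f : k⟦X⟧)) + (σ (X ^ (m + 1) * r) - X ^ (m + 1) * r) by
    rw [← hr, map_sub]; ring]
  refine dvd_add (hpoly _) (dvd_sub ?_ (dvd_mul_right _ _))
  rw [map_mul, map_pow, he, mul_pow, mul_assoc]
  exact dvd_mul_right _ _

omit [Fact p.Prime] [CharP k p] in
theorem constantCoeff_sigma (hm : (σ X - X).order = ((m + 1 : ℕ) : ℕ∞)) (f : k⟦X⟧) : constantCoeff (σ f) = constantCoeff f := by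
  obtain ⟨r, hr⟩ := dvd_sigma_sub hm f
  rw [eq_add_of_sub_eq hr, map_add, map_mul, map_pow, constantCoeff_X, zero_pow (Nat.succ_ne_zero m), zero_mul, zero_add]

theorem one_le_break (hσp : σ ^ p = 1) (hm : (σ X - X).order = ((m + 1 : ℕ) : ℕ∞)) : 1 ≤ m := by
  by_contra h
  obtain rfl : m = 0 := by omega
  obtain ⟨d, hd, hd0⟩ := sigma_X hm
  rw [pow_zero, one_mul] at hd
  have hi : ∀ i : ℕ, ∃ e, (σ ^ i) X = X * e ∧ constantCoeff e = (1 + constantCoeff d) ^ i := by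
    intro i
    induction i with
    | zero => exact ⟨1, by simp, by simp⟩
    | succ i ih =>
      obtain ⟨e, he, he0⟩ := ih
      refine ⟨(1 + d) * σ e, ?_, ?_⟩
      · rw [pow_succ', AlgEquiv.mul_apply, he, map_mul, hd]; ring
      · rw [map_mul, map_add, map_one, constantCoeff_sigma hm, he0, pow_succ']
  obtain ⟨e, he, he0⟩ := hi p
  rw [hσp, AlgEquiv.one_apply] at he
  have he1 : e = 1 := mul_left_cancel₀ X_ne_zero (he.symm.trans (mul_one X).symm)
  rw [he1, map_one, add_pow_char, one_pow] at he0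
  exact hd0 (eq_zero_of_pow_eq_zero (n := p) (by linear_combination -he0))

omit [Fact p.Prime] [CharP k p] in
/-- The displacement of `X ^ l * e`. -/
theorem sigma_sub_eq (hm : (σ X - X).order = ((m + 1 : ℕ) : ℕ∞)) (hm1 : 1 ≤ m) (l : ℕ) (e : k⟦X⟧) :
    ∃ e', σ (X ^ l * e) - X ^ l * e = X ^ (l + m) * e' ∧
      ∃ c ≠ 0, constantCoeff e' = (l : k) * c * constantCoeff e := by
  obtain ⟨d, hd, hd0⟩ := sigma_X hm
  obtain ⟨r, hr⟩ := dvd_sigma_sub hm e
  have hb : ∀ j : ℕ, ∃ w, (1 + X ^ m * d) ^ j = 1 + (j : k⟦X⟧) * (X ^ m * d) + (X ^ m * d) ^ 2 * w := by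
    intro j
    induction j with
    | zero => exact ⟨0, by simp⟩
    | succ j ih =>
      obtain ⟨w, hw⟩ := ih
      exact ⟨(j : k⟦X⟧) + w * (1 + X ^ m * d), by rw [pow_succ, hw]; push_cast; ring⟩
  obtain ⟨w, hw⟩ := hb l
  refine ⟨(l : k⟦X⟧) * d * e + X ^ m * (d ^ 2 * w * e) + (1 + X ^ m * d) ^ l * (X * r), ?_, constantCoeff d, hd0, ?_⟩
  · rw [map_mul, map_pow, hd, mul_pow, eq_add_of_sub_eq hr, pow_succ, pow_add]
    linear_combination (X ^ l * e) * hw
  · simp [map_add, map_mul, map_pow, show m ≠ 0 by omega]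

omit [Fact p.Prime] in
theorem dvd_sigma_sub_of_dvd (hm : (σ X - X).order = ((m + 1 : ℕ) : ℕ∞)) (hm1 : 1 ≤ m) {f : k⟦X⟧} {L : ℕ} (hf : HasOrd f L)
    (hpL : p ∣ L) : X ^ (L + m + 1) ∣ σ f - f := by
  obtain ⟨e, rfl, -⟩ := hf
  obtain ⟨e', he', c, -, hc⟩ := sigma_sub_eq hm hm1 L e
  rw [(CharP.cast_eq_zero_iff k p L).mpr hpL, zero_mul, zero_mul, ← X_dvd_iff] at hc
  rw [he', pow_succ]
  exact mul_dvd_mul_left _ hc

omit [Fact p.Prime] in
theorem hasOrd_sigma_sub (hm : (σ X - X).order = ((m + 1 : ℕ) : ℕ∞)) (hm1 : 1 ≤ m) {f : k⟦X⟧} {L : ℕ} (hf : HasOrd f L)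
    (hpL : ¬ p ∣ L) : HasOrd (σ f - f) (L + m) := by
  obtain ⟨e, rfl, he⟩ := hf
  obtain ⟨e', he', c, hc0, hc⟩ := sigma_sub_eq hm hm1 L e
  exact ⟨e', he', by rw [hc]; exact mul_ne_zero (mul_ne_zero (fun h => hpL ((CharP.cast_eq_zero_iff k p L).mp h)) hc0) he⟩

omit [Fact p.Prime] in
theorem dvd_of_fixed (hm : (σ X - X).order = ((m + 1 : ℕ) : ℕ∞)) (hm1 : 1 ≤ m) {f : k⟦X⟧} {L : ℕ} (hf : HasOrd f L)
    (hfix : σ f = f) : p ∣ L := by
  by_contra h
  exact (hasOrd_sigma_sub (p := p) hm hm1 hf h).ne_zero (by rw [hfix, sub_self])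

omit [Fact p.Prime] [CharP k p] in
/-- The norm of the parameter. -/
theorem norm_X (hσp : σ ^ p = 1) (hm : (σ X - X).order = ((m + 1 : ℕ) : ℕ∞)) (hm1 : 1 ≤ m) :
    ∃ E : k⟦X⟧, constantCoeff E = 1 ∧ (∏ i ∈ Finset.range p, (σ ^ i) X) = X ^ p * E ∧
      σ (∏ i ∈ Finset.range p, (σ ^ i) X) = ∏ i ∈ Finset.range p, (σ ^ i) X := by
  obtain ⟨d, hd, -⟩ := sigma_X hm
  have hi : ∀ i : ℕ, ∃ e, (σ ^ i) X = X * e ∧ constantCoeff e = 1 := by
    intro i
    induction i with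
    | zero => exact ⟨1, by simp, by simp⟩
    | succ i ih =>
      obtain ⟨e, he, he0⟩ := ih
      refine ⟨(1 + X ^ m * d) * σ e, ?_, ?_⟩
      · rw [pow_succ', AlgEquiv.mul_apply, he, map_mul, hd]; ring
      · simp [map_mul, constantCoeff_sigma hm, he0, show m ≠ 0 by omega]
  choose e he he0 using hi
  refine ⟨∏ i ∈ Finset.range p, e i, by simp [map_prod, he0], ?_, ?_⟩
  · rw [Finset.prod_congr rfl (fun i _ => he i), Finset.prod_mul_distrib, Finset.prod_const, Finset.card_range]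
  · rcases p.eq_zero_or_pos with rfl | hp
    · simp
    obtain ⟨q, rfl⟩ : ∃ q, p = q + 1 := ⟨p - 1, by omega⟩
    rw [map_prod, Finset.prod_range_succ _ q, Finset.prod_range_succ' (fun i => (σ ^ i) X) q]
    simp only [← AlgEquiv.mul_apply, ← pow_succ', hσp, pow_zero]

/-- An element moved by a nonzero invariant, of order prime to `p`. -/
theorem exists_good (hσp : σ ^ p = 1) (hm : (σ X - X).order = ((m + 1 : ℕ) : ℕ∞)) :
    ∃ g a L, σ a = a ∧ σ g = g + a ∧ ¬ p ∣ L ∧ HasOrd g L ∧ HasOrd a (L + m) := by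
  classical
  have hp := (Fact.out : p.Prime)
  have hm1 := one_le_break hσp hm
  let S : Module.End k k⟦X⟧ := σ.toLinearMap
  let D : Module.End k k⟦X⟧ := S - 1
  haveI : CharP (Module.End k k⟦X⟧) p := charP_of_injective_algebraMap (algebraMap k (Module.End k k⟦X⟧)).injective p
  have hSp : ∀ i : ℕ, S ^ i = (σ ^ i).toLinearMap := by
    intro i
    induction i with
    | zero => ext x; simp
    | succ i ih => rw [pow_succ', ih, pow_succ']; ext x; simp [S, Module.End.mul_apply, AlgEquiv.mul_apply]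
  have hD : D ^ p = 0 := by
    rw [show D = S - 1 from rfl, sub_pow_char_of_commute p (Commute.one_right S), one_pow, hSp, hσp, sub_eq_zero]
    ext x; simp
  have hX0 : (D ^ 1) X ≠ 0 := by
    rw [pow_one]
    exact (hasOrd_of_order hm).ne_zero
  have hex : ∃ j, (D ^ (j + 1)) (X : k⟦X⟧) = 0 := ⟨p - 1, by rw [Nat.sub_add_cancel hp.one_le, hD]; rfl⟩
  let j := Nat.find hex
  have hj : (D ^ (j + 1)) (X : k⟦X⟧) = 0 := Nat.find_spec hex
  have hj1 : 1 ≤ j := by
    by_contra h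
    rw [show j = 0 by omega, zero_add] at hj
    exact hX0 hj
  let g₀ := (D ^ (j - 1)) (X : k⟦X⟧)
  let a := (D ^ j) (X : k⟦X⟧)
  have ha : a ≠ 0 := by
    have := Nat.find_min hex (show j - 1 < j by omega)
    rwa [Nat.sub_add_cancel hj1] at this
  have hga : σ g₀ = g₀ + a := by
    show _ = g₀ + (D ^ j) (X : k⟦X⟧)
    rw [show D ^ j = D * D ^ (j - 1) by rw [← pow_succ', Nat.sub_add_cancel hj1]]
    show σ g₀ = g₀ + (σ g₀ - g₀)
    ring
  have hafix : σ a = a := by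
    rw [pow_succ'] at hj
    exact sub_eq_zero.mp hj
  obtain ⟨M, hM⟩ := exists_hasOrd ha
  obtain ⟨E, hE0, hE, hEfix⟩ := norm_X hσp hm hm1
  have main : ∀ (N : ℕ) (g : k⟦X⟧) (L : ℕ), M - L = N → HasOrd g L → σ g = g + a →
      ∃ g' L', σ g' = g' + a ∧ ¬ p ∣ L' ∧ HasOrd g' L' ∧ HasOrd a (L' + m) := by
    intro N
    induction N using Nat.strong_induction_on with
    | _ N ih =>
      intro g L hN hg hga
      by_cases hpL : p ∣ L
      · obtain ⟨l, rfl⟩ := hpL
        obtain ⟨e, hge, he0⟩ := hg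
        have hlt : p * l + m + 1 ≤ M := hM.le_of_dvd (by
          have := dvd_sigma_sub_of_dvd (p := p) hm hm1 (f := g) ⟨e, hge, he0⟩ (dvd_mul_right p l)
          rwa [hga, add_sub_cancel_left] at this)
        let g' := g - C (constantCoeff e) * (∏ i ∈ Finset.range p, (σ ^ i) X) ^ l
        have hg'a : σ g' = g' + a := by
          have hC : σ (C (constantCoeff e)) = C (constantCoeff e) := by rw [C_eq_algebraMap]; exact σ.commutes _
          simp only [g', map_sub, map_mul, map_pow, hga, hEfix, hC]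
          ring
        have hdiv : X ^ (p * l + 1) ∣ g' := by
          simp only [g', hge, hE, mul_pow, ← pow_mul]
          rw [show X ^ (p * l) * e - C (constantCoeff e) * (X ^ (p * l) * E ^ l) = X ^ (p * l) * (e - C (constantCoeff e) * E ^ l) by ring, pow_succ]
          refine mul_dvd_mul_left _ (X_dvd_iff.mpr ?_)
          simp [hE0]
        have hg'0 : g' ≠ 0 := fun e0 => ha (by rw [e0, map_zero, zero_add] at hg'a; exact hg'a.symm)
        obtain ⟨L', hL'⟩ := exists_hasOrd hg'0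
        have := hL'.le_of_dvd hdiv
        exact ih (M - L') (by omega) g' L' rfl hL' hg'a
      · refine ⟨g, L, hga, hpL, hg, ?_⟩
        have := hasOrd_sigma_sub (p := p) hm hm1 hg hpL
        rwa [hga, add_sub_cancel_left] at this
  have hg0 : g₀ ≠ 0 := fun e0 => ha (by rw [e0, map_zero, zero_add] at hga; exact hga.symm)
  obtain ⟨L₀, hL₀⟩ := exists_hasOrd hg0
  obtain ⟨g, L, h1, h2, h3, h4⟩ := main _ g₀ L₀ rfl hL₀ hga
  exact ⟨g, a, L, hafix, h1, h2, h3, h4⟩

/-- `p` divides `m + 1` iff some uniformizer moves by an invariant. -/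
theorem dvd_iff (hσp : σ ^ p = 1) (hm : (σ X - X).order = ((m + 1 : ℕ) : ℕ∞)) :
    p ∣ m + 1 ↔ ∃ s a : k⟦X⟧, s.order = 1 ∧ σ a = a ∧ σ s = s + a := by
  have hp := (Fact.out : p.Prime)
  have hm1 := one_le_break hσp hm
  constructor
  · intro hdvd
    obtain ⟨g, a, L, hafix, hga, hpL, hg, haO⟩ := exists_good hσp hm
    have hM : p ∣ L + m := dvd_of_fixed hm hm1 haO hafix
    obtain ⟨q, hq⟩ := hM
    obtain ⟨q', hq'⟩ := hdvd
    obtain ⟨t, ht⟩ : ∃ t, L = p * t + 1 := by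
      have hge : q' ≤ q := by
        by_contra hlt
        have : p * (q + 1) ≤ p * q' := Nat.mul_le_mul_left p (by omega)
        rw [mul_add, mul_one] at this
        have hL0 : L ≠ 0 := fun h => hpL (h ▸ dvd_zero p)
        have := hp.two_le
        omega
      exact ⟨q - q', by rw [Nat.mul_sub]; have := Nat.mul_le_mul_left p hge; omega⟩
    obtain ⟨E, hE0, hE, hEfix⟩ := norm_X hσp hm hm1
    let x := ∏ i ∈ Finset.range p, (σ ^ i) (X : k⟦X⟧)
    have hE' : constantCoeff (E ^ t) ≠ 0 := by simp [hE0]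
    obtain ⟨e, hge, he0⟩ := hg
    obtain ⟨v, hv⟩ := isUnit_iff_constantCoeff.mpr (isUnit_iff_ne_zero.mpr hE')
    let s := X * (e * (↑v⁻¹ : k⟦X⟧))
    have hsx : s * x ^ t = g := by
      simp only [s, x, hE, mul_pow, ← pow_mul, ← hv, hge, ht, pow_succ]
      linear_combination (X ^ (p * t) * X * e) * Units.inv_mul v
    have hx0 : x ^ t ≠ 0 := (show HasOrd x p from ⟨E, hE, by rw [hE0]; exact one_ne_zero⟩).pow t |>.ne_zero
    have hs : HasOrd s 1 := ⟨e * (↑v⁻¹ : k⟦X⟧), by simp [s], by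
      rw [map_mul]; exact mul_ne_zero he0 ((v⁻¹.isUnit.map constantCoeff).ne_zero)⟩
    have hd : (σ s - s) * x ^ t = a := by
      have h1 := congrArg σ hsx
      rw [map_mul, map_pow, hEfix, hga] at h1
      linear_combination h1 - hsx
    refine ⟨s, σ s - s, by rw [hs.order]; rfl, mul_right_cancel₀ hx0 ?_, by ring⟩
    have h1 := congrArg σ hd
    rw [map_mul, map_pow, hEfix, hafix] at h1
    exact h1.trans hd.symm
  · rintro ⟨s, a, hs, ha, hsa⟩
    have hs' : HasOrd s 1 := hasOrd_of_order (by rw [hs]; rfl)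
    have h1 := hasOrd_sigma_sub (p := p) hm hm1 hs' (fun h => hp.one_lt.ne' (Nat.dvd_one.mp h))
    rw [hsa, add_sub_cancel_left, add_comm] at h1
    exact dvd_of_fixed hm hm1 h1 ha

/-- The conductor of an Artin–Schreier equation equals the break. -/
theorem conductor_eq (hσp : σ ^ p = 1) (hm : (σ X - X).order = ((m + 1 : ℕ) : ℕ∞))
    (f : k⟦X⟧) (hfσ : σ f = f) (hf0 : constantCoeff f ≠ 0) (μ : ℕ) (hμ : 0 < μ) (hpμ : ¬ p ∣ μ)
    (g a : k⟦X⟧) (ha : σ a = a) (ha0 : a ≠ 0)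
    (heq : (g ^ p - a ^ (p - 1) * g) * (∏ i ∈ Finset.range p, (σ ^ i) X) ^ μ = a ^ p * f) : μ = m := by
  classical
  have hp := (Fact.out : p.Prime)
  have hm1 := one_le_break hσp hm
  haveI : CharP k⟦X⟧ p := charP_of_injective_ringHom (f := (C : k →+* k⟦X⟧)) (C_injective) p
  obtain ⟨E, hE0, hE, hEfix⟩ := norm_X hσp hm hm1
  let x := ∏ i ∈ Finset.range p, (σ ^ i) (X : k⟦X⟧)
  have hx : HasOrd x p := ⟨E, hE, by rw [hE0]; exact one_ne_zero⟩
  obtain ⟨M, hM⟩ := exists_hasOrd ha0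
  have hrhs : HasOrd (a ^ p * f) (p * M) := by simpa using (hM.pow p).mul (hasOrd_unit hf0)
  have hg0 : g ≠ 0 := fun h => hrhs.ne_zero (by rw [← heq, h, zero_pow hp.ne_zero, mul_zero, sub_zero, zero_mul])
  obtain ⟨L, hL⟩ := exists_hasOrd hg0
  obtain ⟨eg, rfl, heg⟩ := hL
  obtain ⟨ea, rfl, hea⟩ := hM
  have hLM : L < M := by
    by_contra hle
    obtain ⟨q, rfl⟩ := Nat.exists_eq_add_of_le (not_lt.mp hle)
    have hd : X ^ (p * M + μ * p) ∣ (X ^ M * ea) ^ p * f := by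
      rw [← heq, hE, mul_pow (X ^ p) E μ, ← pow_mul, pow_add, mul_comm μ p]
      refine mul_dvd_mul ⟨X ^ (q * p) * eg ^ p - ea ^ (p - 1) * X ^ q * eg, ?_⟩ (dvd_mul_right _ _)
      obtain ⟨r, hr⟩ : ∃ r, p = r + 1 := ⟨p - 1, by have := hp.pos; omega⟩
      subst hr
      simp only [Nat.add_sub_cancel]
      ring
    have := hrhs.le_of_dvd hd
    have : 0 < μ * p := Nat.mul_pos hμ hp.pos
    omega
  have hlhs : HasOrd ((X ^ L * eg) ^ p - (X ^ M * ea) ^ (p - 1) * (X ^ L * eg)) (p * L) := by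
    obtain ⟨q, rfl⟩ := Nat.exists_eq_add_of_lt hLM
    obtain ⟨r, hr⟩ : ∃ r, p = r + 2 := ⟨p - 2, by have := hp.two_le; omega⟩
    refine ⟨eg ^ p - X ^ ((q + 1) * (p - 1)) * ea ^ (p - 1) * eg, ?_, ?_⟩
    · subst hr
      rw [show r + 2 - 1 = r + 1 by omega]
      ring
    · subst hr
      simp [show r + 2 - 1 = r + 1 by omega, heg]
  have hord : p * L + μ * p = p * M := (hlhs.mul (hx.pow μ)).unique (heq ▸ hrhs)
  have hML : M = L + μ := Nat.eq_of_mul_eq_mul_left hp.pos (by rw [mul_add, mul_comm p μ, ← hord])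
  have hpM : p ∣ M := dvd_of_fixed hm hm1 (⟨ea, rfl, hea⟩ : HasOrd (X ^ M * ea) M) ha
  have hpL : ¬ p ∣ L := fun h => hpμ ((Nat.dvd_add_right h).mp (hML ▸ hpM))
  have hdiff := hasOrd_sigma_sub (p := p) hm hm1 (⟨eg, rfl, heg⟩ : HasOrd (X ^ L * eg) L) hpL
  have hMord : HasOrd (X ^ M * ea) M := ⟨ea, rfl, hea⟩
  generalize hG : X ^ L * eg = g at *
  generalize hA : X ^ M * ea = a at *
  have heq' : (σ g ^ p - a ^ (p - 1) * σ g) * x ^ μ = a ^ p * f := by
    have h1 := congrArg σ heq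
    simpa only [map_mul, map_sub, map_pow, ha, hfσ, hEfix] using h1
  have hroot : (σ g - g) ^ p = a ^ (p - 1) * (σ g - g) := by
    have h1 := mul_right_cancel₀ ((hx.pow μ).ne_zero) (heq'.trans heq.symm)
    rw [sub_pow_char]
    linear_combination h1
  obtain ⟨c, hc⟩ : ∃ c : ZMod p, ZMod.castHom dvd_rfl k⟦X⟧ c * a = σ g - g := by
    by_contra hne
    simp only [not_exists] at hne
    let z := ZMod.castHom (dvd_refl p) k⟦X⟧
    let P : Polynomial k⟦X⟧ := Polynomial.X ^ p - Polynomial.C (a ^ (p - 1)) * Polynomial.X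
    have hnd : P.natDegree = p := by
      rw [Polynomial.natDegree_sub_eq_left_of_natDegree_lt] <;> rw [Polynomial.natDegree_X_pow]
      exact (Polynomial.natDegree_C_mul_le _ _).trans_lt (by rw [Polynomial.natDegree_X]; exact hp.one_lt)
    have hP0 : P ≠ 0 := fun e0 => hp.ne_zero (by rw [← hnd, e0, Polynomial.natDegree_zero])
    have hsub : insert (σ g - g) (Finset.univ.image fun c => z c * a) ⊆ P.roots.toFinset := by
      intro y hy
      rw [Multiset.mem_toFinset, Polynomial.mem_roots hP0]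
      simp only [P, Polynomial.IsRoot, Polynomial.eval_sub, Polynomial.eval_mul, Polynomial.eval_pow, Polynomial.eval_X, Polynomial.eval_C]
      rcases Finset.mem_insert.mp hy with rfl | hy
      · rw [hroot, sub_self]
      · obtain ⟨c, -, rfl⟩ := Finset.mem_image.mp hy
        rw [mul_pow, ← map_pow z, ZMod.pow_card, mul_left_comm, ← pow_succ, Nat.sub_add_cancel hp.one_le, sub_self]
    have hcard := (Finset.card_le_card hsub).trans ((Multiset.toFinset_card_le _).trans (Polynomial.card_roots' _))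
    rw [Finset.card_insert_of_notMem (fun h => by obtain ⟨c, -, hc⟩ := Finset.mem_image.mp h; exact hne c hc), Finset.card_image_of_injective _ (fun c d e0 =>
      z.injective (mul_right_cancel₀ ha0 e0)), Finset.card_univ, ZMod.card, hnd] at hcard
    omega
  have hc0 : c ≠ 0 := fun e => hdiff.ne_zero (by rw [← hc, e, map_zero, zero_mul])
  obtain ⟨cu, hcu⟩ := ((isUnit_iff_ne_zero.mpr hc0).map (ZMod.castHom dvd_rfl k⟦X⟧))
  have hdiff' : HasOrd (σ g - g) (0 + M) := hc ▸ (hasOrd_unit ((hcu ▸ cu.isUnit).map constantCoeff).ne_zero).mul hMord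
  have := hdiff.unique hdiff'
  omega

end Groth.Agent.WQ8.Break
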