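import Mathlib
import Groth.Agent.CMFlat.Algebra
import Groth.Agent.Topo.IntegralDim
import Groth.Agent.S0565

set_option autoImplicit false
universe u v

open scoped TensorProduct
open IsLocalRing

namespace Groth.Agent.WQ8

theorem dim_le_of_integral {R T : Type u} [CommRing R] [CommRing T] [Algebra R T]
    [Algebra.IsIntegral R T] (hinj : Function.Injective (algebraMap R T)) : ringKrullDim R ≤ ringKrullDim T := by
  rw [← PrimeSpectrum.topologicalKrullDim_eq_ringKrullDim T, ← PrimeSpectrum.topologicalKrullDim_eq_ringKrullDim R]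
  refine Topo.IntegralDim.dim_ge _ (PrimeSpectrum.isClosedMap_comap_of_isIntegral _ (algebraMap_isIntegral_iff.mpr inferInstance))
    (PrimeSpectrum.continuous_comap _) fun p => ?_
  obtain ⟨Q, -, hQ, hc⟩ := Ideal.exists_ideal_over_prime_of_isIntegral p.asIdeal (⊥ : Ideal T) (by
    rw [← RingHom.ker_eq_comap_bot, (RingHom.injective_iff_ker_eq_bot _).mp hinj]; exact bot_le)
  exact ⟨⟨Q, hQ⟩, PrimeSpectrum.ext hc⟩

theorem free_of_regular_same {R A : Type u} [CommRing R] [IsRegularLocalRing R] [CommRing A] [IsRegularLocalRing A]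
    [Algebra R A] [Module.Finite R A] (hinj : Function.Injective (algebraMap R A)) : Module.Free R A := by
  haveI : IsLocalHom (algebraMap R A) := ⟨fun a ha => by
    by_contra hna
    obtain ⟨Q, -, hQp, hQ⟩ := Ideal.exists_ideal_over_prime_of_isIntegral (maximalIdeal R) (⊥ : Ideal A) (by
      rw [← RingHom.ker_eq_comap_bot, (RingHom.injective_iff_ker_eq_bot _).mp hinj]; exact bot_le)
    exact hQp.ne_top (Ideal.eq_top_of_isUnit_mem Q (show algebraMap R A a ∈ Q from Ideal.mem_comap.mp (hQ.symm ▸ hna)) ha)⟩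
  haveI : LocCoh.IsCohenMacaulayLocalRing A := CMFlat.Algebra.cm_of_flat (R := A) (S := A) (by
    rw [Algebra.algebraMap_self, Ideal.map_id]; exact Ideal.le_radical)
  have hprim : maximalIdeal A ≤ ((maximalIdeal R).map (algebraMap R A)).radical := by
    rw [Ideal.radical_eq_sInf]
    refine le_sInf fun P hP => ?_
    haveI := hP.2
    have hc : P.comap (algebraMap R A) = maximalIdeal R := le_antisymm
      (le_maximalIdeal (Ideal.comap_ne_top _ hP.2.ne_top)) (Ideal.map_le_iff_le_comap.mp hP.1)
    haveI : (P.comap (algebraMap R A)).IsMaximal := hc ▸ inferInstance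
    rw [IsLocalRing.eq_maximalIdeal (Ideal.isMaximal_of_isIntegral_of_isMaximal_comap (R := R) P inferInstance)]
  haveI : Module.Flat R A := CMFlat.Algebra.flat_of_cm hprim (dim_le_of_integral hinj)
  exact Module.free_of_flat_of_isLocalRing

theorem free_of_regular {R : Type u} {A : Type v} [CommRing R] [IsRegularLocalRing R] [CommRing A] [IsRegularLocalRing A]
    [Algebra R A] [Module.Finite R A] (hinj : Function.Injective (algebraMap R A)) : Module.Free R A := by
  let R' := ULift.{v} R
  let A' := ULift.{u} A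
  haveI : IsRegularLocalRing R' := IsRegularLocalRing.of_ringEquiv ULift.ringEquiv.symm
  haveI : IsRegularLocalRing A' := IsRegularLocalRing.of_ringEquiv ULift.ringEquiv.symm
  letI : Algebra R' A' := ((ULift.ringEquiv.symm.toRingHom.comp (algebraMap R A)).comp ULift.ringEquiv.toRingHom).toAlgebra
  haveI hfin : @Module.Finite R' A' _ _ Algebra.toModule :=
    Module.Finite.of_equiv_equiv (A₁ := R) (B₁ := A) (A₂ := R') (B₂ := A') ULift.ringEquiv.symm ULift.ringEquiv.symm rfl
  have hfree : @Module.Free R' A' _ _ Algebra.toModule :=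
    @free_of_regular_same R' A' _ _ _ _ _ hfin (fun a b h => ULift.ext _ _ (hinj (congrArg ULift.down h)))
  let b := @Module.Free.chooseBasis R' A' _ _ Algebra.toModule hfree
  letI : Module R' A' := Algebra.toModule
  refine Module.Free.of_basis ((b.mapCoeffs (ULift.ringEquiv : R' ≃+* R) fun c x => ?_).map (ULift.moduleEquiv : A' ≃ₗ[R] A))
  apply ULift.ext
  show c.down • x.down = algebraMap R A c.down * x.down
  rw [Algebra.smul_def]

theorem exists_functional_one {R : Type u} [CommRing R] [IsLocalRing R] {A : Type v} [CommRing A] [IsLocalRing A]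
    [Algebra R A] [IsLocalHom (algebraMap R A)] [Module.Free R A] : ∃ ε : A →ₗ[R] R, ε 1 = 1 := by
  classical
  let b := Module.Free.chooseBasis R A
  obtain ⟨k, hk⟩ : ∃ k, IsUnit (b.repr 1 k) := by
    by_contra hn
    simp only [not_exists] at hn
    have h1 : (1 : A) ∈ maximalIdeal A := by
      rw [← b.linearCombination_repr 1, Finsupp.linearCombination_apply, Finsupp.sum]
      refine sum_mem fun k _ => ?_
      rw [Algebra.smul_def]
      exact Ideal.mul_mem_right _ _ (fun hu => hn k (isUnit_of_map_unit (algebraMap R A) _ hu))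
    exact h1 isUnit_one
  obtain ⟨u, hu⟩ := hk
  exact ⟨(↑u⁻¹ : R) • b.coord k, by rw [LinearMap.smul_apply, Module.Basis.coord_apply, ← hu, smul_eq_mul, Units.inv_mul]⟩

theorem free_and_regular_of_coproduct {R : Type u} [CommRing R] [IsRegularLocalRing R] {A : Type v} [CommRing A]
    [IsRegularLocalRing A] [Algebra R A] [Module.Finite R A] (hinj : Function.Injective (algebraMap R A))
    {n : ℕ} (B : Fin n → Subalgebra R A)
    (hcoprod : ∀ (C : Type (max u v)) [CommRing C] [Algebra R C] (φ : ∀ i : Fin n, B i →ₐ[R] C),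
      ∃! ψ : A →ₐ[R] C, ∀ i (x : B i), ψ x = φ i x) (i : Fin n) :
    Module.Free R (B i) ∧ IsRegularLocalRing (B i) := by
  classical
  haveI : IsLocalHom (algebraMap R A) := ⟨fun a ha => by
    by_contra hna
    obtain ⟨Q, -, hQp, hQ⟩ := Ideal.exists_ideal_over_prime_of_isIntegral (maximalIdeal R) (⊥ : Ideal A) (by
      rw [← RingHom.ker_eq_comap_bot, (RingHom.injective_iff_ker_eq_bot _).mp hinj]; exact bot_le)
    exact hQp.ne_top (Ideal.eq_top_of_isUnit_mem Q (show algebraMap R A a ∈ Q from Ideal.mem_comap.mp (hQ.symm ▸ hna)) ha)⟩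
  haveI := free_of_regular hinj
  obtain ⟨ε, hε⟩ := exists_functional_one (R := R) (A := A)
  let C : Subalgebra R A := ⨆ j ∈ (Finset.univ.erase i : Finset (Fin n)), B j
  let T := B i ⊗[R] C
  let φ : ∀ j, B j →ₐ[R] T := fun j =>
    if h : j = i then (Algebra.TensorProduct.includeLeft : B i →ₐ[R] T).comp (Subalgebra.inclusion (h ▸ le_rfl))
    else (Algebra.TensorProduct.includeRight : C →ₐ[R] T).comp
      (Subalgebra.inclusion (le_iSup₂_of_le j (Finset.mem_erase.mpr ⟨h, Finset.mem_univ j⟩) le_rfl))
  obtain ⟨ψ', hψ', -⟩ := hcoprod (ULift.{u} T) fun j => ULift.algEquiv.symm.toAlgHom.comp (φ j)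
  let ψ : A →ₐ[R] T := ULift.algEquiv.toAlgHom.comp ψ'
  have hψi : ∀ x : B i, ψ x = x ⊗ₜ 1 := fun x => by
    show (ψ' x).down = _
    rw [hψ' i x]; simp [φ]; rfl
  let μ : T →ₐ[R] A := Algebra.TensorProduct.productMap (B i).val C.val
  have hleft : μ.comp ψ = AlgHom.id R A := by
    obtain ⟨χ, -, huniq⟩ := hcoprod (ULift.{u} A) fun j => ULift.algEquiv.symm.toAlgHom.comp (B j).val
    have h1 := huniq (ULift.algEquiv.symm.toAlgHom.comp (μ.comp ψ)) fun j x => by
      show ULift.up (μ (ψ' x).down) = ULift.up (x : A)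
      congr 1
      rw [hψ' j x]
      show μ (φ j x) = _
      by_cases h : j = i
      · simp only [φ, dif_pos h, AlgHom.comp_apply, μ, Algebra.TensorProduct.includeLeft_apply]
        rw [Algebra.TensorProduct.productMap_apply_tmul]; simp
      · simp only [φ, dif_neg h, AlgHom.comp_apply, μ, Algebra.TensorProduct.includeRight_apply]
        rw [Algebra.TensorProduct.productMap_apply_tmul]; simp
    have h2 := huniq (ULift.algEquiv.symm.toAlgHom.comp (AlgHom.id R A)) fun j x => rfl
    exact AlgHom.ext fun a => congrArg ULift.down (AlgHom.congr_fun (h1.trans h2.symm) a)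
  have hψC : ∀ c : C, ψ c = 1 ⊗ₜ c := by
    let E : Subalgebra R C := AlgHom.equalizer (ψ.comp C.val) Algebra.TensorProduct.includeRight
    have : C ≤ E.map C.val := iSup₂_le fun j hj x hx => by
      have hle : B j ≤ C := le_iSup₂_of_le j hj le_rfl
      refine ⟨⟨x, hle hx⟩, ?_, rfl⟩
      show (ψ' x).down = _
      rw [hψ' j ⟨x, hx⟩]
      simp [φ, Finset.ne_of_mem_erase hj]
      rfl
    intro c
    obtain ⟨c', hc', he⟩ := this c.2
    rw [show c = c' from Subtype.ext he.symm]
    exact hc'
  have hright : ψ.comp μ = AlgHom.id R T := Algebra.TensorProduct.ext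
    (AlgHom.ext fun x => by
      show ψ (μ (x ⊗ₜ (1 : C))) = x ⊗ₜ (1 : C)
      rw [show μ (x ⊗ₜ (1 : C)) = (x : A) by simp only [μ]; rw [Algebra.TensorProduct.productMap_apply_tmul]; simp]
      exact hψi x)
    (AlgHom.ext fun c => by
      show ψ (μ ((1 : B i) ⊗ₜ c)) = (1 : B i) ⊗ₜ c
      rw [show μ ((1 : B i) ⊗ₜ c) = (c : A) by simp only [μ]; rw [Algebra.TensorProduct.productMap_apply_tmul]; simp]
      exact hψC c)
  let π : A →ₗ[R] B i := (TensorProduct.rid R (B i)).toLinearMap ∘ₗ
    TensorProduct.map LinearMap.id (ε ∘ₗ C.val.toLinearMap) ∘ₗ ψ.toLinearMap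
  haveI : Module.Projective R (B i) := Module.Projective.of_split (B i).val.toLinearMap π
    (LinearMap.ext fun x => by simp [π, hψi, hε])
  let π' : A →ₗ[R] C := (TensorProduct.lid R C).toLinearMap ∘ₗ
    TensorProduct.map (ε ∘ₗ (B i).val.toLinearMap) LinearMap.id ∘ₗ ψ.toLinearMap
  haveI : Module.Projective R C := Module.Projective.of_split C.val.toLinearMap π'
    (LinearMap.ext fun x => by simp [π', hψC, hε])
  haveI : Module.Finite R (B i) := Module.Finite.of_injective (B i).val.toLinearMap Subtype.val_injective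
  refine ⟨Module.free_of_flat_of_isLocalRing, ?_⟩
  haveI : Algebra.IsIntegral (B i) A := Algebra.IsIntegral.tower_top R
  haveI : IsLocalHom (algebraMap (B i) A) := ⟨fun a ha => by
    by_contra hna
    obtain ⟨m, hm, ham⟩ := exists_max_ideal_of_mem_nonunits hna
    obtain ⟨Q, -, hQp, hQ⟩ := Ideal.exists_ideal_over_prime_of_isIntegral m (⊥ : Ideal A) (by
      rw [← RingHom.ker_eq_comap_bot, (RingHom.injective_iff_ker_eq_bot _).mp Subtype.val_injective]; exact bot_le)
    exact hQp.ne_top (Ideal.eq_top_of_isUnit_mem Q (show algebraMap (B i) A a ∈ Q from Ideal.mem_comap.mp (hQ.symm ▸ ham)) ha)⟩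
  haveI : IsLocalRing (B i) := RingHom.domain_isLocalRing (algebraMap (B i) A)
  haveI : IsNoetherianRing (B i) := IsNoetherianRing.of_finite R (B i)
  let e : T ≃ₐ[R] A := AlgEquiv.ofAlgHom μ ψ hleft hright
  let eB : T ≃ₗ[B i] A :=
    { e.toLinearEquiv.toAddEquiv with
      map_smul' := fun b t => by
        show μ (b • t) = (b : A) * μ t
        induction t using TensorProduct.induction_on with
        | zero => simp
        | tmul x c =>
          rw [TensorProduct.smul_tmul']; simp only [μ]
          rw [Algebra.TensorProduct.productMap_apply_tmul, Algebra.TensorProduct.productMap_apply_tmul]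
          exact mul_assoc _ _ _
        | add x y hx hy => rw [smul_add, map_add, map_add, hx, hy, mul_add] }
  haveI : Module.Flat (B i) A := Module.Flat.of_linearEquiv eB.symm
  exact Groth.Agent.S0565.result (B i) A

end Groth.Agent.WQ8
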