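import Groth.Agent.WQ8.ASFamily

set_option autoImplicit false
set_option linter.style.haveILetI false
universe u

namespace Groth.Agent.WQ8

open IsLocalRing MvPolynomial
open scoped TensorProduct

namespace IsAS

variable {p : ℕ} [Fact p.Prime] {k : Type u} [Field k] {n : ℕ} {a : Fin n → MvPowerSeries (Fin n) k}
  {A : Type u} [CommRing A] [Algebra (MvPowerSeries (Fin n) k) A] {u : Fin n → A}

theorem displacement (h : IsAS p a u) (σ : A ≃ₐ[MvPowerSeries (Fin n) k] A)
    (hσ : ∀ i, σ (u i) = u i + algebraMap (MvPowerSeries (Fin n) k) A (a i)) :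
    Ideal.span (Set.range fun t : A => σ t - t) = (Ideal.span (Set.range a)).map (algebraMap (MvPowerSeries (Fin n) k) A) := by
  refine le_antisymm (Ideal.span_le.mpr (Set.range_subset_iff.mpr fun t => ?_)) ?_
  · obtain ⟨q, rfl⟩ := h.surj t
    show σ _ - _ ∈ _
    induction q using MvPolynomial.induction_on with
    | C r => rw [aeval_C, σ.commutes, sub_self]; exact zero_mem _
    | add f g hf hg => rw [map_add, map_add, add_sub_add_comm]; exact add_mem hf hg
    | mul_X f i hf =>
      rw [map_mul, aeval_X, map_mul, hσ, mul_add, add_sub_right_comm, ← sub_mul]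
      exact add_mem (Ideal.mul_mem_right _ _ hf) (Ideal.mul_mem_left _ _ (Ideal.mem_map_of_mem _ (Ideal.subset_span ⟨i, rfl⟩)))
  · rw [Ideal.map_span, Ideal.span_le]
    rintro _ ⟨_, ⟨i, rfl⟩, rfl⟩
    exact Ideal.subset_span ⟨u i, by show σ (u i) - u i = _; rw [hσ]; ring⟩

theorem map_le_pow (h : IsAS p a u) :
    (Ideal.span (Set.range a)).map (algebraMap (MvPowerSeries (Fin n) k) A) ≤ Ideal.span (Set.range u) ^ p := by
  have hle : Ideal.span (Set.range a) ≤ maximalIdeal (MvPowerSeries (Fin n) k) := Ideal.span_le.mpr (Set.range_subset_iff.mpr fun i => by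
    rw [SetLike.mem_coe, IsLocalRing.mem_maximalIdeal, mem_nonunits_iff, MvPowerSeries.isUnit_iff_constantCoeff, h.cc i]; exact not_isUnit_zero)
  refine (Ideal.map_mono hle).trans ?_
  rw [h.map_max_eq, Ideal.span_le]
  exact Set.range_subset_iff.mpr fun i => Ideal.pow_mem_pow (I := Ideal.span (Set.range u)) (Ideal.subset_span ⟨i, rfl⟩) p

theorem length_quotient_map (h : IsAS p a u) (J : Ideal (MvPowerSeries (Fin n) k)) :
    Module.length A (A ⧸ J.map (algebraMap (MvPowerSeries (Fin n) k) A)) =
      (p ^ n : ℕ) * Module.length (MvPowerSeries (Fin n) k) (MvPowerSeries (Fin n) k ⧸ J) := by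
  classical
  let R := MvPowerSeries (Fin n) k
  obtain ⟨hreg, hM, -⟩ := h.structure_
  haveI := h.finite
  obtain ⟨hfree, hrank⟩ := h.free_finrank
  haveI : IsRegularLocalRing R := Misc9.SF.ps_isRegularLocalRing n
  haveI : IsLocalHom (algebraMap R A) := ⟨fun r hr => by
    by_contra hnr
    exact (maximalIdeal.isMaximal A).ne_top (Ideal.eq_top_of_isUnit_mem _ (hM ▸ h.map_max_le (Ideal.mem_map_of_mem _ hnr)) hr)⟩
  have hκ : Function.Surjective (algebraMap (ResidueField R) (ResidueField A)) := fun z => by
    obtain ⟨y, rfl⟩ := Ideal.Quotient.mk_surjective z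
    obtain ⟨c, hc⟩ := h.exists_const y
    refine ⟨residue R (MvPowerSeries.C c), ?_⟩
    refine (Ideal.Quotient.eq.mpr ?_).symm
    rw [hM]; exact hc
  have h1 := IsLocalRing.length_restrictScalars R A (A ⧸ J.map (algebraMap R A))
  rw [show Module.length (ResidueField R) (ResidueField A) = 1 by
    rw [Module.length_eq_of_surjective (M := ResidueField A) hκ]
    haveI : IsSimpleModule (ResidueField A) (ResidueField A) := inferInstance
    exact Module.length_eq_one _ _, mul_one] at h1
  rw [← h1]
  let b := Module.finBasisOfFinrankEq R A hrank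
  let e : (A ⧸ J.map (algebraMap R A)) ≃ₗ[R] (Fin (p ^ n) → R ⧸ J) :=
    ((TensorProduct.quotTensorEquivQuotSMul A J).trans
      ((Submodule.quotEquivOfEq _ ((J.map (algebraMap R A)).restrictScalars R) (Ideal.smul_top_eq_map J)).trans
        (Submodule.Quotient.restrictScalarsEquiv R (J.map (algebraMap R A))))).symm.trans
      ((TensorProduct.congr (LinearEquiv.refl R (R ⧸ J)) b.equivFun).trans
        (TensorProduct.piScalarRight R R (R ⧸ J) (Fin (p ^ n))))
  rw [e.length_eq, Module.length_pi_of_fintype, Finset.sum_const, Finset.card_univ, Fintype.card_fin, nsmul_eq_mul]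

end IsAS

end Groth.Agent.WQ8
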