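import Mathlib

set_option autoImplicit false
universe u

namespace Groth.Agent.WQ8

theorem exists_bad_prime {R : Type u} [CommRing R] [IsDomain R] [IsNoetherianRing R] [IsIntegrallyClosed R] {ρ c : R}
    (hρ : ρ ≠ 0) (h : ¬ ρ ∣ c) : ∃ q : Ideal R, q.IsPrime ∧ q.height ≤ 1 ∧ ∀ s, ρ ∣ s * c → s ∈ q := by
  classical
  let M := R ⧸ Ideal.span {ρ}
  have h0 : Ideal.Quotient.mk (Ideal.span {ρ}) c ≠ 0 := fun h0 => h (Ideal.mem_span_singleton.mp (Ideal.Quotient.eq_zero_iff_mem.mp h0))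
  obtain ⟨q, hq, hle⟩ := exists_le_isAssociatedPrime_of_isNoetherianRing R (Ideal.Quotient.mk (Ideal.span {ρ}) c) h0
  rw [isAssociatedPrime_iff] at hq
  obtain ⟨hqp, y, hy⟩ := hq
  obtain ⟨c', rfl⟩ := Ideal.Quotient.mk_surjective y
  have mem : ∀ (d s : R), s ∈ (⊥ : Submodule R M).colon {Ideal.Quotient.mk (Ideal.span {ρ}) d} ↔ ρ ∣ s * d := by
    intro d s
    rw [Submodule.mem_colon_singleton, Submodule.mem_bot]
    show Ideal.Quotient.mk (Ideal.span {ρ}) (s * d) = 0 ↔ _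
    rw [Ideal.Quotient.eq_zero_iff_mem, Ideal.mem_span_singleton]
  have hmem : ∀ s, s ∈ q ↔ ρ ∣ s * c' := fun s => by rw [hy]; exact mem c' s
  have hc' : ¬ ρ ∣ c' := fun hd => hqp.ne_top ((Ideal.eq_top_iff_one q).mpr ((hmem 1).mpr (by rwa [one_mul])))
  refine ⟨q, hqp, ?_, fun s hs => hle ((mem c s).mpr hs)⟩
  choose f hf using fun r : q => (hmem r).mp r.2
  by_cases hall : ∀ r, f r ∈ q
  · exfalso
    let K := FractionRing R
    have hρK : algebraMap R K ρ ≠ 0 := by simpa using hρ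
    have hqb : q ≠ ⊥ := fun hb => by
      have : ρ ∈ q := (hmem ρ).mpr (dvd_mul_right _ _)
      rw [hb, Ideal.mem_bot] at this
      exact hρ this
    let N : Submodule R K := Submodule.map (Algebra.linearMap R K) q
    have hNb : N ≠ ⊥ := fun hb => hqb (Submodule.map_injective_of_injective (f := Algebra.linearMap R K) (IsFractionRing.injective R K) (hb.trans (Submodule.map_bot _).symm))
    have hx : IsIntegral R (algebraMap R K c' / algebraMap R K ρ) := by
      refine isIntegral_of_smul_mem_submodule N hNb ((IsNoetherian.noetherian q).map _) _ ?_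
      rintro _ ⟨r, hr, rfl⟩
      refine ⟨f ⟨r, hr⟩, hall _, ?_⟩
      show algebraMap R K (f ⟨r, hr⟩) = (algebraMap R K c' / algebraMap R K ρ) * algebraMap R K r
      rw [eq_comm, div_mul_eq_mul_div, div_eq_iff hρK, ← map_mul, ← map_mul]
      exact congrArg _ (by rw [mul_comm c', hf ⟨r, hr⟩, mul_comm])
    obtain ⟨z, hz⟩ := IsIntegrallyClosed.isIntegral_iff.mp hx
    rw [eq_div_iff hρK, ← map_mul] at hz
    exact hc' ⟨z, by rw [← (IsFractionRing.injective R K) hz, mul_comm]⟩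
  · simp only [not_forall] at hall
    obtain ⟨r0, hu⟩ := hall
    have key : ∀ r : q, (r : R) * f r0 = (r0 : R) * f r := fun r => mul_left_cancel₀ hρ (by
      rw [mul_left_comm, ← hf r0, mul_left_comm ρ, ← hf r]; ring)
    haveI := hqp
    have hmin : q ∈ (Ideal.span {(r0 : R)}).minimalPrimes := by
      refine ⟨⟨hqp, (Ideal.span_singleton_le_iff_mem _).mpr r0.2⟩, ?_⟩
      rintro q' ⟨hq'p, hq'⟩ hle' r hr
      have : r * f r0 ∈ q' := by
        rw [key ⟨r, hr⟩]
        exact q'.mul_mem_right _ (hq' (Ideal.mem_span_singleton_self _))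
      exact (hq'p.mem_or_mem this).resolve_right fun hu' => hu (hle' hu')
    exact Ideal.height_le_one_of_isPrincipal_of_mem_minimalPrimes _ q hmin

theorem dvd_of_locally {R : Type u} [CommRing R] [IsDomain R] [IsNoetherianRing R] [IsIntegrallyClosed R] {ρ c : R}
    (hρ : ρ ≠ 0) (h : ∀ q : Ideal R, q.IsPrime → q.height ≤ 1 → ∃ s ∉ q, ρ ∣ s * c) : ρ ∣ c := by
  by_contra hn
  obtain ⟨q, hq, hh, hall⟩ := exists_bad_prime hρ hn
  obtain ⟨s, hs, hd⟩ := h q hq hh
  exact hs (hall s hd)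

end Groth.Agent.WQ8
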