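import Groth.Agent.WQ8.Coproduct
import Groth.Agent.WQ8.Normal
import Groth.Agent.RegularLocal.Normal

set_option autoImplicit false
universe u

namespace Groth.Agent.WQ8

/-- `A` as a module over itself through the Frobenius -/
@[nolint unusedArguments]
def Frob (A : Type u) (_p : ℕ) : Type u := A

instance (A : Type u) [CommRing A] (p : ℕ) : CommRing (Frob A p) := inferInstanceAs (CommRing A)
instance (A : Type u) [CommRing A] (p : ℕ) [ExpChar A p] : Algebra A (Frob A p) := (frobenius A p).toAlgebra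

theorem frob_smul {A : Type u} [CommRing A] (p : ℕ) [ExpChar A p] (a : A) (x : Frob A p) : a • x = (a ^ p : A) * (show A from x) := rfl

theorem flat_frob (A : Type u) [CommRing A] [IsRegularLocalRing A] (p : ℕ) [Fact p.Prime] [CharP A p] :
    Module.Flat A (Frob A p) := by
  haveI : IsRegularLocalRing (Frob A p) := inferInstanceAs (IsRegularLocalRing A)
  haveI : LocCoh.IsCohenMacaulayLocalRing (Frob A p) :=
    CMFlat.Algebra.cm_of_flat (R := Frob A p) (S := Frob A p) (by rw [Algebra.algebraMap_self, Ideal.map_id]; exact Ideal.le_radical)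
  haveI : IsLocalHom (algebraMap A (Frob A p)) := ⟨fun a ha => (isUnit_pow_iff (Fact.out : p.Prime).ne_zero).mp
    (show IsUnit (a ^ p) from ha)⟩
  refine CMFlat.Algebra.flat_of_cm ?_ (le_of_eq rfl)
  intro x hx
  exact ⟨p, Ideal.mem_map_of_mem (algebraMap A (Frob A p)) (show (x : A) ∈ IsLocalRing.maximalIdeal A from hx)⟩

section

variable {A : Type u} [CommRing A] [IsRegularLocalRing A] (p : ℕ) [Fact p.Prime] [CharP A p]

include p in
/-- the key step: a Frobenius fixed class vanishes -/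
theorem mem_span_pair_of_pow (x y a e : A) (hxy : x ≠ 0) (ha : a ^ p - (x * y) ^ (p - 1) * a = e)
    (he : e ∈ Ideal.span {x ^ p, y ^ p}) : a ∈ Ideal.span {x, y} := by
  haveI : IsDomain A := RegularLocal.Basic.isDomain
  haveI := flat_frob A p
  obtain ⟨q, hq⟩ : ∃ q, p = q + 1 := ⟨p - 1, by have := (Fact.out : p.Prime).pos; omega⟩
  let J : Ideal A := Submodule.colon (Ideal.span {x, y}) {a}
  have hJ : ∀ c, c ∈ J ↔ c * a ∈ Ideal.span {x, y} := fun c => by
    rw [show J = Submodule.colon (Ideal.span {x, y}) {a} from rfl, Submodule.mem_colon_singleton, smul_eq_mul]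
  by_contra hna
  have hJm : J ≤ IsLocalRing.maximalIdeal A := IsLocalRing.le_maximalIdeal fun htop => hna (by
    simpa using (hJ 1).mp (htop ▸ trivial))
  have key : J ≤ IsLocalRing.maximalIdeal A • J := by
    intro c hc
    obtain ⟨s, t, hst⟩ := Ideal.mem_span_pair.mp ((hJ c).mp hc)
    obtain ⟨s', t', hst'⟩ := Ideal.mem_span_pair.mp he
    have hrel : c * a ^ p = (c * s' + s * y ^ q) * x ^ p + (c * t' + t * x ^ q) * y ^ p := by
      rw [hq] at ha hst' ⊢
      simp only [Nat.add_sub_cancel, mul_pow] at ha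
      linear_combination c * ha - c * hst' - x ^ q * y ^ q * hst
    obtain ⟨k, w, z, hw, hrw⟩ := Module.Flat.isTrivialRelation_of_sum_smul_eq_zero (R := A) (M := Frob A p) (f := ![a, -x, -y])
      (x := fun i => (![c, c * s' + s * y ^ q, c * t' + t * x ^ q] i : Frob A p)) (by
        simp only [Fin.sum_univ_three, frob_smul]
        show (a ^ p * c + (-x) ^ p * _ + (-y) ^ p * _ : A) = 0
        have hn : ∀ b : A, (-b) ^ p = -(b ^ p) := fun b => by
          have := map_neg (frobenius A p) b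
          simpa [frobenius_def] using this
        simp only [Matrix.cons_val_zero, Matrix.cons_val_one, Matrix.cons_val_two, Matrix.head_cons, Matrix.tail_cons, hn]
        linear_combination hrel)
    have hc0 : c = ∑ j, (w 0 j) ^ p * (show A from z j) := by
      have := hw 0
      simp only [frob_smul, Matrix.cons_val_zero] at this; exact this
    rw [hc0]
    refine Submodule.sum_mem _ fun j _ => ?_
    have hwj : w 0 j ∈ J := by
      rw [hJ]
      have := hrw j
      simp only [Fin.sum_univ_three, Matrix.cons_val_zero, Matrix.cons_val_one, Matrix.cons_val_two, Matrix.head_cons, Matrix.tail_cons] at this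
      exact Ideal.mem_span_pair.mpr ⟨w 1 j, w 2 j, by linear_combination (-1 : A) * this⟩
    obtain ⟨r, hr⟩ : ∃ r, p = r + 2 := ⟨p - 2, by have := (Fact.out : p.Prime).two_le; omega⟩
    rw [hr, pow_add, pow_two, ← mul_assoc]
    refine Ideal.mul_mem_right _ _ ?_
    rw [Ideal.smul_eq_mul]
    exact Ideal.mul_mem_mul (Ideal.mul_mem_left _ _ (hJm hwj)) hwj
  have h0 : J = ⊥ := Submodule.eq_bot_of_le_smul_of_le_jacobson_bot _ _ (IsNoetherian.noetherian J) key
    (IsLocalRing.maximalIdeal_le_jacobson _)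
  have hx : x ∈ J := (hJ x).mpr (Ideal.mul_mem_right _ _ (Ideal.subset_span (by simp)))
  rw [h0, Ideal.mem_bot] at hx
  exact hxy hx

end

/-- being integral at a prime -/
def Loc {A : Type u} [CommRing A] (L : Type*) [CommRing L] [Algebra A L] (q : Ideal A) (z : L) : Prop :=
  ∃ s a : A, s ∉ q ∧ algebraMap A L s * z = algebraMap A L a

namespace Loc

variable {A : Type u} [CommRing A] {L : Type*} [CommRing L] [Algebra A L] {q : Ideal A}

theorem algebraMap (hq : q.IsPrime) (a : A) : Loc L q (algebraMap A L a) :=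
  ⟨1, a, fun h => hq.ne_top ((Ideal.eq_top_iff_one q).mpr h), by simp⟩

theorem add (hq : q.IsPrime) {z w : L} (hz : Loc L q z) (hw : Loc L q w) : Loc L q (z + w) := by
  obtain ⟨s, a, hs, hz⟩ := hz
  obtain ⟨t, b, ht, hw⟩ := hw
  exact ⟨s * t, t * a + s * b, fun h => (hq.mem_or_mem h).elim hs ht, by rw [map_add, map_mul, map_mul, map_mul, ← hz, ← hw]; ring⟩

theorem mul (hq : q.IsPrime) {z w : L} (hz : Loc L q z) (hw : Loc L q w) : Loc L q (z * w) := by
  obtain ⟨s, a, hs, hz⟩ := hz
  obtain ⟨t, b, ht, hw⟩ := hw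
  exact ⟨s * t, a * b, fun h => (hq.mem_or_mem h).elim hs ht, by rw [map_mul, map_mul, ← hz, ← hw]; ring⟩

theorem neg {z : L} (hz : Loc L q z) : Loc L q (-z) := by
  obtain ⟨s, a, hs, hz⟩ := hz
  exact ⟨s, -a, hs, by rw [mul_neg, hz, map_neg]⟩

theorem sub (hq : q.IsPrime) {z w : L} (hz : Loc L q z) (hw : Loc L q w) : Loc L q (z - w) := by
  rw [sub_eq_add_neg]; exact add hq hz (neg hw)

theorem pow (hq : q.IsPrime) {z : L} (hz : Loc L q z) : ∀ n, Loc L q (z ^ n)
  | 0 => by rw [pow_zero, ← map_one (Algebra.algebraMap A L)]; exact algebraMap hq 1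
  | n + 1 => by rw [pow_succ]; exact mul hq (pow hq hz n) hz

theorem of_mul {z : L} {d : A} (hd : d ∉ q) (hq : q.IsPrime) (h : Loc L q (Algebra.algebraMap A L d * z)) : Loc L q z := by
  obtain ⟨s, a, hs, h⟩ := h
  exact ⟨s * d, a, fun h => (hq.mem_or_mem h).elim hs hd, by rw [map_mul, mul_assoc]; exact h⟩

end Loc

theorem mem_range_of_loc {A : Type u} [CommRing A] [IsDomain A] [IsNoetherianRing A] [IsIntegrallyClosed A]
    (L : Type*) [Field L] [Algebra A L] [IsFractionRing A L] (z : L)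
    (h : ∀ q : Ideal A, q.IsPrime → q.height ≤ 1 → Loc L q z) : ∃ a, algebraMap A L a = z := by
  obtain ⟨c, ρ, hρ, rfl⟩ := IsFractionRing.div_surjective (A := A) z
  have hρ0 : ρ ≠ 0 := nonZeroDivisors.ne_zero hρ
  have hρL : algebraMap A L ρ ≠ 0 := fun h => hρ0 (IsFractionRing.injective A L (h.trans (map_zero _).symm))
  obtain ⟨a, ha⟩ := dvd_of_locally (ρ := ρ) (c := c) hρ0 fun q hq hh => by
    obtain ⟨s, a, hs, he⟩ := h q hq hh
    refine ⟨s, hs, a, IsFractionRing.injective A L ?_⟩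
    rw [map_mul, map_mul, ← he]
    field_simp
  exact ⟨a, by rw [ha, map_mul]; field_simp⟩

theorem exists_pow_mul_mem {A : Type u} [CommRing A] {q : Ideal A} {d : A} (hq : q ∈ (Ideal.span {d}).minimalPrimes)
    {e : A} (he : e ∈ q) : ∃ (N : ℕ) (s : A), s ∉ q ∧ d ∣ s * e ^ N := by
  by_contra hn
  simp only [not_exists, not_and] at hn
  haveI := hq.1.1
  let M : Submonoid A :=
    { carrier := {z | ∃ (N : ℕ) (s : A), s ∉ q ∧ z = s * e ^ N}
      one_mem' := ⟨0, 1, fun h => hq.1.1.ne_top ((Ideal.eq_top_iff_one q).mpr h), by simp⟩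
      mul_mem' := by
        rintro _ _ ⟨N, s, hs, rfl⟩ ⟨N', s', hs', rfl⟩
        exact ⟨N + N', s * s', fun h => (hq.1.1.mem_or_mem h).elim hs hs', by ring⟩ }
  obtain ⟨P, hP, hle, hdis⟩ := Ideal.exists_le_prime_disjoint (Ideal.span {d}) M (Set.disjoint_left.mpr fun z hz hzM => by
    obtain ⟨N, s, hs, rfl⟩ := hzM
    exact hn N s hs (Ideal.mem_span_singleton.mp hz))
  have hPq : P ≤ q := fun z hz => by
    by_contra hzq
    exact Set.disjoint_left.mp hdis hz ⟨0, z, hzq, by simp⟩
  exact Set.disjoint_left.mp hdis (hq.2 ⟨hP, hle⟩ hPq he) ⟨1, 1, fun h => hq.1.1.ne_top ((Ideal.eq_top_iff_one q).mpr h), by simp⟩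

/-- Artin–Schreier classes which are integral in codimension one are integral -/
theorem artinSchreier_purity {A : Type u} [CommRing A] [IsRegularLocalRing A] [IsDomain A] (p : ℕ) [Fact p.Prime] [CharP A p]
    (L : Type*) [Field L] [Algebra A L] [IsFractionRing A L] (f : L)
    (h : ∀ q : Ideal A, q.IsPrime → q.height ≤ 1 → ∃ t : L, Loc L q (f - (t ^ p - t))) :
    ∃ (t : L) (a : A), f - (t ^ p - t) = algebraMap A L a := by
  classical
  haveI := RegularLocal.Normal.isIntegrallyClosed (A := A)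
  haveI : CharP L p := charP_of_injective_algebraMap (IsFractionRing.injective A L) p
  obtain ⟨num, d0, hd0, hf⟩ := IsFractionRing.div_surjective (A := A) f
  have hd0' : d0 ≠ 0 := nonZeroDivisors.ne_zero hd0
  have inj := IsFractionRing.injective A L
  have hne : ∀ z : A, z ≠ 0 → algebraMap A L z ≠ 0 := fun z hz h => hz (inj (h.trans (map_zero _).symm))
  have hfd : algebraMap A L d0 * f = algebraMap A L num := by rw [← hf]; have := hne d0 hd0'; field_simp
  let S0 : Set (Ideal A) := (Ideal.span {d0}).minimalPrimes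
  have hS0 : S0.Finite := Ideal.finite_minimalPrimes_of_isNoetherianRing A _
  have minim : ∀ (d : A), d ≠ 0 → ∀ q : Ideal A, q.IsPrime → q.height ≤ 1 → d ∈ q → q ∈ (Ideal.span {d}).minimalPrimes := by
    intro d hd q hq hh hdq
    refine ⟨⟨hq, (Ideal.span_singleton_le_iff_mem _).mpr hdq⟩, fun P hP hPq => ?_⟩
    haveI := hP.1
    by_contra hlt
    have hlt' : P < q := lt_of_le_not_ge hPq hlt
    have h0 : P.height < 1 := (Ideal.height_le_iff (n := 1)).mp hh P hP.1 hlt'
    rw [ENat.lt_one_iff_eq_zero] at h0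
    have hPb : (⊥ : Ideal A) < P := bot_lt_iff_ne_bot.mpr fun hb => hd (by
      have := hP.2 (Ideal.mem_span_singleton_self d); rwa [hb, Ideal.mem_bot] at this)
    have := Ideal.height_strict_mono_of_isPrime hPb
    rw [h0] at this
    exact not_lt_zero this
  have key : ∀ q : Ideal A, ∃ t : L, ((q.IsPrime ∧ q.height ≤ 1) → Loc L q (f - (t ^ p - t))) ∧ (q ∉ S0 → t = 0) := by
    intro q
    by_cases hq : q ∈ S0 ∧ q.IsPrime ∧ q.height ≤ 1
    · obtain ⟨t, ht⟩ := h q hq.2.1 hq.2.2
      exact ⟨t, fun _ => ht, fun hn => absurd hq.1 hn⟩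
    · refine ⟨0, fun hq' => ?_, fun _ => rfl⟩
      have hdq : d0 ∉ q := fun hdq => hq ⟨minim d0 hd0' q hq'.1 hq'.2 hdq, hq'⟩
      exact ⟨d0, num, hdq, by rw [zero_pow (Fact.out : p.Prime).ne_zero, sub_zero, sub_zero, hfd]⟩
  choose t ht ht0 using key
  choose b e he hte using fun q : Ideal A => IsFractionRing.div_surjective (A := A) (t q)
  obtain ⟨D, hD0, hdD, hDt⟩ : ∃ D : A, D ≠ 0 ∧ d0 ∣ D ∧ ∀ q, ∃ a, algebraMap A L D * t q = algebraMap A L a := by
    refine ⟨d0 * ∏ q ∈ hS0.toFinset, e q,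
      mul_ne_zero hd0' (Finset.prod_ne_zero_iff.mpr fun q _ => nonZeroDivisors.ne_zero (he q)), dvd_mul_right _ _, fun q => ?_⟩
    by_cases hq : q ∈ S0
    · refine ⟨d0 * (∏ q' ∈ hS0.toFinset.erase q, e q') * b q, ?_⟩
      have hep := Finset.mul_prod_erase hS0.toFinset e (hS0.mem_toFinset.mpr hq)
      rw [← hte q, ← hep, map_mul, map_mul, map_mul, map_mul]
      have := hne _ (nonZeroDivisors.ne_zero (he q))
      field_simp
    · exact ⟨0, by rw [ht0 q hq, mul_zero, map_zero]⟩
  choose Dt hDt using hDt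
  let S1 : Set (Ideal A) := (Ideal.span {D}).minimalPrimes
  have hS1 : S1.Finite := Ideal.finite_minimalPrimes_of_isNoetherianRing A _
  -- the ideal of elements killing the class
  let I : Ideal A :=
    { carrier := {c | ∃ g : L, ∀ q : Ideal A, q.IsPrime → q.height ≤ 1 → Loc L q (algebraMap A L c * t q - g)}
      zero_mem' := ⟨0, fun q hq _ => by rw [map_zero, zero_mul, sub_zero, ← map_zero (algebraMap A L)]; exact Loc.algebraMap hq 0⟩
      add_mem' := by
        rintro c c' ⟨g, hg⟩ ⟨g', hg'⟩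
        refine ⟨g + g', fun q hq hh => ?_⟩
        rw [map_add, add_mul, add_sub_add_comm]
        exact Loc.add hq (hg q hq hh) (hg' q hq hh)
      smul_mem' := by
        rintro r c ⟨g, hg⟩
        refine ⟨algebraMap A L r * g, fun q hq hh => ?_⟩
        rw [smul_eq_mul, map_mul, mul_assoc, ← mul_sub]
        exact Loc.mul hq (Loc.algebraMap hq r) (hg q hq hh) }
  have hnot : ∀ q ∈ S1, q.height ≤ 1 → ¬ I ≤ q := by
    intro q hq hh hle
    haveI := hq.1.1
    have hpick : ∀ q' ∈ hS1.toFinset.erase q, ∃ c, c ∉ q ∧ (q'.height ≤ 1 → Loc L q' (algebraMap A L c * (t q' - t q))) := by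
      intro q' hq'
      obtain ⟨hne', hq'1⟩ := Finset.mem_erase.mp hq'
      have hq'' := hS1.mem_toFinset.mp hq'1
      haveI := hq''.1.1
      obtain ⟨e', he'1, he'2⟩ : ∃ e', e' ∈ q' ∧ e' ∉ q := by
        by_contra hn
        simp only [not_exists, not_and, not_not] at hn
        exact hne' (le_antisymm hn (hq.2 ⟨hq''.1.1, hq''.1.2⟩ hn))
      obtain ⟨N, s, hs, r, hr⟩ := exists_pow_mul_mem hq'' he'1
      refine ⟨e' ^ N, fun hc => he'2 (‹q.IsPrime›.mem_of_pow_mem N hc), fun _ => ?_⟩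
      refine ⟨s, r * Dt q' - r * Dt q, hs, ?_⟩
      rw [← mul_assoc, ← map_mul, hr, map_sub, map_mul, map_mul, map_mul, ← hDt, ← hDt]; ring
    choose cf hcf1 hcf2 using hpick
    let c : A := ∏ q' ∈ (hS1.toFinset.erase q).attach, cf q'.1 q'.2
    have hcq : c ∉ q := fun hc => by
      obtain ⟨q', -, hq'⟩ := (‹q.IsPrime›).prod_mem_iff.mp hc
      exact hcf1 q'.1 q'.2 hq'
    refine hcq (hle ⟨algebraMap A L c * t q, fun q' hq' hh' => ?_⟩)
    rw [← mul_sub]
    by_cases hqq : q' = q
    · rw [hqq, sub_self, mul_zero, ← map_zero (algebraMap A L)]; exact Loc.algebraMap ‹q.IsPrime› 0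
    by_cases hDq : D ∈ q'
    · have hmem : q' ∈ hS1.toFinset.erase q := Finset.mem_erase.mpr ⟨hqq, hS1.mem_toFinset.mpr (minim D hD0 q' hq' hh' hDq)⟩
      obtain ⟨r, hr⟩ : cf q' hmem ∣ c := Finset.dvd_prod_of_mem (fun q'' : {x // x ∈ hS1.toFinset.erase q} => cf q''.1 q''.2) (Finset.mem_attach _ ⟨q', hmem⟩)
      rw [hr, map_mul, mul_comm (algebraMap A L (cf q' hmem)), mul_assoc]
      exact Loc.mul hq' (Loc.algebraMap hq' r) (hcf2 q' hmem hh')
    · refine Loc.mul hq' (Loc.algebraMap hq' c) (Loc.of_mul hDq hq' ?_)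
      rw [mul_sub, hDt, hDt, ← map_sub]
      exact Loc.algebraMap hq' _
  obtain ⟨y, hyI, hy⟩ : ∃ y ∈ I, ∀ q ∈ S1, q.height ≤ 1 → y ∉ q := by
    by_contra hn
    simp only [not_exists, not_and, not_forall, not_not] at hn
    have hsub : (I : Set A) ⊆ ⋃ q ∈ (↑(hS1.toFinset.filter fun q => q.height ≤ 1) : Set (Ideal A)), (q : Set A) := fun z hz => by
      obtain ⟨q, hq1, hq2, hzq⟩ := hn z hz
      exact Set.mem_biUnion (Finset.mem_filter.mpr ⟨hS1.mem_toFinset.mpr hq1, hq2⟩) hzq
    obtain ⟨q, hq, hle⟩ := (Ideal.subset_union_prime ⊥ ⊥ fun q hq _ _ => (hS1.mem_toFinset.mp (Finset.mem_filter.mp hq).1).1.1).mp hsub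
    obtain ⟨hq1, hq2⟩ := Finset.mem_filter.mp hq
    exact hnot q (hS1.mem_toFinset.mp hq1) hq2 hle
  have hyD : ∀ q : Ideal A, q.IsPrime → q.height ≤ 1 → D ∉ q ∨ y ∉ q := fun q hq hh =>
    or_iff_not_imp_left.mpr fun hDq => hy q (minim D hD0 q hq hh (not_not.mp hDq)) hh
  obtain ⟨g, hg⟩ := hyI
  obtain ⟨a, ha⟩ := mem_range_of_loc L (algebraMap A L D * g) fun q hq hh => by
    rw [show algebraMap A L D * g = algebraMap A L y * (algebraMap A L D * t q) - algebraMap A L D * (algebraMap A L y * t q - g) by ring, hDt]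
    exact Loc.sub hq (Loc.mul hq (Loc.algebraMap hq y) (Loc.algebraMap hq _)) (Loc.mul hq (Loc.algebraMap hq D) (hg q hq hh))
  obtain ⟨n, hn⟩ : ∃ n, p = n + 1 := ⟨p - 1, by have := (Fact.out : p.Prime).pos; omega⟩
  obtain ⟨u, hu⟩ := mem_range_of_loc L (algebraMap A L y ^ n * g + algebraMap A L y ^ p * f - g ^ p) fun q hq hh => by
    have hsub := sub_pow_char (algebraMap A L y * t q) g (p := p)
    have : algebraMap A L y ^ n * g + algebraMap A L y ^ p * f - g ^ p =
        algebraMap A L y ^ p * (f - (t q ^ p - t q)) + (algebraMap A L y * t q - g) ^ p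
          - algebraMap A L y ^ n * (algebraMap A L y * t q - g) := by
      rw [hsub, mul_pow, hn]; ring
    rw [this]
    refine Loc.sub hq (Loc.add hq (Loc.mul hq ?_ (ht q ⟨hq, hh⟩)) (Loc.pow hq (hg q hq hh) p)) (Loc.mul hq ?_ (hg q hq hh))
    · exact Loc.pow hq (Loc.algebraMap hq y) p
    · exact Loc.pow hq (Loc.algebraMap hq y) n
  obtain ⟨r, hr⟩ := hdD
  have hDf : algebraMap A L D ^ p * f = algebraMap A L (D ^ n * r * num) := by
    rw [hn, pow_succ, map_mul, map_mul, map_pow, ← hfd, hr, map_mul]; ring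
  have hae : a ^ p - (D * y) ^ (p - 1) * a = (-u) * D ^ p + (D ^ n * r * num) * y ^ p := by
    apply inj
    simp only [map_sub, map_mul, map_pow, map_add, map_neg, ha, hu, hn, Nat.add_sub_cancel]
    simp only [map_mul, map_pow, hn] at hDf
    linear_combination (algebraMap A L y) ^ (n + 1) * hDf
  have hay := mem_span_pair_of_pow p D y a _ hD0 hae (Ideal.mem_span_pair.mpr ⟨-u, D ^ n * r * num, rfl⟩)
  obtain ⟨s, m, hsm⟩ := Ideal.mem_span_pair.mp hay
  have hDL := hne D hD0
  refine ⟨algebraMap A L m / algebraMap A L D, ?_⟩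
  obtain ⟨c, hc⟩ := mem_range_of_loc L (f - ((algebraMap A L m / algebraMap A L D) ^ p - algebraMap A L m / algebraMap A L D)) fun q hq hh => by
    have hsub := sub_pow_char (t q) (algebraMap A L m / algebraMap A L D) (p := p)
    have hdiff : Loc L q (t q - algebraMap A L m / algebraMap A L D) := by
      rcases hyD q hq hh with hD' | hy'
      · refine Loc.of_mul hD' hq ?_
        rw [mul_sub, hDt, mul_div_cancel₀ _ hDL]
        exact Loc.sub hq (Loc.algebraMap hq _) (Loc.algebraMap hq _)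
      · refine Loc.of_mul hy' hq ?_
        have e : algebraMap A L D * g = algebraMap A L s * algebraMap A L D + algebraMap A L m * algebraMap A L y := by
          rw [← ha, ← hsm, map_add, map_mul, map_mul]
        have : algebraMap A L y * (t q - algebraMap A L m / algebraMap A L D) = (algebraMap A L y * t q - g) + algebraMap A L s := by
          field_simp
          linear_combination e
        rw [this]
        exact Loc.add hq (hg q hq hh) (Loc.algebraMap hq s)
    rw [show f - ((algebraMap A L m / algebraMap A L D) ^ p - algebraMap A L m / algebraMap A L D) =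
      (f - (t q ^ p - t q)) + (t q - algebraMap A L m / algebraMap A L D) ^ p - (t q - algebraMap A L m / algebraMap A L D) by rw [hsub]; ring]
    exact Loc.sub hq (Loc.add hq (ht q ⟨hq, hh⟩) (Loc.pow hq hdiff p)) hdiff
  exact ⟨c, hc.symm⟩

end Groth.Agent.WQ8
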