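import Groth.Agent.WQ8.Normal

set_option autoImplicit false
universe u v w

open scoped Pointwise

namespace Groth.Agent.WQ8

variable {R : Type u} [CommRing R] {A : Type v} [CommRing A] [Algebra R A]
  {H : Type w} [CommGroup H] [MulSemiringAction H A] [SMulCommClass H R A]

omit [Algebra R A] [SMulCommClass H R A] in
theorem inertia_smul (g : H) (P : Ideal A) : (g • P).inertia H = P.inertia H := by
  ext σ
  refine ⟨fun h x => ?_, fun h x => ?_⟩
  · have := h (g • x)
    rw [smul_smul, mul_comm σ g, ← smul_smul, ← smul_sub] at this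
    exact Ideal.smul_mem_pointwise_smul_iff.mp this
  · show σ • x - x ∈ g • P
    have : σ • x - x = g • (σ • (g⁻¹ • x) - g⁻¹ • x) := by
      rw [smul_sub, smul_smul, smul_smul, smul_smul, mul_comm g σ, mul_inv_cancel_right, mul_inv_cancel, one_smul]
    rw [this]
    exact Ideal.smul_mem_pointwise_smul_iff.mpr (h _)

variable [Finite H]

theorem exists_mul_inv_mem_inertia [Module.Finite R A] (N : Subgroup H) (g : H) (P : Ideal A) [P.IsPrime]
    (h : ∀ x : A, (∀ m ∈ N, m • x = x) → g • x - x ∈ P) : ∃ m ∈ N, g * m⁻¹ ∈ P.inertia H := by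
  classical
  haveI : Fintype H := Fintype.ofFinite H
  obtain ⟨k, a, ha⟩ := Module.Finite.exists_fin (R := R) (M := A)
  let act : H → (MvPolynomial (Fin k) A →+* MvPolynomial (Fin k) A) := fun σ => MvPolynomial.map (MulSemiringAction.toRingHom H A σ)
  let L : H → MvPolynomial (Fin k) A := fun σ => ∑ l, MvPolynomial.C (σ • a l) * MvPolynomial.X l
  have hL : ∀ σ τ, act σ (L τ) = L (σ * τ) := fun σ τ => by
    simp [act, L, map_sum, mul_smul]
  let F : Polynomial (MvPolynomial (Fin k) A) := ∏ m : N, (Polynomial.X - Polynomial.C (L m))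
  have hF : ∀ m ∈ N, F.map (act m) = F := by
    intro m hm
    simp only [F, Polynomial.map_prod, Polynomial.map_sub, Polynomial.map_X, Polynomial.map_C, hL]
    exact Fintype.prod_equiv (Equiv.mulLeft (⟨m, hm⟩ : N)) _ _ fun x => by simp
  let π : MvPolynomial (Fin k) A →+* MvPolynomial (Fin k) (A ⧸ P) := MvPolynomial.map (Ideal.Quotient.mk P)
  have hg : (F.map (act g)).map π = F.map π := by
    refine Polynomial.ext fun i => MvPolynomial.ext _ _ fun c => ?_
    simp only [Polynomial.coeff_map, π, act, MvPolynomial.coeff_map]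
    rw [Ideal.Quotient.eq]
    refine h _ fun m hm => ?_
    conv_rhs => rw [← hF m hm]
    simp [act, Polynomial.coeff_map, MvPolynomial.coeff_map]
  have h0 : (F.map π).eval (π (L g)) = 0 := by
    rw [← hg]
    have h1 : (F.map (act g)).eval (L g) = 0 := by
      have : L g = act g (L 1) := by rw [hL, mul_one]
      rw [this, Polynomial.eval_map_apply]
      have : F.eval (L 1) = 0 := by
        simp only [F, Polynomial.eval_prod, Polynomial.eval_sub, Polynomial.eval_X, Polynomial.eval_C]
        exact Finset.prod_eq_zero (Finset.mem_univ (1 : N)) (by simp)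
      rw [this, map_zero]
    rw [Polynomial.eval_map_apply, h1, map_zero]
  simp only [F, Polynomial.map_prod, Polynomial.map_sub, Polynomial.map_X, Polynomial.map_C, Polynomial.eval_prod,
    Polynomial.eval_sub, Polynomial.eval_X, Polynomial.eval_C, Finset.prod_eq_zero_iff, Finset.mem_univ, true_and, sub_eq_zero] at h0
  obtain ⟨⟨m, hm⟩, he⟩ := h0
  refine ⟨m, hm, fun x => ?_⟩
  have hl : ∀ l, g • a l - m • a l ∈ P := fun l => by
    have := congrArg (MvPolynomial.coeff (Finsupp.single l 1)) he
    simp only [π, L, map_sum, map_mul, MvPolynomial.map_C, MvPolynomial.map_X, MvPolynomial.coeff_sum, MvPolynomial.coeff_C_mul,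
      MvPolynomial.coeff_X'] at this
    rw [Finset.sum_eq_single l (fun b _ hb => by rw [if_neg (fun e => hb (Finsupp.single_left_injective one_ne_zero e)), mul_zero]) (by simp),
      Finset.sum_eq_single l (fun b _ hb => by rw [if_neg (fun e => hb (Finsupp.single_left_injective one_ne_zero e)), mul_zero]) (by simp)] at this
    simpa [Ideal.Quotient.eq] using this
  have hall : ∀ z : A, g • z - m • z ∈ P := fun z => by
    have hz : z ∈ Submodule.span R (Set.range a) := by rw [ha]; trivial
    induction hz using Submodule.span_induction with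
    | mem z hz => obtain ⟨l, rfl⟩ := hz; exact hl l
    | zero => simp
    | add y z _ _ hy hz => rw [smul_add, smul_add, add_sub_add_comm]; exact P.add_mem hy hz
    | smul r z _ hz =>
      rw [smul_comm g r z, smul_comm m r z, ← smul_sub, Algebra.smul_def]
      exact P.mul_mem_left _ hz
  show (g * m⁻¹) • x - x ∈ P
  have := hall (m⁻¹ • x)
  rwa [smul_inv_smul, smul_smul] at this

section Setup

variable {n : ℕ} (Gi : Fin n → Subgroup H)

/-- the complementary subgroup -/
abbrev perp (i : Fin n) : Subgroup H := ⨆ j ∈ (Finset.univ.erase i : Finset (Fin n)), Gi j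

variable (R A) in
/-- invariants of the complementary subgroup -/
abbrev B (i : Fin n) : Subalgebra R A := FixedPoints.subalgebra R A ↥(perp Gi i)

omit [Finite H] in
theorem mem_B {i : Fin n} {x : A} : x ∈ B R A Gi i ↔ ∀ h ∈ perp Gi i, h • x = x :=
  ⟨fun hx h hh => hx ⟨h, hh⟩, fun hx h => hx h.1 h.2⟩

omit [Finite H] in
theorem smul_mem_B {i : Fin n} {x : A} (hx : x ∈ B R A Gi i) (g : H) : g • x ∈ B R A Gi i :=
  (mem_B Gi).mpr fun h hh => by rw [smul_smul, mul_comm, ← smul_smul, (mem_B Gi).mp hx h hh]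

variable (prod_bij : Function.Bijective fun g : ∀ j, Gi j => ∏ j, (g j : H))

/-- the component of a group element -/
noncomputable def comp (h : H) : ∀ j, Gi j := (Equiv.ofBijective _ prod_bij).symm h

omit [MulSemiringAction H A] [SMulCommClass H R A] [Algebra R A] [CommRing A] [CommRing R] [Finite H] in
theorem prod_comp (h : H) : ∏ j, (comp Gi prod_bij h j : H) = h := (Equiv.ofBijective _ prod_bij).apply_symm_apply h

include prod_bij in
omit [MulSemiringAction H A] [SMulCommClass H R A] [Algebra R A] [CommRing A] [CommRing R] [Finite H] in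
theorem comp_eq_one {i : Fin n} {h : H} (hh : h ∈ perp Gi i) : comp Gi prod_bij h i = 1 := by
  classical
  let f : (∀ j, Gi j) →* H :=
    { toFun := fun g => ∏ j, (g j : H), map_one' := by simp, map_mul' := fun a b => by simp [Finset.prod_mul_distrib] }
  let e : (∀ j, Gi j) ≃* H := MulEquiv.ofBijective f prod_bij
  have he : ∀ x, comp Gi prod_bij x = e.symm x := fun x => e.injective (by
    rw [e.apply_symm_apply]; exact prod_comp Gi prod_bij x)
  let K : Subgroup H := ((Pi.evalMonoidHom (fun j => Gi j) i).comp e.symm.toMonoidHom).ker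
  have hK : perp Gi i ≤ K := by
    refine iSup₂_le fun j hj x hx => ?_
    show e.symm x i = 1
    have : e.symm x = Pi.mulSingle j ⟨x, hx⟩ := e.injective (by
      rw [e.apply_symm_apply]
      show x = ∏ l, ((Pi.mulSingle (M := fun l => ↥(Gi l)) j (⟨x, hx⟩ : Gi j) l : Gi l) : H)
      rw [Finset.prod_eq_single j (fun b _ hb => by rw [Pi.mulSingle_eq_of_ne hb]; rfl) (by simp), Pi.mulSingle_eq_same])
    rw [this, Pi.mulSingle_eq_of_ne (Finset.ne_of_mem_erase hj).symm]
  rw [he]
  exact hK hh

omit [Finite H] in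
theorem smul_eq_comp_smul {j : Fin n} {x : A} (hx : x ∈ B R A Gi j) (h : H) : h • x = (comp Gi prod_bij h j : H) • x := by
  classical
  conv_lhs => rw [← prod_comp Gi prod_bij h, ← Finset.mul_prod_erase Finset.univ _ (Finset.mem_univ j), mul_smul]
  rw [(mem_B Gi).mp hx _ (prod_mem fun l hl => Subgroup.mem_iSup_of_mem l (Subgroup.mem_iSup_of_mem hl (comp Gi prod_bij h l).2))]

include prod_bij in
theorem exists_family [IsNoetherianRing R] [Module.Finite R A] (j : Fin n) (q : Ideal R) [q.IsPrime]
    (hinj : Function.Injective (algebraMap R A))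
    (hq : ∀ P : Ideal A, P.IsPrime → P.comap (algebraMap R A) = q → P.inertia H ≤ perp Gi j) :
    ∃ (m : ℕ) (x y : Fin m → B R A Gi j) (s : R), s ∉ q ∧ (∑ l, (x l : A) * y l = algebraMap R A s) ∧
      ∀ g ∈ Gi j, g ≠ 1 → ∑ l, (x l : A) * g • (y l : A) = 0 := by
  classical
  haveI : Fintype H := Fintype.ofFinite H
  suffices ∀ S : Finset H, (∀ g ∈ S, g ∈ Gi j ∧ g ≠ 1) → ∃ (m : ℕ) (x y : Fin m → B R A Gi j) (s : R),
      s ∉ q ∧ (∑ l, (x l : A) * y l = algebraMap R A s) ∧ ∀ g ∈ S, ∑ l, (x l : A) * g • (y l : A) = 0 by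
    obtain ⟨m, x, y, s, hs, h1, h2⟩ := this {g | g ∈ Gi j ∧ g ≠ 1} fun g hg => (Finset.mem_filter.mp hg).2
    exact ⟨m, x, y, s, hs, h1, fun g hg hg1 => h2 g (Finset.mem_filter.mpr ⟨Finset.mem_univ g, hg, hg1⟩)⟩
  intro S
  induction S using Finset.induction with
  | empty => exact fun _ => ⟨1, fun _ => 1, fun _ => 1, 1, fun h => (‹q.IsPrime›).ne_top ((Ideal.eq_top_iff_one q).mpr h), by simp, by simp⟩
  | insert g S hgS ih =>
    intro hS
    obtain ⟨m, x, y, s, hs, h1, h2⟩ := ih fun a ha => hS a (Finset.mem_insert_of_mem ha)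
    obtain ⟨hgj, hg1⟩ := hS g (Finset.mem_insert_self g S)
    let Bj := B R A Gi j
    let J : Ideal Bj := Ideal.span (Set.range fun b : Bj => b - ⟨g • (b : A), smul_mem_B Gi b.2 g⟩)
    obtain ⟨t, htJ, ht⟩ : ∃ t : R, algebraMap R Bj t ∈ J ∧ t ∉ q := by
      by_contra hno
      simp only [not_exists, not_and, not_not] at hno
      haveI : Algebra.IsIntegral R Bj := Algebra.IsIntegral.of_injective Bj.val Subtype.val_injective
      obtain ⟨Q, hQJ, hQp, hQq⟩ := Ideal.exists_ideal_over_prime_of_isIntegral q J hno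
      letI := Bj.val.toRingHom.toAlgebra
      haveI : IsScalarTower R Bj A := IsScalarTower.of_algebraMap_eq fun _ => rfl
      haveI : Algebra.IsIntegral Bj A := Algebra.IsIntegral.tower_top R
      obtain ⟨P, -, hP, hPQ⟩ := Ideal.exists_ideal_over_prime_of_isIntegral Q (⊥ : Ideal A) (by
        intro b hb
        rw [Ideal.mem_comap, Ideal.mem_bot] at hb
        rw [show b = 0 from Subtype.ext hb]; exact zero_mem _)
      obtain ⟨m, hm, hI⟩ := exists_mul_inv_mem_inertia (R := R) (perp Gi j) g P fun z hz => by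
        have : (⟨z, (mem_B Gi).mpr hz⟩ : Bj) - ⟨g • z, smul_mem_B Gi ((mem_B Gi).mpr hz) g⟩ ∈ Q :=
          hQJ (Ideal.subset_span ⟨⟨z, (mem_B Gi).mpr hz⟩, rfl⟩)
        rw [← hPQ, Ideal.mem_comap] at this
        have := P.neg_mem this
        rwa [show -(algebraMap Bj A ((⟨z, (mem_B Gi).mpr hz⟩ : Bj) - ⟨g • z, smul_mem_B Gi ((mem_B Gi).mpr hz) g⟩)) = g • z - z from neg_sub z (g • z)] at this
      have hgN : g ∈ perp Gi j := by
        have := hq P hP (by rw [IsScalarTower.algebraMap_eq R Bj A, ← Ideal.comap_comap, hPQ, hQq]) hI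
        simpa using (perp Gi j).mul_mem this hm
      refine hg1 ?_
      have hc := comp_eq_one Gi prod_bij hgN
      have : comp Gi prod_bij g = Pi.mulSingle j ⟨g, hgj⟩ := prod_bij.1 (by
        show ∏ l, (comp Gi prod_bij g l : H) = ∏ l, ((Pi.mulSingle (M := fun l => ↥(Gi l)) j (⟨g, hgj⟩ : Gi j) l : Gi l) : H)
        rw [prod_comp, Finset.prod_eq_single j (fun b _ hb => by rw [Pi.mulSingle_eq_of_ne hb]; rfl) (by simp), Pi.mulSingle_eq_same])
      rw [this, Pi.mulSingle_eq_same] at hc
      exact congrArg Subtype.val hc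
    obtain ⟨k, bs, cs, hc⟩ : ∃ (k : ℕ) (bs : Fin k → Bj) (cs : Fin k → Bj),
        ∑ l, cs l * (bs l - ⟨g • (bs l : A), smul_mem_B Gi (bs l).2 g⟩) = algebraMap R Bj t := by
      obtain ⟨c, hc⟩ := Finsupp.mem_span_range_iff_exists_finsupp.mp htJ
      refine ⟨c.support.card, fun l => (c.support.equivFin.symm l).1, fun l => c (c.support.equivFin.symm l).1, ?_⟩
      rw [← hc, Finsupp.sum, ← c.support.sum_coe_sort]
      exact Fintype.sum_equiv c.support.equivFin.symm _ _ fun _ => rfl
    have hcA : ∑ l, ((cs l : A) * bs l - (cs l : A) * g • (bs l : A)) = algebraMap R A t := by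
      have := congrArg (Subtype.val : Bj → A) hc
      simpa [mul_sub] using this
    let x' : Fin (k + 1) → Bj := Fin.snoc cs (-∑ l, cs l * ⟨g • (bs l : A), smul_mem_B Gi (bs l).2 g⟩)
    let y' : Fin (k + 1) → Bj := Fin.snoc bs 1
    have h1' : ∑ l, (x' l : A) * y' l = algebraMap R A t := by
      rw [← hcA, Finset.sum_sub_distrib, Fin.sum_univ_castSucc]
      simp [x', y', sub_eq_add_neg]
    have h2' : ∑ l, (x' l : A) * g • (y' l : A) = 0 := by
      rw [Fin.sum_univ_castSucc]
      simp [x', y']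
    refine ⟨m * (k + 1), fun l => x (finProdFinEquiv.symm l).1 * x' (finProdFinEquiv.symm l).2,
      fun l => y (finProdFinEquiv.symm l).1 * y' (finProdFinEquiv.symm l).2, s * t, fun h => ((‹q.IsPrime›).mem_or_mem h).elim hs ht, ?_, ?_⟩
    · rw [map_mul, ← h1, ← h1', Finset.sum_mul_sum, ← Fintype.sum_prod_type']
      exact Fintype.sum_equiv finProdFinEquiv.symm _ _ fun l => by simp only [MulMemClass.coe_mul]; ring
    · intro a ha
      have key : ∀ σ : H, ∑ l, ((x (finProdFinEquiv.symm l).1 * x' (finProdFinEquiv.symm l).2 : Bj) : A) *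
          σ • ((y (finProdFinEquiv.symm l).1 * y' (finProdFinEquiv.symm l).2 : Bj) : A) =
          (∑ l, (x l : A) * σ • (y l : A)) * ∑ l, (x' l : A) * σ • (y' l : A) := fun σ => by
        rw [Finset.sum_mul_sum, ← Fintype.sum_prod_type']
        exact Fintype.sum_equiv finProdFinEquiv.symm _ _ fun l => by simp only [MulMemClass.coe_mul, smul_mul']; ring
      rw [key]
      rcases Finset.mem_insert.mp ha with rfl | ha
      · rw [h2', mul_zero]
      · rw [h2 a ha, zero_mul]

include prod_bij in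
theorem mem_sup_of_families (a : A) (M : Subgroup H) [Fintype M] {m : Fin n → ℕ} (x y : ∀ j, Fin (m j) → B R A Gi j)
    (s : Fin n → R) (h1 : ∀ j, ∑ l, (x j l : A) * y j l = algebraMap R A (s j))
    (h2 : ∀ j, ∀ h ∈ M, comp Gi prod_bij h j ≠ 1 → ∑ l, (x j l : A) * (comp Gi prod_bij h j : H) • (y j l : A) = 0)
    (hT : ∀ z : A, ∑ h : M, (h : H) • z ∈ ⨆ i, B R A Gi i) :
    algebraMap R A (∏ j, s j) * a ∈ ⨆ i, B R A Gi i := by
  classical
  have e : algebraMap R A (∏ j, s j) * a =
      ∑ k ∈ Fintype.piFinset fun j => (Finset.univ : Finset (Fin (m j))), (∏ j, (x j (k j) : A)) * ∑ h : M, (h : H) • (a * ∏ j, (y j (k j) : A)) := by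
    simp only [Finset.mul_sum]
    rw [Finset.sum_comm]
    have key : ∀ h : M, ∑ k ∈ Fintype.piFinset fun j => (Finset.univ : Finset (Fin (m j))), (∏ j, (x j (k j) : A)) * (h : H) • (a * ∏ j, (y j (k j) : A)) =
        (h : H) • a * ∏ j, ∑ l, (x j l : A) * (comp Gi prod_bij (h : H) j : H) • (y j l : A) := by
      intro h
      rw [Finset.prod_univ_sum, Finset.mul_sum]
      refine Finset.sum_congr rfl fun k _ => ?_
      rw [smul_mul', Finset.smul_prod', Finset.prod_mul_distrib]
      simp only [fun j => smul_eq_comp_smul Gi prod_bij (y j (k j)).2 (h : H)]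
      ring
    simp only [key]
    rw [Finset.sum_eq_single (1 : M) (fun h _ hh => ?_) (by simp)]
    · have hc : ∀ j, comp Gi prod_bij (1 : H) j = 1 := fun j => comp_eq_one Gi prod_bij (one_mem _)
      simp only [OneMemClass.coe_one, hc, one_smul, h1, ← map_prod]
      ring
    · obtain ⟨j, hj⟩ : ∃ j, comp Gi prod_bij (h : H) j ≠ 1 := by
        by_contra hn
        simp only [not_exists, not_not] at hn
        exact hh (Subtype.ext (by rw [← prod_comp Gi prod_bij (h : H), OneMemClass.coe_one]; exact Finset.prod_eq_one fun j _ => by rw [hn j]; rfl))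
      rw [Finset.prod_eq_zero (Finset.mem_univ j) (h2 j h h.2 hj), mul_zero]
  rw [e]
  exact sum_mem fun k _ => mul_mem (prod_mem fun j _ => (le_iSup (B R A Gi) j) (x j (k j)).2) (hT _)

end Setup

end Groth.Agent.WQ8
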