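import Groth.Agent.WQ8.Setup
import Groth.Agent.WQ8.Coproduct
import Groth.Agent.RegularLocal.Normal
import Groth.Agent.RegularLocal.GlobalDim

set_option autoImplicit false
universe u v w

open scoped Pointwise

namespace Groth.Agent.WQ8

open IsLocalRing

variable {B : Type u} [CommRing B] {A : Type v} [CommRing A] [IsDomain A] [Algebra B A]
  {G : Type w} [Group G] [Fintype G] [MulSemiringAction G A] [SMulCommClass G B A]

theorem trace_smul (g : G) (z : A) : g • (∑ h : G, h • z) = ∑ h : G, h • z := by
  rw [Finset.smul_sum]; exact Fintype.sum_equiv (Equiv.mulLeft g) _ _ fun h => smul_smul g h z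

/-- away from the ramified primes every element is recovered from finitely many traces -/
theorem exists_trace_family [Algebra.IsIntegral B A] (hinj : Function.Injective (algebraMap B A))
    (q : Ideal B) [q.IsPrime] (hq : ∀ P : Ideal A, P.IsPrime → P.comap (algebraMap B A) = q → P.inertia G = ⊥) :
    ∃ (m : ℕ) (x y : Fin m → A) (s : B), s ∉ q ∧ ∀ a : A, ∑ l, x l * ∑ g : G, g • (y l * a) = algebraMap B A s * a := by
  classical
  suffices ∀ S : Finset G, (∀ g ∈ S, g ≠ 1) → ∃ (m : ℕ) (x y : Fin m → A) (s : B),
      s ∉ q ∧ (∑ l, x l * y l = algebraMap B A s) ∧ ∀ g ∈ S, ∑ l, x l * g • y l = 0 by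
    obtain ⟨m, x, y, s, hs, h1, h2⟩ := this (Finset.univ.erase 1) fun g hg => Finset.ne_of_mem_erase hg
    refine ⟨m, x, y, s, hs, fun a => ?_⟩
    simp only [Finset.mul_sum]
    rw [Finset.sum_comm, Finset.sum_eq_single (1 : G) (fun g _ hg => ?_) (by simp), ← h1, Finset.sum_mul]
    · exact Finset.sum_congr rfl fun l _ => by rw [one_smul, mul_assoc]
    ·
      have : ∀ l, x l * g • (y l * a) = (x l * g • y l) * g • a := fun l => by rw [smul_mul', mul_assoc]
      simp only [this, ← Finset.sum_mul, h2 g (Finset.mem_erase.mpr ⟨hg, Finset.mem_univ g⟩), zero_mul]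
  intro S
  induction S using Finset.induction with
  | empty => exact fun _ => ⟨1, fun _ => 1, fun _ => 1, 1, fun h => (‹q.IsPrime›).ne_top ((Ideal.eq_top_iff_one q).mpr h), by simp, by simp⟩
  | insert g S hgS ih =>
    intro hS
    obtain ⟨m, x, y, s, hs, h1, h2⟩ := ih fun a ha => hS a (Finset.mem_insert_of_mem ha)
    have hg1 := hS g (Finset.mem_insert_self g S)
    let J : Ideal A := Ideal.span (Set.range fun b : A => b - g • b)
    obtain ⟨t, htJ, ht⟩ : ∃ t : B, algebraMap B A t ∈ J ∧ t ∉ q := by
      by_contra hno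
      simp only [not_exists, not_and, not_not] at hno
      obtain ⟨P, hPJ, hP, hPq⟩ := Ideal.exists_ideal_over_prime_of_isIntegral q J hno
      have hg : g ∈ P.inertia G := fun z => by
        have := P.neg_mem (hPJ (Ideal.subset_span ⟨z, rfl⟩ : z - g • z ∈ J))
        rwa [neg_sub] at this
      rw [hq P hP hPq, Subgroup.mem_bot] at hg
      exact hg1 hg
    obtain ⟨k, bs, cs, hc⟩ : ∃ (k : ℕ) (bs : Fin k → A) (cs : Fin k → A), ∑ l, cs l * (bs l - g • bs l) = algebraMap B A t := by
      obtain ⟨c, hc⟩ := Finsupp.mem_span_range_iff_exists_finsupp.mp htJ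
      refine ⟨c.support.card, fun l => (c.support.equivFin.symm l).1, fun l => c (c.support.equivFin.symm l).1, ?_⟩
      rw [← hc, Finsupp.sum, ← c.support.sum_coe_sort]
      exact Fintype.sum_equiv c.support.equivFin.symm _ _ fun _ => rfl
    let x' : Fin (k + 1) → A := Fin.snoc cs (-∑ l, cs l * g • bs l)
    let y' : Fin (k + 1) → A := Fin.snoc bs 1
    have h1' : ∑ l, x' l * y' l = algebraMap B A t := by
      rw [← hc, Fin.sum_univ_castSucc]; simp only [x', y', mul_sub, Finset.sum_sub_distrib]; simp [sub_eq_add_neg]
    have h2' : ∑ l, x' l * g • y' l = 0 := by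
      rw [Fin.sum_univ_castSucc]; simp [x', y']
    refine ⟨m * (k + 1), fun l => x (finProdFinEquiv.symm l).1 * x' (finProdFinEquiv.symm l).2,
      fun l => y (finProdFinEquiv.symm l).1 * y' (finProdFinEquiv.symm l).2, s * t, fun h => ((‹q.IsPrime›).mem_or_mem h).elim hs ht, ?_, ?_⟩
    · rw [map_mul, ← h1, ← h1', Finset.sum_mul_sum, ← Fintype.sum_prod_type']
      exact Fintype.sum_equiv finProdFinEquiv.symm _ _ fun l => by ring
    · intro a ha
      have key : ∀ σ : G, ∑ l, (x (finProdFinEquiv.symm l).1 * x' (finProdFinEquiv.symm l).2) *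
          σ • (y (finProdFinEquiv.symm l).1 * y' (finProdFinEquiv.symm l).2) = (∑ l, x l * σ • y l) * ∑ l, x' l * σ • y' l := fun σ => by
        rw [Finset.sum_mul_sum, ← Fintype.sum_prod_type']
        exact Fintype.sum_equiv finProdFinEquiv.symm _ _ fun l => by simp only [smul_mul']; ring
      rw [key]
      rcases Finset.mem_insert.mp ha with rfl | ha
      · rw [h2', mul_zero]
      · rw [h2 a ha, zero_mul]

omit [Fintype G] [IsDomain A] in
theorem smul_mem_maximal [IsLocalRing A] (g : G) {z : A} (hz : z ∈ maximalIdeal A) : g • z ∈ maximalIdeal A := fun h =>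
  hz (by simpa using (MulSemiringAction.toRingHom G A g⁻¹).isUnit_map h)

/-- a free extension which is unramified in codimension one is trivial -/
theorem subsingleton_of_free [IsDomain B] [IsNoetherianRing B] [IsLocalRing B] [IsLocalRing A] [Module.Finite B A] [Module.Free B A]
    [FaithfulSMul G A] (hinj : Function.Injective (algebraMap B A))
    (hres : ∀ a : A, ∃ b : B, a - algebraMap B A b ∈ maximalIdeal A)
    (hfix : ∀ a : A, (∀ g : G, g • a = a) → a ∈ Set.range (algebraMap B A))
    (hdim : 2 ≤ ringKrullDim B)
    (hq : ∀ P : Ideal A, P.IsPrime → P ≠ maximalIdeal A → P.inertia G = ⊥) : Subsingleton G := by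
  classical
  haveI : FaithfulSMul B A := (faithfulSMul_iff_algebraMap_injective B A).mpr hinj
  let ι := Module.Free.ChooseBasisIndex B A
  let b := Module.Free.chooseBasis B A
  have hT : ∀ z : A, ∃ t, algebraMap B A t = ∑ g : G, g • z := fun z => hfix _ fun g => trace_smul g z
  choose T hT using hT
  let M : Matrix ι ι B := Matrix.of fun i j => T (b i * b j)
  have hunit : IsUnit M.det := by
    by_contra hnu
    haveI : (⊥ : Ideal A).IsPrime := Ideal.isPrime_bot
    obtain ⟨q, hq1, -⟩ := Ideal.exists_minimalPrimes_le (I := Ideal.span {M.det}) (J := maximalIdeal B)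
      ((Ideal.span_singleton_le_iff_mem _).mpr hnu)
    haveI := hq1.1.1
    have hh : q.height ≤ 1 := Ideal.height_le_one_of_isPrincipal_of_mem_minimalPrimes _ q hq1
    have hqm : ¬ q.IsMaximal := fun hmax => by
      rw [IsLocalRing.eq_maximalIdeal hmax] at hh
      have h2 := IsLocalRing.maximalIdeal_height_eq_ringKrullDim (R := B)
      rw [← h2] at hdim
      have : (2 : ℕ∞) ≤ (maximalIdeal B).height := WithBot.coe_le_coe.mp hdim
      exact absurd (this.trans hh) (by norm_num)
    obtain ⟨m, x, y, s, hs, hxy⟩ := exists_trace_family (G := G) hinj q fun P hP hPq => hq P hP fun hPm => hqm (by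
      haveI : P.IsMaximal := hPm ▸ inferInstance
      rw [← hPq]; exact Ideal.isMaximal_comap_of_isIntegral_of_isMaximal P)
    let X : Matrix ι (Fin m) B := Matrix.of fun k l => b.repr (x l) k
    let Y : Matrix (Fin m) ι B := Matrix.of fun l i => b.repr (y l) i
    have hXYM : X * Y * M = s • (1 : Matrix ι ι B) := by
      ext k j
      have h0 : ∀ l, T (y l * b j) = ∑ i, b.repr (y l) i * M i j := fun l => hinj (by
        rw [hT, map_sum]
        simp only [M, Matrix.of_apply, map_mul, hT, Finset.mul_sum]
        rw [Finset.sum_comm]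
        refine Finset.sum_congr rfl fun g _ => ?_
        conv_lhs => rw [← b.sum_repr (y l), Finset.sum_mul, Finset.smul_sum]
        exact Finset.sum_congr rfl fun i _ => by rw [smul_mul_assoc, smul_comm, Algebra.smul_def])
      have h1 : s • b j = ∑ l, T (y l * b j) • x l := by
        rw [Algebra.smul_def, ← hxy]; exact Finset.sum_congr rfl fun l _ => by rw [Algebra.smul_def, hT, mul_comm]
      have h2 := congrArg (fun z => b.repr z k) h1
      simp only [map_smul, map_sum, Finsupp.smul_apply, Finsupp.coe_finsetSum, Finset.sum_apply, Module.Basis.repr_self, smul_eq_mul,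
        Finsupp.single_apply] at h2
      rw [Matrix.mul_assoc, Matrix.mul_apply]
      simp only [Matrix.mul_apply, X, Y, Matrix.of_apply, Matrix.smul_apply, Matrix.one_apply, smul_eq_mul]
      refine Eq.trans (Finset.sum_congr rfl fun l _ => ?_) (h2.symm.trans ?_)
      · show b.repr (x l) k * _ = T (y l * b j) * b.repr (x l) k
        rw [h0 l, mul_comm]
      congr 1
      by_cases hkj : k = j
      · rw [if_pos hkj.symm, if_pos hkj]
      · rw [if_neg fun e => hkj e.symm, if_neg hkj]
    have := congrArg Matrix.det hXYM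
    rw [Matrix.det_mul, Matrix.det_smul, Matrix.det_one, mul_one] at this
    exact hs (‹q.IsPrime›.mem_of_pow_mem _ (this ▸ Ideal.mul_mem_left _ _ (hq1.1.2 (Ideal.mem_span_singleton_self _))))
  -- at most one basis vector
  have hsub : Subsingleton ι := ⟨fun i j => by
    by_contra hij
    choose c hc using hres
    let v : ι → B := if c (b i) ∈ maximalIdeal B then Pi.single i 1 else Pi.single i (c (b j)) - Pi.single j (c (b i))
    have hvz : ∑ l, v l • b l ∈ maximalIdeal A := by
      have e : ∀ (i : ι) (c : B), ∑ l, (Pi.single i c : ι → B) l • b l = c • b i := fun i c => by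
        simp [Pi.single_apply, ite_smul]
      by_cases h : c (b i) ∈ maximalIdeal B
      · simp only [v, if_pos h, e, one_smul]
        have := hc (b i)
        have h' : algebraMap B A (c (b i)) ∈ maximalIdeal A := fun hu => by
          by_contra
          exact h (isUnit_of_map_unit (algebraMap B A) _ hu)
        simpa using add_mem this h'
      · simp only [v, if_neg h, Pi.sub_apply, sub_smul, Finset.sum_sub_distrib, e]
        simp only [Algebra.smul_def]
        have : algebraMap B A (c (b j)) * b i - algebraMap B A (c (b i)) * b j =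
            algebraMap B A (c (b j)) * (b i - algebraMap B A (c (b i))) - algebraMap B A (c (b i)) * (b j - algebraMap B A (c (b j))) := by ring
        rw [this]
        exact sub_mem (Ideal.mul_mem_left _ _ (hc _)) (Ideal.mul_mem_left _ _ (hc _))
    have hMv : ∀ k, M.mulVec v k ∈ maximalIdeal B := fun k hu => by
      have h1 : algebraMap B A (M.mulVec v k) ∈ maximalIdeal A := by
        have : algebraMap B A (M.mulVec v k) = ∑ g : G, g • (b k * ∑ l, v l • b l) := by
          simp only [Matrix.mulVec, dotProduct, M, Matrix.of_apply, map_sum, map_mul, hT, Finset.mul_sum, Finset.sum_mul, Finset.smul_sum]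
          rw [Finset.sum_comm]
          refine Finset.sum_congr rfl fun g _ => Finset.sum_congr rfl fun l _ => ?_
          rw [mul_smul_comm, smul_comm, Algebra.smul_def, mul_comm]
        rw [this]
        exact sum_mem fun g _ => smul_mem_maximal g (Ideal.mul_mem_left _ _ hvz)
      exact h1 (hu.map _)
    have hv : ∀ k, v k ∈ maximalIdeal B := fun k => by
      have : v = M⁻¹.mulVec (M.mulVec v) := by rw [Matrix.mulVec_mulVec, Matrix.nonsing_inv_mul _ hunit, Matrix.one_mulVec]
      rw [this]
      simp only [Matrix.mulVec, dotProduct]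
      exact sum_mem fun l _ => Ideal.mul_mem_left _ _ (hMv l)
    by_cases h : c (b i) ∈ maximalIdeal B
    · have := hv i
      simp only [v, if_pos h, Pi.single_eq_same] at this
      exact this isUnit_one
    · have := hv j
      simp only [v, if_neg h, Pi.sub_apply, Pi.single_eq_same, Pi.single_eq_of_ne (Ne.symm hij), zero_sub] at this
      exact h (by simpa using neg_mem this)⟩
  have hfixall : ∀ (g : G) (a : A), g • a = a := by
    obtain ⟨i₀⟩ : Nonempty ι := b.index_nonempty
    letI : Unique ι := uniqueOfSubsingleton i₀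
    have hb : ∀ a : A, ∃ c : B, a = c • b i₀ := fun a => ⟨b.repr a i₀, by
      conv_lhs => rw [← b.sum_repr a, Fintype.sum_unique]
      rfl⟩
    intro g a
    obtain ⟨c, hc⟩ := hb a
    obtain ⟨d, hd⟩ := hb 1
    have hd0 : d ≠ 0 := fun h => one_ne_zero (hd.trans (by rw [h, zero_smul]))
    have hgb : g • b i₀ = b i₀ := by
      have : d • g • b i₀ = d • b i₀ := by rw [← smul_comm, ← hd, smul_one]
      rw [Algebra.smul_def, Algebra.smul_def] at this
      exact mul_left_cancel₀ (fun h => hd0 (hinj (h.trans (map_zero _).symm))) this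
    rw [hc, smul_comm, hgb]
  exact ⟨fun g g' => eq_of_smul_eq_smul fun a : A => by rw [hfixall, hfixall]⟩

/-- flatness of the localizations at unramified primes -/
theorem flat_localization [Algebra.IsIntegral B A] (hinj : Function.Injective (algebraMap B A))
    (hfix : ∀ a : A, (∀ g : G, g • a = a) → a ∈ Set.range (algebraMap B A))
    (P : Ideal B) [P.IsPrime] (hq : ∀ Q : Ideal A, Q.IsPrime → Q.comap (algebraMap B A) = P → Q.inertia G = ⊥)
    (Q : Ideal A) [Q.IsPrime] (hQ : Q.comap (algebraMap B A) = P) : Module.Flat B (Localization.AtPrime Q) := by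
  classical
  obtain ⟨m, x, y, s, hs, hxy⟩ := exists_trace_family (G := G) hinj P hq
  have hT : ∀ z : A, ∃ t, algebraMap B A t = ∑ g : G, g • z := fun z => hfix _ fun g => trace_smul g z
  choose T hT using hT
  let L := Localization.AtPrime Q
  refine Module.Flat.of_forall_isTrivialRelation fun {l f ξ} h => ?_
  obtain ⟨t, ha⟩ := IsLocalization.exist_integer_multiples_of_finite Q.primeCompl ξ
  choose a ha using ha
  have hsu : IsUnit (algebraMap A L (algebraMap B A s * t)) := IsLocalization.map_units L (⟨algebraMap B A s * t, fun hmem => by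
    rcases ‹Q.IsPrime›.mem_or_mem hmem with h | h
    · exact hs (by rw [← hQ]; exact h)
    · exact t.2 h⟩ : Q.primeCompl)
  obtain ⟨u, hu⟩ := hsu
  have hrel : ∑ i, algebraMap B A (f i) * a i = 0 := by
    apply IsLocalization.injective L Q.primeCompl_le_nonZeroDivisors
    rw [map_sum, map_zero]
    calc ∑ i, algebraMap A L (algebraMap B A (f i) * a i) = (t : A) • ∑ i, f i • ξ i := by
          rw [Finset.smul_sum]
          refine Finset.sum_congr rfl fun i _ => ?_
          rw [map_mul, ha, ← IsScalarTower.algebraMap_apply, Algebra.smul_def, Algebra.smul_def, Algebra.smul_def]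
          ring
      _ = 0 := by rw [h, smul_zero]
  refine ⟨m, fun i j => T (y j * a i), fun j => (↑u⁻¹ : L) * algebraMap A L (x j), fun i => ?_, fun j => hinj ?_⟩
  · have h1 : algebraMap A L (algebraMap B A s * a i) = ∑ j, algebraMap A L (algebraMap B A (T (y j * a i))) * algebraMap A L (x j) := by
      simp only [← map_mul, ← map_sum, hT]
      exact congrArg _ ((hxy (a i)).symm.trans (Finset.sum_congr rfl fun j _ => mul_comm _ _))
    calc ξ i = (↑u⁻¹ : L) * ((u : L) * ξ i) := by rw [← mul_assoc, Units.inv_mul, one_mul]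
      _ = (↑u⁻¹ : L) * algebraMap A L (algebraMap B A s * a i) := by
          rw [hu, map_mul, map_mul, ha, Algebra.smul_def]; ring
      _ = _ := by
          rw [h1, Finset.mul_sum]
          refine Finset.sum_congr rfl fun j _ => ?_
          rw [Algebra.smul_def, ← IsScalarTower.algebraMap_apply B A L]; ring
  · rw [map_sum, map_zero]
    have : ∀ i, algebraMap B A (f i * T (y j * a i)) = ∑ g : G, g • (y j * (algebraMap B A (f i) * a i)) := fun i => by
      rw [map_mul, hT, Finset.mul_sum]
      exact Finset.sum_congr rfl fun g _ => by rw [← Algebra.smul_def, ← smul_comm, Algebra.smul_def]; congr 1; ring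
    simp only [this]
    rw [Finset.sum_comm]
    refine Finset.sum_eq_zero fun g _ => ?_
    rw [← Finset.smul_sum, ← Finset.mul_sum, hrel, mul_zero, smul_zero]

end Groth.Agent.WQ8
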