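import Groth.Agent.WQ8.Generate

set_option autoImplicit false
universe u v w

open scoped Pointwise

namespace Groth.Agent.WQ8

variable {R : Type u} [CommRing R] {A : Type v} [CommRing A] [IsDomain A] [Algebra R A]
  {H : Type w} [CommGroup H] [Finite H] [MulSemiringAction H A] [SMulCommClass H R A]
  {n : ℕ} (Gi : Fin n → Subgroup H)

theorem sup_le_span :
    Subalgebra.toSubmodule (⨆ i, B R A Gi i) ≤
      Submodule.span R {z : A | ∃ x : ∀ j, B R A Gi j, z = ∏ j, (x j : A)} := by
  classical
  let S : Set A := {z : A | ∃ x : ∀ j, B R A Gi j, z = ∏ j, (x j : A)}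
  have hmul : S * S ⊆ S := by
    rintro _ ⟨_, ⟨x, rfl⟩, _, ⟨y, rfl⟩, rfl⟩
    exact ⟨fun j => x j * y j, by simp [Finset.prod_mul_distrib]⟩
  let W : Subalgebra R A := (Submodule.span R S).toSubalgebra
    (Submodule.subset_span ⟨fun _ => 1, by simp⟩)
    (fun a b ha hb => by
      have := Submodule.mul_mem_mul ha hb
      rw [Submodule.span_mul_span] at this
      exact Submodule.span_mono hmul this)
  have : (⨆ i, B R A Gi i) ≤ W := iSup_le fun i z hz => Submodule.subset_span
    ⟨Function.update (fun _ => 1) i ⟨z, hz⟩, by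
      rw [Finset.prod_eq_single i (fun b _ hb => by simp [Function.update_of_ne hb]) (by simp), Function.update_self]⟩
  exact this

variable [Module.Finite R A]

theorem sum_smul_mem_range (M : Subgroup H) [Fintype M] (hM : M = ⊤)
    (hfix : ∀ a : A, (∀ h : H, h • a = a) → a ∈ Set.range (algebraMap R A)) (z : A) :
    ∑ h : M, (h : H) • z ∈ Set.range (algebraMap R A) := by
  subst hM
  refine hfix _ fun g => ?_
  rw [Finset.smul_sum]
  exact Fintype.sum_equiv (Equiv.mulLeft (⟨g, trivial⟩ : (⊤ : Subgroup H))) _ _ fun h => by simp [mul_smul]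

theorem sum_smul_mem_B (i : Fin n) [Fintype (perp Gi i : Subgroup H)] (z : A) :
    ∑ h : (perp Gi i : Subgroup H), (h : H) • z ∈ B R A Gi i := by
  refine (mem_B Gi).mpr fun g hg => ?_
  rw [Finset.smul_sum]
  exact Fintype.sum_equiv (Equiv.mulLeft (⟨g, hg⟩ : perp Gi i)) _ _ fun h => by simp [mul_smul]

variable [IsNoetherianRing R] [IsDomain R]

/-- local generation: every element is in the product of the invariant rings away from a prime of height at most one -/
theorem exists_scale (prod_bij : Function.Bijective fun g : ∀ j, Gi j => ∏ j, (g j : H))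
    (hinj : Function.Injective (algebraMap R A))
    (hfix : ∀ a : A, (∀ h : H, h • a = a) → a ∈ Set.range (algebraMap R A))
    (q : Ideal R) [q.IsPrime]
    (hq : (∀ j, ∀ P : Ideal A, P.IsPrime → P.comap (algebraMap R A) = q → P.inertia H ≤ perp Gi j) ∨
      ∃ i, ∀ j ≠ i, ∀ P : Ideal A, P.IsPrime → P.comap (algebraMap R A) = q → P.inertia H ≤ perp Gi j)
    (a : A) : ∃ s, s ∉ q ∧ algebraMap R A s * a ∈ ⨆ i, B R A Gi i := by
  classical
  haveI : Fintype H := Fintype.ofFinite H
  rcases hq with hq | ⟨i, hq⟩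
  · choose m x y s hs h1 h2 using fun j => exists_family Gi prod_bij j q hinj (hq j)
    refine ⟨∏ j, s j, fun h => ?_, mem_sup_of_families Gi prod_bij a ⊤ x y s h1
      (fun j h _ hc => h2 j _ (comp Gi prod_bij h j).2 (fun e => hc (Subtype.ext e))) fun z => ?_⟩
    · obtain ⟨j, -, hj⟩ := (‹q.IsPrime›).prod_mem_iff.mp h
      exact hs j hj
    · obtain ⟨r, hr⟩ := sum_smul_mem_range (R := R) (⊤ : Subgroup H) rfl hfix z
      rw [← hr]; exact Subalgebra.algebraMap_mem _ r
  · have : ∀ j, ∃ (m : ℕ) (x y : Fin m → B R A Gi j) (s : R), s ∉ q ∧ (∑ l, (x l : A) * y l = algebraMap R A s) ∧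
        (j ≠ i → ∀ g ∈ Gi j, g ≠ 1 → ∑ l, (x l : A) * g • (y l : A) = 0) := fun j => by
      by_cases hj : j = i
      · exact ⟨1, fun _ => 1, fun _ => 1, 1, fun h => (‹q.IsPrime›).ne_top ((Ideal.eq_top_iff_one q).mpr h), by simp, fun h => absurd hj h⟩
      · obtain ⟨m, x, y, s, hs, h1, h2⟩ := exists_family Gi prod_bij j q hinj (hq j hj)
        exact ⟨m, x, y, s, hs, h1, fun _ => h2⟩
    choose m x y s hs h1 h2 using this
    refine ⟨∏ j, s j, fun h => ?_, mem_sup_of_families Gi prod_bij a (perp Gi i) x y s h1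
      (fun j h hh hc => h2 j (fun hji => hc (hji ▸ comp_eq_one Gi prod_bij hh)) _ (comp Gi prod_bij h j).2 (fun e => hc (Subtype.ext e))) fun z => ?_⟩
    · obtain ⟨j, -, hj⟩ := (‹q.IsPrime›).prod_mem_iff.mp h
      exact hs j hj
    · exact le_iSup (B R A Gi) i (sum_smul_mem_B Gi i z)

theorem sup_eq_top [IsIntegrallyClosed R] (prod_bij : Function.Bijective fun g : ∀ j, Gi j => ∏ j, (g j : H))
    (hinj : Function.Injective (algebraMap R A))
    (hfix : ∀ a : A, (∀ h : H, h • a = a) → a ∈ Set.range (algebraMap R A))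
    [FaithfulSMul H A] (hfree : ∀ i, Module.Free R (B R A Gi i))
    (hloc : ∀ q : Ideal R, q.IsPrime → q.height ≤ 1 → q ≠ ⊥ →
      (∀ j, ∀ P : Ideal A, P.IsPrime → P.comap (algebraMap R A) = q → P.inertia H ≤ perp Gi j) ∨
      ∃ i, ∀ j ≠ i, ∀ P : Ideal A, P.IsPrime → P.comap (algebraMap R A) = q → P.inertia H ≤ perp Gi j) :
    (⨆ i, B R A Gi i) = ⊤ := by
  classical
  haveI : SMulCommClass R H A := SMulCommClass.symm H R A
  haveI : Fintype H := Fintype.ofFinite H
  haveI : Algebra.IsIntegral R A := inferInstance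
  have hbot : ∀ j, ∀ P : Ideal A, P.IsPrime → P.comap (algebraMap R A) = ⊥ → P.inertia H ≤ perp Gi j := by
    intro j P hP hc σ hσ
    have hP0 : P = ⊥ := Ideal.eq_bot_of_comap_eq_bot hc
    have : σ = 1 := eq_of_smul_eq_smul fun x : A => by
      have := hσ x
      rw [hP0] at this
      rw [one_smul]; exact sub_eq_zero.mp (Ideal.mem_bot.mp this)
    rw [this]; exact one_mem _
  haveI : ∀ i, Module.Finite R (B R A Gi i) := fun i =>
    Module.Finite.of_injective ((B R A Gi i).val.toLinearMap) Subtype.val_injective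
  let b := fun j => Module.Free.chooseBasis R (B R A Gi j)
  choose m x y ρ hρ h1 h2 using fun j => exists_family Gi prod_bij j (⊥ : Ideal R) hinj (hbot j)
  have hρ0 : ∀ j, ρ j ≠ 0 := fun j h => hρ j (Ideal.mem_bot.mpr h)
  -- the partial traces and dual elements
  let tr : ∀ j, A → A := fun j z => ∑ g : Gi j, (g : H) • z
  have htr : ∀ j, ∀ z ∈ B R A Gi j, ∃ t, algebraMap R A t = tr j z := fun j z hz => by
    refine hfix _ fun h => ?_
    simp only [tr, Finset.smul_sum]
    refine Fintype.sum_equiv (Equiv.mulLeft (comp Gi prod_bij h j)) _ _ fun g => ?_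
    rw [smul_eq_comp_smul Gi prod_bij (smul_mem_B Gi hz g) h, Equiv.coe_mulLeft, Subgroup.coe_mul, mul_smul]
  have hdual : ∀ j k, ∃ d : B R A Gi j, ∀ l, tr j ((d : A) * b j l) = algebraMap R A (if k = l then ρ j else 0) := fun j k => by
    refine ⟨∑ l, (b j).repr (x j l) k • y j l, fun l => ?_⟩
    choose t ht using fun l' => htr j ((y j l' : A) * b j l) (mul_mem (y j l').2 (b j l).2)
    have hkey : ρ j • b j l = ∑ l', t l' • x j l' := Subtype.ext <| by
      simp only [SetLike.val_smul, AddSubmonoidClass.coe_finsetSum]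
      simp only [Algebra.smul_def, ht, tr, Finset.sum_mul]
      rw [Finset.sum_comm, ← h1 j, Finset.sum_mul, Finset.sum_eq_single (1 : Gi j) (fun g _ hg => ?_) (by simp)]
      · refine Finset.sum_congr rfl fun l' _ => ?_
        rw [OneMemClass.coe_one, one_smul]; ring
      · calc ∑ l', (g : H) • ((y j l' : A) * b j l) * (x j l' : A)
            = (g : H) • (b j l : A) * ∑ l', (x j l' : A) * (g : H) • (y j l' : A) := by
              rw [Finset.mul_sum]; exact Finset.sum_congr rfl fun l' _ => by rw [smul_mul']; ring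
          _ = 0 := by rw [h2 j g g.2 (fun e => hg (Subtype.ext e)), mul_zero]
    have hc := congrArg (fun z => (b j).repr z k) hkey
    simp only [map_smul, map_sum, Finsupp.smul_apply, Finsupp.coe_finsetSum, Finset.sum_apply, Module.Basis.repr_self, smul_eq_mul,
      Finsupp.single_apply] at hc
    calc tr j (((∑ l', (b j).repr (x j l') k • y j l' : B R A Gi j) : A) * b j l)
        = ∑ l', algebraMap R A ((b j).repr (x j l') k) * tr j ((y j l' : A) * b j l) := by
          simp only [tr, AddSubmonoidClass.coe_finsetSum, SetLike.val_smul, Finset.sum_mul, Finset.smul_sum, Finset.mul_sum]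
          rw [Finset.sum_comm]
          refine Finset.sum_congr rfl fun l' _ => Finset.sum_congr rfl fun g _ => ?_
          rw [smul_mul_assoc, smul_comm, Algebra.smul_def]
      _ = algebraMap R A (∑ l', t l' * (b j).repr (x j l') k) := by
          rw [map_sum]; exact Finset.sum_congr rfl fun l' _ => by rw [map_mul, ← ht]; ring
      _ = _ := by
          rw [← hc]
          congr 1
          by_cases hkl : k = l
          · rw [if_pos hkl, if_pos hkl.symm, mul_one]
          · rw [if_neg hkl, if_neg (fun e => hkl e.symm), mul_zero]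
  choose d hd using hdual
  let bp : (∀ j, Module.Free.ChooseBasisIndex R (B R A Gi j)) → A := fun k => ∏ j, (b j (k j) : A)
  let dp : (∀ j, Module.Free.ChooseBasisIndex R (B R A Gi j)) → A := fun k => ∏ j, (d j (k j) : A)
  have hexp : ∀ z ∈ ⨆ i, B R A Gi i, ∃ c : (∀ j, Module.Free.ChooseBasisIndex R (B R A Gi j)) → R, z = ∑ k, c k • bp k := by
    intro z hz
    have hz' : z ∈ Submodule.span R (Set.range bp) := by
      refine (Submodule.span_le.mpr ?_) (sup_le_span Gi hz)
      rintro _ ⟨w, rfl⟩
      have : ∀ j, (w j : A) = ∑ l, (b j).repr (w j) l • (b j l : A) := fun j => by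
        conv_lhs => rw [← (b j).sum_repr (w j)]
        simp only [AddSubmonoidClass.coe_finsetSum, SetLike.val_smul]
      simp only [this, Finset.prod_univ_sum]
      refine sum_mem fun k _ => ?_
      simp only [Algebra.smul_def, Finset.prod_mul_distrib, ← map_prod]
      rw [← Algebra.smul_def]
      exact Submodule.smul_mem _ _ (Submodule.subset_span ⟨k, rfl⟩)
    obtain ⟨c, hc⟩ := (Submodule.mem_span_range_iff_exists_fun R).mp hz'
    exact ⟨c, hc.symm⟩
  let T : A → A := fun z => ∑ h : H, h • z
  have hTR : ∀ z, ∃ t, algebraMap R A t = T z := fun z => hfix _ fun g => by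
    simp only [T, Finset.smul_sum]
    exact Fintype.sum_equiv (Equiv.mulLeft g) _ _ fun h => by simp [mul_smul]
  have horth : ∀ k k', T (dp k * bp k') = algebraMap R A (if k = k' then ∏ j, ρ j else 0) := by
    intro k k'
    have : T (dp k * bp k') = ∏ j, tr j ((d j (k j) : A) * b j (k' j)) := by
      simp only [tr, Finset.prod_univ_sum, Fintype.piFinset_univ, T]
      refine (Fintype.sum_equiv (Equiv.ofBijective _ prod_bij) _ _ fun g => ?_).symm
      simp only [dp, bp, ← Finset.prod_mul_distrib, Finset.smul_prod', Equiv.ofBijective_apply]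
      refine Finset.prod_congr rfl fun j _ => ?_
      rw [smul_eq_comp_smul Gi prod_bij (mul_mem (d j (k j)).2 (b j (k' j)).2) (∏ l, (g l : H)),
        show comp Gi prod_bij (∏ l, (g l : H)) = g from (Equiv.ofBijective _ prod_bij).symm_apply_apply g]
    simp only [this, hd, ← map_prod]
    congr 1
    split_ifs with hk
    · subst hk; simp
    · obtain ⟨j, hj⟩ := Function.ne_iff.mp hk
      exact Finset.prod_eq_zero (Finset.mem_univ j) (by simp [hj])
  refine eq_top_iff.mpr fun a _ => ?_
  choose τ hτ using fun k => hTR (a * dp k)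
  have hscaled : ∀ (s : R) (c : _ → R), algebraMap R A s * a = ∑ k, c k • bp k → ∀ k, s * τ k = (∏ j, ρ j) * c k := by
    intro s c hc k
    apply hinj
    calc algebraMap R A (s * τ k) = T (algebraMap R A s * a * dp k) := by
          rw [map_mul, hτ]; simp only [T, Finset.mul_sum, mul_assoc]
          exact Finset.sum_congr rfl fun h _ => by rw [← Algebra.smul_def, ← Algebra.smul_def, smul_comm]
      _ = ∑ k', algebraMap R A (c k') * T (dp k * bp k') := by
          rw [hc]; simp only [T, Finset.sum_mul, Finset.smul_sum, Finset.mul_sum]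
          rw [Finset.sum_comm]
          refine Finset.sum_congr rfl fun k' _ => Finset.sum_congr rfl fun h _ => ?_
          rw [smul_mul_assoc, smul_comm, Algebra.smul_def, mul_comm (bp k')]
      _ = _ := by
          simp only [horth]
          rw [Finset.sum_eq_single k (fun b _ hb => by rw [if_neg (Ne.symm hb), map_zero, mul_zero]) (by simp), if_pos rfl, ← map_mul, mul_comm]
  have hρp : (∏ j, ρ j) ≠ 0 := Finset.prod_ne_zero_iff.mpr fun j _ => hρ0 j
  have hdvd : ∀ k, (∏ j, ρ j) ∣ τ k := fun k => dvd_of_locally hρp fun q hq hh => by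
    haveI := hq
    obtain ⟨s, hs, hsa⟩ := exists_scale Gi prod_bij hinj hfix q (if hb : q = ⊥ then Or.inl (hb ▸ hbot) else hloc q hq hh hb) a
    obtain ⟨c, hc⟩ := hexp _ hsa
    exact ⟨s, hs, c k, hscaled s c hc k⟩
  choose c hc using hdvd
  obtain ⟨t, ht, hta⟩ := exists_scale Gi prod_bij hinj hfix (⊥ : Ideal R) (Or.inl hbot) a
  obtain ⟨e, he⟩ := hexp _ hta
  have he' : ∀ k, e k = t * c k := fun k => mul_left_cancel₀ hρp (by rw [← hscaled t e he k, hc k]; ring)
  have ha : a = ∑ k, c k • bp k := by
    refine mul_left_cancel₀ (fun h0 => ht (Ideal.mem_bot.mpr (hinj (h0.trans (map_zero _).symm)))) (he.trans ?_)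
    rw [Finset.mul_sum]
    exact Finset.sum_congr rfl fun k _ => by rw [he', mul_smul, Algebra.smul_def t]
  rw [ha]
  exact sum_mem fun k _ => Subalgebra.smul_mem _ (prod_mem fun j _ => le_iSup (B R A Gi) j (b j (k j)).2) _

end Groth.Agent.WQ8
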